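import Cfsg.Agent.Lib.Fi23Loc.Edge
import Cfsg.Agent.Lib.Fi22Loc.Setting

/-!
The centraliser of the exchange modulo the exchange satisfies the setting of Fi22.
-/

set_option autoImplicit false
set_option linter.unusedSectionVars false
set_option synthInstance.maxSize 1024
set_option maxRecDepth 100000

namespace CfsgLib.Fi23Loc

open CfsgLib.Fi22Loc (Bk dg V6 appB ψ)
open CfsgLib.U6Three (SL23)

universe u

theorem iota_zero : iota 0 = 0 := funext fun a => by simp [iota, cK]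

theorem iota_neg (u : V6) : iota (-u) = -iota u :=
  eq_neg_of_add_eq_zero_left (by rw [← iota_add, neg_add_cancel, iota_zero])

theorem iota_fix (u : V6) : T swB (iota u) = iota u := by
  have h := (resB_sound u_res.2.2 : Res (Te swB) 1) u
  rwa [Fi22Loc.appB_one] at h

namespace Setting

variable {G : Type u} [Group G] {D : Setting G} {t : G}

/-- The exchange as an element. -/
structure Exch (D : Setting G) (t : G) : Prop where
  sq : t * t = 1
  ne : t ≠ 1
  acts : D.Acts t SW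

theorem Exch.t_inv (X : D.Exch t) : t⁻¹ = t := inv_eq_of_mul_eq_one_right X.sq

theorem Exch.t_q (X : D.Exch t) (w : W8) : t * D.q w * t⁻¹ = D.q (T swB w) := X.acts.2.2 w

theorem Exch.comm_iota (X : D.Exch t) (u : V6) : Commute t (D.q (iota u)) := by
  have h := X.t_q (iota u)
  rw [iota_fix, mul_inv_eq_iff_eq_mul] at h
  exact h

theorem Exch.not_Q (X : D.Exch t) {x : G} (h : x ∈ D.Q) : x ≠ t := fun e => X.ne (by
  have h3 := D.Q_cube (e ▸ h)
  rwa [pow_succ, pow_two, X.sq, one_mul] at h3)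

/-- The only multiple by the exchange of order three is itself. -/
theorem Exch.cube_eq (X : D.Exch t) {x y : G} (hxt : Commute x t) (hx : x ^ 3 = 1) (hy : y ^ 3 = 1)
    (h : y = x ∨ y = x * t) : y = x :=
  h.resolve_right fun e => X.ne (by
    rw [e, hxt.mul_pow, hx, one_mul, pow_succ, pow_two, X.sq, one_mul] at hy
    exact hy)

theorem Acts.neg {f : NN} (hf : D.Acts D.j f) : ∀ v, (f : Equiv.Perm W8) v = -v := fun v => D.q_injective (by
  rw [← hf.2.2 v, ← D.j_q v, inv_eq_of_mul_eq_one_right D.j_sq])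

/-- A lift commuting with the exchange. -/
theorem Exch.lift_comm (X : D.Exch t) {s : G} {f : NN} (hs : D.Acts s f) (hf : Commute f SW) : Commute s t := by
  have h1 : D.Acts (t * s * t⁻¹ * s⁻¹) 1 := by
    refine ⟨((X.acts.1.mul_left hs.1).mul_left X.acts.1.inv_left).mul_left hs.1.inv_left,
      ((X.acts.2.1.mul_left hs.2.1).mul_left X.acts.2.1.inv_left).mul_left hs.2.1.inv_left, fun v => ?_⟩
    have hinv : ∀ (g : G) (e : NN), (∀ w, g * D.q w * g⁻¹ = D.q ((e : Equiv.Perm W8) w)) →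
        ∀ w, g⁻¹ * D.q w * g = D.q (((e⁻¹ : NN) : Equiv.Perm W8) w) := fun g e he w => by
      have := he (((e⁻¹ : NN) : Equiv.Perm W8) w)
      rw [← Equiv.Perm.mul_apply, ← Subgroup.coe_mul, mul_inv_cancel, Subgroup.coe_one, Equiv.Perm.one_apply] at this
      rw [← this]; group
    rw [show t * s * t⁻¹ * s⁻¹ * D.q v * (t * s * t⁻¹ * s⁻¹)⁻¹ = t * (s * (t⁻¹ * (s⁻¹ * D.q v * s) * t) * s⁻¹) * t⁻¹
      by group, hinv s f hs.2.2, hinv t SW X.acts.2.2, hs.2.2, X.acts.2.2, ← Equiv.Perm.mul_apply,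
      ← Equiv.Perm.mul_apply, ← Equiv.Perm.mul_apply, ← Subgroup.coe_mul, ← Subgroup.coe_mul, ← Subgroup.coe_mul,
      show SW * f * SW⁻¹ * f⁻¹ = 1 by rw [← hf.eq]; group]
  obtain ⟨o, ho⟩ := D.levi_trivial h1
  have e1 : t * s * t⁻¹ = D.zz o * s := by rw [← ho]; group
  have e2 : s = D.zz (o + o) * s := by
    calc s = t * (t * s * t⁻¹) * t⁻¹ := by
          rw [X.t_inv, show t * (t * s * t) * t = t * t * s * (t * t) by group, X.sq, one_mul, mul_one]
      _ = t * (D.zz o * s) * t⁻¹ := by rw [e1]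
      _ = t * D.zz o * t⁻¹ * (t * s * t⁻¹) := by group
      _ = _ := by rw [D.zz_conj X.acts.1, e1, ← mul_assoc, ← D.zz_add]
  have e3 : o + o = 0 := D.zz_inj (by rw [D.zz_zero]; exact (mul_eq_right.mp e2.symm))
  rw [(by decide : ∀ a : ZMod 3, a + a = 0 → a = 0) o e3, D.zz_zero, one_mul, mul_inv_eq_iff_eq_mul] at e1
  exact e1.symm

/-- The centraliser of the central element inside the centraliser of the exchange. -/
theorem Exch.cent_form (X : D.Exch t) {h : G} (hz : Commute h D.z) (ht : Commute h t) :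
    ∃ u s f, h = D.q (iota u) * s ∧ D.Acts s f ∧ Commute f SW ∧ Commute s t ∧ D.Img h f := by
  obtain ⟨w, s, f, rfl, hs, hf⟩ := D.cases_H hz
  have e : t * (D.q w * s) * t⁻¹ = D.q w * s := by rw [ht.symm.eq, mul_inv_cancel_right]
  rw [show t * (D.q w * s) * t⁻¹ = t * D.q w * t⁻¹ * (t * s * t⁻¹) by group, X.t_q] at e
  have hd : (D.q w)⁻¹ * D.q (T swB w) = s * (t * s * t⁻¹)⁻¹ := by
    calc (D.q w)⁻¹ * D.q (T swB w) = (D.q w)⁻¹ * (D.q (T swB w) * (t * s * t⁻¹)) * (t * s * t⁻¹)⁻¹ := by group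
      _ = _ := by rw [e]; group
  have hj : Commute ((D.q w)⁻¹ * D.q (T swB w)) D.j :=
    hd ▸ hs.2.1.mul_left ((X.acts.2.1.mul_left hs.2.1).mul_left X.acts.2.1.inv_left).inv_left
  rw [D.q_inv, D.q_mul'] at hj
  have hw : T swB w = w := by
    have h2 : Commute (D.q (-w + T swB w)) D.j := by
      have h3 : Commute (D.zz (-Om (-w) (T swB w))) D.j := (D.j_z.symm).pow_left _
      simpa using (h3.inv_left.mul_left hj)
    have h4 := D.j_q (-w + T swB w)
    rw [← h2.eq, mul_assoc, D.j_sq, mul_one] at h4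
    have h5 := D.q_injective h4
    have h6 : -w + T swB w = 0 := funext fun i =>
      (by decide : ∀ x : ZMod 3, x = -x → x = 0) _ (congrFun h5 i)
    exact (neg_add_eq_zero.mp h6).symm
  obtain ⟨u, hu⟩ := fix_planes hw
  rw [hw, mul_right_inj] at e
  have hst : Commute s t := (mul_inv_eq_iff_eq_mul.mp e).symm
  refine ⟨u, s, f, by rw [hu], hs, ?_, hst, hf⟩
  have h7 := (hs.img.mul hs.1 X.acts.img)
  rw [hst.eq] at h7
  exact h7.unique (X.acts.img.mul X.acts.1 hs.img)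

variable (t) in
/-- The centraliser of the exchange. -/
def KK : Subgroup G := Subgroup.centralizer ({t} : Set G)

theorem mem_KK {x : G} : x ∈ KK t ↔ Commute x t := Subgroup.mem_centralizer_singleton_iff

variable (t) in
/-- The exchange in its centraliser. -/
def tK : ↥(KK t) := ⟨t, mem_KK.mpr (Commute.refl t)⟩

variable (t) in
/-- The group of order two. -/
def N0 : Subgroup ↥(KK t) := Subgroup.zpowers (tK t)

instance N0_normal : (N0 t).Normal := ⟨fun x hx y => by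
  obtain ⟨n, rfl⟩ := Subgroup.mem_zpowers_iff.mp hx
  rw [(show Commute y (tK t) from Subtype.ext (mem_KK.mp y.2).eq).zpow_right n |>.eq, mul_inv_cancel_right]
  exact Subgroup.zpow_mem_zpowers _ _⟩

variable (t) in
/-- The quotient. -/
abbrev Kq := ↥(KK t) ⧸ N0 t

theorem Exch.kq_eq (X : D.Exch t) {a b : ↥(KK t)} :
    (QuotientGroup.mk' (N0 t) a = QuotientGroup.mk' (N0 t) b) ↔ (b : G) = a ∨ (b : G) = a * t := by
  rw [QuotientGroup.mk'_apply, QuotientGroup.mk'_apply, QuotientGroup.eq]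
  constructor
  · intro h
    obtain ⟨n, hn⟩ := Subgroup.mem_zpowers_iff.mp h
    have hb : (b : G) = a * t ^ n := by
      have := congrArg Subtype.val hn
      simp only [tK, SubgroupClass.coe_zpow, Subgroup.coe_mul, InvMemClass.coe_inv] at this
      rw [this]; group
    have t2 : t ^ (2 : ℤ) = 1 := by rw [zpow_two, X.sq]
    rcases Int.even_or_odd n with ⟨m, rfl⟩ | ⟨m, rfl⟩
    · exact Or.inl (by rw [hb, ← two_mul, zpow_mul, t2, one_zpow, mul_one])
    · exact Or.inr (by rw [hb, zpow_add_one, zpow_mul, t2, one_zpow, one_mul])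
  · rintro (e | e)
    · rw [show b = a from Subtype.ext e, inv_mul_cancel]; exact one_mem _
    · rw [show b = a * tK t from Subtype.ext e, inv_mul_cancel_left]; exact Subgroup.mem_zpowers _

variable (X : D.Exch t)
include X

/-- The central element in the centraliser. -/
def Exch.zK : ↥(KK t) := ⟨D.z, mem_KK.mpr X.acts.1.symm⟩

/-- The involution in the centraliser. -/
def Exch.jK : ↥(KK t) := ⟨D.j, mem_KK.mpr X.acts.2.1.symm⟩

/-- The coordinates in the centraliser. -/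
def Exch.qK (u : V6) : ↥(KK t) := ⟨D.q (iota u), mem_KK.mpr (X.comm_iota u).symm⟩

theorem Exch.zz_t (k : ZMod 3) : Commute (D.zz k) t := (X.acts.1.symm).pow_left _

theorem Exch.comm_z {x : ↥(KK t)}
    (h : Commute (QuotientGroup.mk' (N0 t) x) (QuotientGroup.mk' (N0 t) X.zK)) : Commute (x : G) D.z := by
  have e : QuotientGroup.mk' (N0 t) X.zK = QuotientGroup.mk' (N0 t) (x * X.zK * x⁻¹) := by
    rw [map_mul, map_mul, map_inv, h.eq, mul_inv_cancel_right]
  have := X.cube_eq X.acts.1.symm D.z_cube (y := (x : G) * D.z * (x : G)⁻¹)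
    (by rw [conj_pow, D.z_cube, mul_one, mul_inv_cancel]) (X.kq_eq.mp e)
  exact mul_inv_eq_iff_eq_mul.mp this

theorem Exch.comm_j {x : ↥(KK t)} (hz : Commute (x : G) D.z)
    (h : Commute (QuotientGroup.mk' (N0 t) x) (QuotientGroup.mk' (N0 t) X.jK)) : Commute (x : G) D.j := by
  have e : QuotientGroup.mk' (N0 t) X.jK = QuotientGroup.mk' (N0 t) (x * X.jK * x⁻¹) := by
    rw [map_mul, map_mul, map_inv, h.eq, mul_inv_cancel_right]
  refine mul_inv_eq_iff_eq_mul.mp ((X.kq_eq.mp e).resolve_right fun h2 => SW_ne ?_)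
  obtain ⟨f, hf⟩ := D.act D.j D.j_z (Commute.refl _)
  have hja : D.Acts D.j f := ⟨D.j_z, Commute.refl _, hf⟩
  have hjC : D.j ∈ D.CC := D.mem_CC.mpr D.j_z
  have hxC : (x : G) ∈ D.CC := D.mem_CC.mpr hz
  have htC : t ∈ D.CC := D.mem_CC.mpr X.acts.1
  have hρ : D.ρ ⟨x, hxC⟩ * f * (D.ρ ⟨x, hxC⟩)⁻¹ = f * SW := by
    rw [← D.ρ_eq (h := ⟨_, hjC⟩) hja.img, ← D.ρ_eq (h := ⟨t, htC⟩) X.acts.img, ← map_inv, ← map_mul, ← map_mul,
      ← map_mul]
    exact congrArg D.ρ (Subtype.ext h2)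
  have hc : D.ρ ⟨x, hxC⟩ * f = f * D.ρ ⟨x, hxC⟩ := Subtype.ext (Equiv.ext fun v => by
    simp only [Subgroup.coe_mul, Equiv.Perm.mul_apply, hja.neg, NN_neg])
  rw [hc, mul_inv_cancel_right] at hρ
  exact left_eq_mul.mp hρ

theorem Exch.levi {x : ↥(KK t)} (hz : Commute (x : G) D.z) (hj : Commute (x : G) D.j) :
    ∃ f : NN, Commute f SW ∧ D.Acts (x : G) f := by
  obtain ⟨f, hf⟩ := D.act _ hz hj
  have hA : D.Acts (x : G) f := ⟨hz, hj, hf⟩
  have ht : Commute (x : G) t := mem_KK.mp x.2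
  have h7 := (hA.img.mul hA.1 X.acts.img)
  rw [ht.eq] at h7
  exact ⟨f, h7.unique (X.acts.img.mul X.acts.1 hA.img), hA⟩

theorem Exch.q_act {x : ↥(KK t)} {u w : V6}
    (h : QuotientGroup.mk' (N0 t) x * QuotientGroup.mk' (N0 t) (X.qK u) * (QuotientGroup.mk' (N0 t) x)⁻¹ =
      QuotientGroup.mk' (N0 t) (X.qK w)) : (x : G) * D.q (iota u) * (x : G)⁻¹ = D.q (iota w) := by
  rw [← map_inv, ← map_mul, ← map_mul] at h
  exact X.cube_eq (X.comm_iota w).symm (D.q_cube _) (by rw [conj_pow, D.q_cube, mul_one, mul_inv_cancel])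
    (X.kq_eq.mp h.symm)

theorem Exch.pi_act {x : ↥(KK t)} {u w : V6} (h : (x : G) * D.q (iota u) * (x : G)⁻¹ = D.q (iota w)) :
    QuotientGroup.mk' (N0 t) x * QuotientGroup.mk' (N0 t) (X.qK u) * (QuotientGroup.mk' (N0 t) x)⁻¹ =
      QuotientGroup.mk' (N0 t) (X.qK w) := by
  rw [← map_inv, ← map_mul, ← map_mul]
  exact congrArg _ (Subtype.ext h)

theorem Exch.diag_iff (g : Fin 3 → SL23) :
    (∃ s : Kq t, Commute s (QuotientGroup.mk' (N0 t) X.zK) ∧ Commute s (QuotientGroup.mk' (N0 t) X.jK) ∧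
      ∀ v, s * QuotientGroup.mk' (N0 t) (X.qK v) * s⁻¹ = QuotientGroup.mk' (N0 t) (X.qK (appB (dg g) v))) ↔
    ∃ f : NN, Commute f SW ∧ Res (f : Equiv.Perm W8) (dg g) := by
  constructor
  · rintro ⟨s, hsz, hsj, hs⟩
    obtain ⟨x, rfl⟩ := QuotientGroup.mk'_surjective (N0 t) s
    have hz := X.comm_z hsz
    obtain ⟨f, hf, hA⟩ := X.levi hz (X.comm_j hz hsj)
    exact ⟨f, hf, fun v => D.q_injective ((hA.2.2 _).symm.trans (X.q_act (hs v)))⟩
  · rintro ⟨f, hf, hr⟩
    obtain ⟨s, hs⟩ := D.exists_lift f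
    refine ⟨QuotientGroup.mk' (N0 t) ⟨s, mem_KK.mpr (X.lift_comm hs hf)⟩, ?_, ?_, fun v => X.pi_act ?_⟩
    · exact (show Commute (⟨s, _⟩ : ↥(KK t)) X.zK from Subtype.ext hs.1.eq).map _
    · exact (show Commute (⟨s, _⟩ : ↥(KK t)) X.jK from Subtype.ext hs.2.1.eq).map _
    · rw [← hr v]; exact hs.2.2 _

theorem Exch.blocks {s : Kq t} (hsz : Commute s (QuotientGroup.mk' (N0 t) X.zK))
    (hsj : Commute s (QuotientGroup.mk' (N0 t) X.jK)) :
    ∃ b : Bk, ∀ v, s * QuotientGroup.mk' (N0 t) (X.qK v) * s⁻¹ = QuotientGroup.mk' (N0 t) (X.qK (appB b v)) := by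
  obtain ⟨x, rfl⟩ := QuotientGroup.mk'_surjective (N0 t) s
  have hz := X.comm_z hsz
  obtain ⟨f, hf, hA⟩ := X.levi hz (X.comm_j hz hsj)
  obtain ⟨b, hb⟩ := res_exists hf
  exact ⟨b, fun v => X.pi_act (by rw [← hb v]; exact hA.2.2 _)⟩

theorem Exch.decomp {h : Kq t} (hh : Commute h (QuotientGroup.mk' (N0 t) X.zK)) :
    ∃ u s, Commute s (QuotientGroup.mk' (N0 t) X.zK) ∧ Commute s (QuotientGroup.mk' (N0 t) X.jK) ∧
      h = QuotientGroup.mk' (N0 t) (X.qK u) * s := by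
  obtain ⟨x, rfl⟩ := QuotientGroup.mk'_surjective (N0 t) h
  obtain ⟨u, s, f, e, hs, -, hst, -⟩ := X.cent_form (X.comm_z hh) (mem_KK.mp x.2)
  refine ⟨u, QuotientGroup.mk' (N0 t) ⟨s, mem_KK.mpr hst⟩, ?_, ?_, ?_⟩
  · exact (show Commute (⟨s, _⟩ : ↥(KK t)) X.zK from Subtype.ext hs.1.eq).map _
  · exact (show Commute (⟨s, _⟩ : ↥(KK t)) X.jK from Subtype.ext hs.2.1.eq).map _
  · rw [← map_mul]; exact congrArg _ (Subtype.ext e)

theorem Exch.self' {x : Kq t} (h : ∀ v, Commute x (QuotientGroup.mk' (N0 t) (X.qK v))) :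
    ∃ k : ZMod 3, x = QuotientGroup.mk' (N0 t) X.zK ^ k.val := by
  obtain ⟨y, rfl⟩ := QuotientGroup.mk'_surjective (N0 t) x
  have hq : ∀ v, (y : G) * D.q (iota v) * (y : G)⁻¹ = D.q (iota v) := fun v =>
    X.q_act (by rw [(h v).eq, mul_inv_cancel_right])
  have hc : ∀ v, Commute (y : G) (D.q (iota v)) := fun v => mul_inv_eq_iff_eq_mul.mp (hq v)
  have hyz : Commute (y : G) D.z := by
    obtain ⟨w, hw⟩ := Fi22Loc.om_nondeg (v := Fi22Loc.emb 0 (1, 0)) (fun e => by
      have := congrFun e 0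
      simp [Fi22Loc.emb] at this)
    have hzz : Commute (y : G) (D.zz (-Fi22Loc.om (Fi22Loc.emb 0 (1, 0)) w)) := by
      rw [← iota_om, show D.zz (-Om (iota (Fi22Loc.emb 0 (1, 0))) (iota w)) = D.q (iota (Fi22Loc.emb 0 (1, 0))) *
        D.q (iota w) * (D.q (iota (Fi22Loc.emb 0 (1, 0) + w)))⁻¹ by rw [D.q_mul', iota_add, mul_inv_cancel_right]]
      exact ((hc _).mul_right (hc _)).mul_right (hc _).inv_right
    rcases z_cases (-Fi22Loc.om (Fi22Loc.emb 0 (1, 0)) w) with r | r | r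
    · exact absurd (neg_eq_zero.mp r) hw
    · rwa [r, D.zz_one] at hzz
    · rw [r, D.zz_neg, D.zz_one] at hzz; simpa using hzz.inv_right
  obtain ⟨u, s, f, e, hs, hf, hst, himg⟩ := X.cent_form hyz (mem_KK.mp y.2)
  have hres : Res (f : Equiv.Perm W8) 1 := fun v => by
    obtain ⟨o, ho⟩ := himg (iota v)
    rw [hq v] at ho
    rw [Fi22Loc.appB_one]
    exact ((D.el_inj ((by rw [D.zz_zero, one_mul] : D.zz 0 * D.q (iota v) = D.q (iota v)).trans ho)).2).symm
  obtain ⟨o, r, hr, hrs⟩ : ∃ o : ZMod 3, ∃ r : G, (r = 1 ∨ r = t) ∧ s = D.zz o * r := by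
    rcases res_kernel hf hres with rfl | rfl
    · obtain ⟨o, ho⟩ := D.levi_trivial hs
      exact ⟨o, 1, Or.inl rfl, by rw [ho, mul_one]⟩
    · obtain ⟨o, ho⟩ := D.levi_trivial (s := s * t) ⟨hs.1.mul_left X.acts.1, hs.2.1.mul_left X.acts.2.1, fun v => by
        rw [show s * t * D.q v * (s * t)⁻¹ = s * (t * D.q v * t⁻¹) * s⁻¹ by group, X.acts.2.2, hs.2.2,
          ← Equiv.Perm.mul_apply, ← Subgroup.coe_mul, SW_sq]⟩
      exact ⟨o, t, Or.inr rfl, by rw [← ho, mul_assoc, X.sq, mul_one]⟩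
  have hu : u = 0 := by
    by_contra hne
    obtain ⟨w, hw⟩ := Fi22Loc.om_nondeg hne
    have hst' : Commute s (D.q (iota w)) := by
      rw [hrs]
      refine (D.zz_q o _).mul_left ?_
      rcases hr with rfl | rfl
      exacts [Commute.one_left _, X.comm_iota w]
    have h1 := hc w
    rw [e] at h1
    have h2 : Commute (D.q (iota u)) (D.q (iota w)) := by simpa using h1.mul_left hst'.inv_left
    exact hw (by rw [← iota_om]; exact D.q_comm.mp h2)
  subst hu
  rw [iota_zero, D.q_zero, one_mul, hrs] at e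
  refine ⟨o, ?_⟩
  rw [← map_pow]
  refine X.kq_eq.mpr ?_
  rcases hr with rfl | rfl
  · exact Or.inl (by rw [e, mul_one]; rfl)
  · refine Or.inr ?_
    rw [e, mul_assoc, X.sq, mul_one]
    rfl

/-- The setting of Fi22 on the quotient. -/
def Exch.loc {h : G} {k : ZMod 3} {v : W8} (hh : Commute h t) (he : h * D.z * h⁻¹ = D.zz k * D.q v) (hv : v ≠ 0)
    (hsw : T swB v = v) : Fi22Loc.Setting (Kq t) where
  z := QuotientGroup.mk' (N0 t) X.zK
  j := QuotientGroup.mk' (N0 t) X.jK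
  q u := QuotientGroup.mk' (N0 t) (X.qK u)
  z_cube := by rw [← map_pow, show X.zK ^ 3 = 1 from Subtype.ext D.z_cube, map_one]
  z_ne e := by
    rw [← map_one (QuotientGroup.mk' (N0 t))] at e
    exact D.z_ne (X.cube_eq (Commute.one_left t) (one_pow _) D.z_cube (X.kq_eq.mp e.symm))
  j_sq := by rw [← map_mul, show X.jK * X.jK = 1 from Subtype.ext D.j_sq, map_one]
  j_z := (show Commute X.jK X.zK from Subtype.ext D.j_z.eq).map _
  q_z u := (show Commute (X.qK u) X.zK from Subtype.ext (D.q_z _).eq).map _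
  q_mul u w := by
    rw [← map_mul, ← map_pow, ← map_mul]
    refine congrArg _ (Subtype.ext ?_)
    show D.q (iota u) * D.q (iota w) = D.zz (-Fi22Loc.om u w) * D.q (iota (u + w))
    rw [D.q_mul', iota_om, iota_add]
  q_inj k u e := by
    rw [← map_pow, ← map_mul, ← map_one (QuotientGroup.mk' (N0 t))] at e
    have h3 : D.zz k * D.q (iota u) = 1 := X.cube_eq (Commute.one_left t) (one_pow _) (D.el_cube _ _)
      (X.kq_eq.mp e.symm)
    obtain ⟨h1, h2⟩ := D.q_inj k (iota u) h3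
    exact ⟨h1, iota_inj h2⟩
  j_q u := by
    rw [← map_mul, ← map_mul]
    refine congrArg _ (Subtype.ext ?_)
    show D.j * D.q (iota u) * D.j = D.q (iota (-u))
    rw [D.j_q, iota_neg]
  decomp _ hh' := X.decomp hh'
  blocks _ h1 h2 := X.blocks h1 h2
  signs g hg := (X.diag_iff g).mpr (signs_res hg)
  self _ hx := X.self' hx
  card_P := (Nat.card_congr (Equiv.subtypeEquivRight fun g => and_congr_right fun _ => X.diag_iff g)).trans card_S
  nwc := by
    obtain ⟨u, rfl⟩ := fix_planes hsw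
    refine ⟨QuotientGroup.mk' (N0 t) ⟨h, mem_KK.mpr hh⟩, ?_, fun l e => ?_⟩
    · rw [← map_inv, ← map_mul, ← map_mul]
      refine (show Commute (⟨h, _⟩ * X.zK * ⟨h, _⟩⁻¹ : ↥(KK t)) X.zK from Subtype.ext ?_).map _
      show h * D.z * h⁻¹ * D.z = D.z * (h * D.z * h⁻¹)
      rw [he]
      exact (D.Q_z (D.el_mem _ _)).eq
    · rw [← map_inv, ← map_mul, ← map_mul, ← map_pow] at e
      have h3 : h * D.z * h⁻¹ = D.zz l :=
        X.cube_eq (X.zz_t l) (by rw [zz, ← pow_mul, mul_comm, pow_mul, D.z_cube, one_pow])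
          (by rw [conj_pow, D.z_cube, mul_one, mul_inv_cancel]) (X.kq_eq.mp e.symm)
      rw [he] at h3
      exact hv (D.el_inj (l := l) (w := 0) (by rw [D.q_zero, mul_one]; exact h3)).2

end Setting

end CfsgLib.Fi23Loc
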