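import Cfsg.Agent.Lib.Fi23Loc.Sylow

/-!
The three planes of the fixed space of the exchange and the centraliser of the exchange in the model.
-/

set_option autoImplicit false
set_option maxRecDepth 100000
set_option Elab.async false

namespace CfsgLib.Fi23Loc

open CfsgLib.G24 (K)
open CfsgLib.U6Three (SL23 V2 mU app2)
open CfsgLib.Fi22Loc (Bk dg ψ V6 appB)

/-- The orthogonal frame of the symmetric square. -/
def eK : Fin 3 → Fin 2 → Fin 2 → ZMod 3
  | 0, a, b => if a = b then 1 else 0
  | 1, a, b => if a = b then (if a = 0 then 1 else -1) else 1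
  | 2, a, b => if a = b then (if a = 0 then 1 else -1) else -1

/-- The coordinate of a plane vector. -/
def cK (v : V2) (c : Fin 2) : ZMod 3 := if c = 0 then v.2 else v.1

/-- The three planes inside the tensor cube. -/
def iota (v : V6) : W8 := fun a =>
  eK 0 (a 0) (a 1) * cK (v 0) (a 2) + eK 1 (a 0) (a 1) * cK (v 1) (a 2) + eK 2 (a 0) (a 1) * cK (v 2) (a 2)

theorem iota_add (v w : V6) : iota (v + w) = iota v + iota w := funext fun a => by
  rcases (by decide : ∀ x : Fin 2, x = 0 ∨ x = 1) (a 2) with h | h <;> simp [iota, cK, h] <;> ring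

theorem iota_om (v w : V6) : Om (iota v) (iota w) = Fi22Loc.om v w := by
  simp only [Om, iota, eK, cK, ix0, ix1, ix2, Fi22Loc.om, CfsgLib.U6Three.det2, Fin.isValue,
    show ((0 : Fin 2) = 1) = False by simp, show ((1 : Fin 2) = 0) = False by simp, if_true, if_false]
  linear_combination (norm := (ring_nf; simp [show (3 : ZMod 3) = 0 from rfl, show (6 : ZMod 3) = 0 from rfl]))
    three_z (0 : ZMod 3)

theorem iota_inj {v : V6} (h : iota v = 0) : v = 0 := by
  have e : ∀ k, Fi22Loc.om v k = 0 := fun k => by rw [← iota_om, h, Om_zero_left]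
  by_contra hne
  obtain ⟨w, hw⟩ := Fi22Loc.om_nondeg hne
  exact hw (e w)

/-- A vector fixed by the exchange is in the planes. -/
theorem fix_planes {v : W8} (h : T swB v = v) : ∃ u, iota u = v := by
  have hs : ∀ x y z, v (ix x y z) = v (ix y x z) := fun x y z => by
    have := congrFun h (ix x y z)
    simp [T, dW, swB, act1_one, permW] at this
    rw [← this]
    congr 1
    funext i
    fin_cases i <;> simp [ix, Equiv.swap_apply_def]
  -- the coefficient of each plane
  refine ⟨fun k => (-(eK k 0 0 * v (ix 1 1 1) + eK k 1 1 * v (ix 0 0 1) - eK k 0 1 * v (ix 1 0 1) -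
      eK k 1 0 * v (ix 0 1 1)),
    -(eK k 0 0 * v (ix 1 1 0) + eK k 1 1 * v (ix 0 0 0) - eK k 0 1 * v (ix 1 0 0) - eK k 1 0 * v (ix 0 1 0))), ?_⟩
  funext a
  rw [idx_eta a]
  generalize a 0 = x
  generalize a 1 = y
  generalize a 2 = z
  fin_cases x <;> fin_cases y <;> fin_cases z <;>
    simp [iota, cK, eK, ix0, ix1, ix2, hs 1 0] <;> ring_nf <;>
    simp [show (3 : ZMod 3) = 0 from rfl, show (2 : ZMod 3) = -1 from rfl, show (4 : ZMod 3) = 1 from rfl,
      show (5 : ZMod 3) = -1 from rfl, show (6 : ZMod 3) = 0 from rfl]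

/-- A map restricting to the planes as a monomial map. -/
def Res (f : Equiv.Perm W8) (b : Bk) : Prop := ∀ v, f (iota v) = iota (appB b v)

theorem Res.mul {f g : Equiv.Perm W8} {b c : Bk} (h : Res f b) (h' : Res g c) : Res (f * g) (b * c) := fun v => by
  rw [Equiv.Perm.mul_apply, h', h, Fi22Loc.appB_mul]

theorem res_one : Res 1 1 := fun v => by rw [Fi22Loc.appB_one]; rfl

theorem Res.pow {f : Equiv.Perm W8} {b : Bk} (h : Res f b) (n : ℕ) : Res (f ^ n) (b ^ n) := by
  induction n with
  | zero => rw [pow_zero, pow_zero]; exact res_one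
  | succ n ih => rw [pow_succ, pow_succ]; exact ih.mul h

/-- A block of order three or less from entries. -/
def sl (a b c d : ZMod 3) (h : a * d - b * c = 1) : SL23 :=
  ⟨!![a, b; c, d], by rw [Matrix.det_fin_two_of]; exact h⟩

/-- The unit vectors of the planes. -/
def punits : List V6 :=
  [Fi22Loc.emb 0 (1, 0), Fi22Loc.emb 0 (0, 1), Fi22Loc.emb 1 (1, 0), Fi22Loc.emb 1 (0, 1), Fi22Loc.emb 2 (1, 0),
    Fi22Loc.emb 2 (0, 1)]

theorem res_of_units {f : Equiv.Perm W8} (hf : ∀ v w, f (v + w) = f v + f w) (b : Bk)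
    (h : ∀ e ∈ punits, f (iota e) = iota (appB b e)) : Res f b := by
  let F : V6 →+ W8 := AddMonoidHom.mk' (fun v => f (iota v) - iota (appB b v)) fun v w => by
    simp only [iota_add, hf, Fi22Loc.appB_add]; abel
  intro v
  have hF : ∀ e ∈ punits, F e = 0 := fun e he => sub_eq_zero.mpr (h e he)
  have split : ∀ c : V2, c = c.1.val • ((1, 0) : V2) + c.2.val • ((0, 1) : V2) := by decide +kernel
  have eadd : ∀ i, ∀ c d : V2, Fi22Loc.emb i (c + d) = Fi22Loc.emb i c + Fi22Loc.emb i d := fun i c d => by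
    funext k; by_cases hk : k = i <;> simp [Fi22Loc.emb, hk]
  have ens : ∀ i (n : ℕ) (c : V2), Fi22Loc.emb i (n • c) = n • Fi22Loc.emb i c := fun i n c => by
    funext k; by_cases hk : k = i <;> simp [Fi22Loc.emb, hk]
  have ev' : v = Fi22Loc.emb 0 (v 0) + Fi22Loc.emb 1 (v 1) + Fi22Loc.emb 2 (v 2) := by
    funext k; fin_cases k <;> simp [Fi22Loc.emb]
  refine sub_eq_zero.mp (show F v = 0 from ?_)
  rw [ev', split (v 0), split (v 1), split (v 2)]
  simp only [eadd, ens, map_add, map_nsmul]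
  rw [hF _ (by simp [punits]), hF _ (by simp [punits]), hF _ (by simp [punits]), hF _ (by simp [punits]),
    hF _ (by simp [punits]), hF _ (by simp [punits])]
  simp

/-- The four generators of the part of the quaternion groups fixed by the exchange. -/
def gR : Fin 4 → Fin 3 → SL23
  | 0 => rA 0 * rA 1
  | 1 => rB 0 * rB 1
  | 2 => rA 2
  | 3 => rB 2

/-- Their maps on the planes. -/
def gRb : Fin 4 → Bk
  | 0 => dg ![1, -1, -1]
  | 1 => dg ![-1, -1, 1]
  | 2 => dg fun _ => sl 0 1 2 0 (by decide)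
  | 3 => dg fun _ => sl 2 1 1 1 (by decide)

/-- The products of the generators. -/
def rEl (x : Fin 2 × Fin 2 × Fin 4 × Fin 2) : Fin 3 → SL23 :=
  gR 0 ^ (x.1 : ℕ) * gR 1 ^ (x.2.1 : ℕ) * gR 2 ^ (x.2.2.1 : ℕ) * gR 3 ^ (x.2.2.2 : ℕ)

/-- Their maps on the planes. -/
def rB6 (x : Fin 2 × Fin 2 × Fin 4 × Fin 2) : Bk :=
  gRb 0 ^ (x.1 : ℕ) * gRb 1 ^ (x.2.1 : ℕ) * gRb 2 ^ (x.2.2.1 : ℕ) * gRb 3 ^ (x.2.2.2 : ℕ)

/-- Whether a monomial map restricts as given. -/
def resB (b c : Bk) : Bool := punits.all fun e => (List.range 8).all fun k =>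
  decide (Om (T b (iota e)) (vn (3 ^ k)) = Om (iota (appB c e)) (vn (3 ^ k)))

theorem units_ev' : ∀ a : Idx, ∃ k : Fin 8, vn (3 ^ (k : ℕ)) = ev (fun i => 1 - a i) := by decide +kernel

theorem eq_of_units {v w : W8} (h : ∀ k : Fin 8, Om v (vn (3 ^ (k : ℕ))) = Om w (vn (3 ^ (k : ℕ)))) : v = w := by
  funext a
  obtain ⟨k, hk⟩ := units_ev' a
  have e := h k
  rw [hk, Om_ev, Om_ev] at e
  exact mul_left_cancel₀ (pow_ne_zero _ (by decide)) e

theorem resB_sound {b c : Bk} (h : resB b c = true) : Res (Te b) c := by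
  simp only [resB, List.all_eq_true, List.mem_range, decide_eq_true_eq] at h
  exact res_of_units (T_add b) c fun e he => eq_of_units fun k => h e he k k.2

theorem gR_res : ∀ k, resB (dg (gR k)) (gRb k) = true := by decide +kernel

/-- The diagonal element of the first two factors. -/
def u01 : Bk := dg ![mU, mU, 1]

/-- Its map on the planes. -/
def u01b : Bk :=
  ⟨(Equiv.swap 0 1 * Equiv.swap 1 2)⁻¹, ![sl 2 0 0 2 (by decide), 1, sl 2 0 0 2 (by decide)]⟩

/-- The diagonal element of the last factor. -/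
def u2e : Bk := dg ![1, 1, mU]

/-- Its map on the planes. -/
def u2b : Bk := dg fun _ => sl 1 0 1 1 (by decide)

theorem u_res : resB u01 u01b = true ∧ resB u2e u2b = true ∧ resB swB 1 = true := by decide +kernel

/-- The columns of the further element. -/
def w1cols : List ℕ := [93, 1998, 2098, 2670, 2170, 2886, 2367, 272]

/-- The further element as a function. -/
def w1f (v : W8) : W8 :=
  Rep.sm (v (ix 0 0 0)) (vn 93) + Rep.sm (v (ix 0 0 1)) (vn 1998) + Rep.sm (v (ix 0 1 0)) (vn 2098) +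
    Rep.sm (v (ix 0 1 1)) (vn 2670) + Rep.sm (v (ix 1 0 0)) (vn 2170) + Rep.sm (v (ix 1 0 1)) (vn 2886) +
    Rep.sm (v (ix 1 1 0)) (vn 2367) + Rep.sm (v (ix 1 1 1)) (vn 272)

theorem w1f_add (v w : W8) : w1f (v + w) = w1f v + w1f w := by
  simp only [w1f, Pi.add_apply, rep8.sm_add]; abel

theorem ext_units {f g : W8 → W8} (hf : ∀ v w, f (v + w) = f v + f w) (hg : ∀ v w, g (v + w) = g v + g w)
    (h : ∀ k : Fin 8, f (vn (3 ^ (k : ℕ))) = g (vn (3 ^ (k : ℕ)))) (v : W8) : f v = g v := by
  let F : W8 →+ W8 := AddMonoidHom.mk' f hf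
  let G : W8 →+ W8 := AddMonoidHom.mk' g hg
  have e : ∀ a, F (ev a) = G (ev a) := fun a => by
    obtain ⟨k, hk⟩ := units_ev' fun i => 1 - a i
    have : (fun i => 1 - (fun i => 1 - a i) i) = a := funext fun i => by simp
    rw [this] at hk
    rw [← hk]
    exact h k
  show F v = G v
  conv_lhs => rw [← psi_id v]
  conv_rhs => rw [← psi_id v]
  simp only [Rep.psi, vec_ev, map_add, Rep.map_sm, e]

/-- Equality on the units, as a boolean. -/
def eqOn (f g : W8 → W8) : Bool := (List.range 8).all fun k => (List.range 8).all fun l =>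
  decide (Om (f (vn (3 ^ k))) (vn (3 ^ l)) = Om (g (vn (3 ^ k))) (vn (3 ^ l)))

theorem eqOn_sound {f g : W8 → W8} (hf : ∀ v w, f (v + w) = f v + f w) (hg : ∀ v w, g (v + w) = g v + g w)
    (h : eqOn f g = true) (v : W8) : f v = g v := by
  simp only [eqOn, List.all_eq_true, List.mem_range, decide_eq_true_eq] at h
  exact ext_units hf hg (fun k => eq_of_units fun l => h k k.2 l l.2) v

theorem w1_four : eqOn (fun v => w1f (w1f (w1f (w1f v)))) id = true := by decide +kernel

theorem w1_inv (v : W8) : w1f (w1f (w1f (w1f v))) = v :=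
  eqOn_sound (fun v w => by simp only [w1f_add]) (fun _ _ => rfl) w1_four v

/-- The further element. -/
def w1p : Equiv.Perm W8 := ⟨w1f, fun v => w1f (w1f (w1f v)), w1_inv, w1_inv⟩

theorem w1_iso_units : ((List.range 8).all fun k => (List.range 8).all fun l =>
    decide (Om (w1f (vn (3 ^ k))) (w1f (vn (3 ^ l))) = Om (vn (3 ^ k)) (vn (3 ^ l)))) = true := by decide +kernel

/-- A quaternion from exponents. -/
def qq (a b : ℕ) : SL23 := qA ^ a * qB ^ b

/-- The carried generators. -/
def carA : Fin 3 → Fin 3 → SL23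
  | 0 => ![qq 1 1, qq 0 1, qq 1 0]
  | 1 => ![qq 0 1, qq 1 1, qq 1 0]
  | 2 => ![qq 1 0, qq 1 0, qq 1 0]

/-- The carried second generators. -/
def carB : Fin 3 → Fin 3 → SL23
  | 0 => ![qq 1 0, qq 1 1, qq 0 1]
  | 1 => ![qq 1 1, qq 1 0, qq 0 1]
  | 2 => ![qq 0 1, qq 0 1, qq 0 1]

theorem w1_car : ∀ i,
    eqOn (fun v => w1f (T (dg (rA i)) v)) (fun v => T (dg (carA i)) (w1f v)) = true ∧
    eqOn (fun v => w1f (T (dg (rB i)) v)) (fun v => T (dg (carB i)) (w1f v)) = true := by decide +kernel

theorem w1_u : eqOn (fun v => w1f (T (dg uU) v)) (fun v => T (dg uU) (w1f v)) = true := by decide +kernel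

theorem car_qt : ∀ i, (∀ k, ψ (carA i k) = 0) ∧ ∀ k, ψ (carB i k) = 0 := by decide +kernel

theorem car_A (i : Fin 3) (v : W8) : w1f (T (dg (rA i)) v) = T (dg (carA i)) (w1f v) :=
  eqOn_sound (f := fun v => w1f (T (dg (rA i)) v)) (g := fun v => T (dg (carA i)) (w1f v))
    (fun v w => by simp only [T_add, w1f_add]) (fun v w => by simp only [T_add, w1f_add]) (w1_car i).1 v

theorem car_B (i : Fin 3) (v : W8) : w1f (T (dg (rB i)) v) = T (dg (carB i)) (w1f v) :=
  eqOn_sound (f := fun v => w1f (T (dg (rB i)) v)) (g := fun v => T (dg (carB i)) (w1f v))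
    (fun v w => by simp only [T_add, w1f_add]) (fun v w => by simp only [T_add, w1f_add]) (w1_car i).2 v

theorem inN_w1 : InN w1p where
  add := w1f_add
  iso v w := by
    have h := w1_iso_units
    simp only [List.all_eq_true, List.mem_range, decide_eq_true_eq] at h
    let A : W8 →+ W8 →+ ZMod 3 := AddMonoidHom.mk'
      (fun x => AddMonoidHom.mk' (fun y => Om (w1f x) (w1f y) - Om x y) fun y y' => by
        simp only [w1f_add, Om_add_right]; ring)
      fun x x' => AddMonoidHom.ext fun y => by simp [w1f_add, Om_add_left]; ring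
    have e : ∀ a b, A (ev a) (ev b) = 0 := fun a b => by
      obtain ⟨k, hk⟩ := units_ev' fun i => 1 - a i
      obtain ⟨l, hl⟩ := units_ev' fun i => 1 - b i
      simp only [sub_sub_cancel] at hk hl
      rw [← hk, ← hl]
      exact sub_eq_zero.mpr (h k k.2 l l.2)
    have e1 : ∀ a, A (ev a) w = 0 := fun a => by
      rw [← psi_id w]
      simp only [Rep.psi, vec_ev, map_add, Rep.map_sm, e, Rep.sm_zerox, add_zero]
    refine sub_eq_zero.mp (show A v w = 0 from ?_)
    rw [← psi_id v]
    have : ∀ k (a : Idx), A (Rep.sm k (ev a)) w = 0 := fun k a => by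
      rcases z_cases k with rfl | rfl | rfl <;> simp [Rep.sm_zero, Rep.sm_one, Rep.sm_neg_one, e1]
    simp only [Rep.psi, vec_ev, map_add, AddMonoidHom.add_apply, this, add_zero]
  nA i := ⟨carA i, (car_qt i).1, car_A i⟩
  nB i := ⟨carB i, (car_qt i).2, car_B i⟩
  cU := ⟨1, qt_one, fun v => by
    rw [Fi22Loc.dg_one, T_one]
    exact eqOn_sound (fun v w => by simp only [T_add, w1f_add]) (fun v w => by simp only [T_add, w1f_add]) w1_u v⟩

/-- The further element in the group. -/
def W1 : NN := ⟨w1p, inN_w1⟩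

/-- Its map on the planes. -/
def w1b : Bk :=
  dg ![sl 0 1 2 0 (by decide), sl 1 1 1 2 (by decide), sl 2 1 1 1 (by decide)]

theorem w1_resB : (punits.all fun e => (List.range 8).all fun k =>
    decide (Om (w1f (iota e)) (vn (3 ^ k)) = Om (iota (appB w1b e)) (vn (3 ^ k)))) = true := by decide +kernel

theorem W1_res : Res w1p w1b := by
  have h := w1_resB
  simp only [List.all_eq_true, List.mem_range, decide_eq_true_eq] at h
  exact res_of_units w1f_add w1b fun e he => eq_of_units fun k => h e he k k.2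

theorem W1_rel : eqOn (fun v => w1f (T u2e (w1f (T u2e⁻¹ v))))
    (fun v => T u2e (T u2e (w1f (T u2e⁻¹ (T u2e⁻¹ v))))) = true := by decide +kernel

/-- The frame of the further element. -/
def topW1 : F3 := (par (carA 0), par (carA 1), par (carA 2))

theorem top_W1 : top W1 = topW1 := by
  have h : ∀ i, par (carry W1 (rA i)) = par (carA i) := fun i =>
    carry_eq W1 (qt_rA i) (car_qt i).1 (car_A i)
  rw [top, h, h, h]
  rfl

theorem W1_comm : eqOn (fun v => w1f (T swB v)) (fun v => T swB (w1f v)) = true := by decide +kernel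

/-- The frames of the four further representatives. -/
def topW : Fin 4 → F3
  | 0 => oneF
  | 1 => topW1
  | 2 => compF (compF (topB u2e) topW1) (topB u2e⁻¹)
  | 3 => compF (compF (topB (u2e * u2e)) topW1) (topB (u2e * u2e)⁻¹)

/-- The frames of the centraliser of the exchange. -/
def centF : List F3 :=
  [oneF, topB swB].flatMap fun s => (List.finRange 4).flatMap fun i => (List.finRange 3).flatMap fun a =>
    (List.finRange 3).map fun b => compF (compF s (topW i)) (topB (u01 ^ (a : ℕ) * u2e ^ (b : ℕ)))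

theorem centF_all : (frames.all fun F => !decide (compF F (topB swB) = compF (topB swB) F) ||
    centF.contains F) = true := by decide +kernel

/-- The plane maps of the representatives. -/
def wB6 : Fin 4 → Bk
  | 0 => 1
  | 1 => w1b
  | 2 => u2b * w1b * u2b⁻¹
  | 3 => u2b * u2b * w1b * (u2b * u2b)⁻¹

/-- The plane maps of the two-part. -/
def sList : List Bk :=
  (List.finRange 2).flatMap fun a => (List.finRange 2).flatMap fun b => (List.finRange 4).flatMap fun c =>
    (List.finRange 2).flatMap fun d => (List.finRange 4).map fun i => rB6 (a, b, c, d) * wB6 i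

theorem sList_length : sList.length = 128 := by decide +kernel

theorem sList_tr : (sList.all fun b => decide (b.π = 1) && decide (ψ (b.g 0) = 0) && decide (ψ (b.g 1) = 0) &&
    decide (ψ (b.g 2) = 0)) = true := by decide +kernel

theorem sList_distinct : ((List.finRange 128).all fun i => (List.finRange 128).all fun j =>
    decide (i = j) || !eqB (sList.getD i 1) (sList.getD j 1)) = true := by decide +kernel

theorem p9_tr : ∀ a b : Fin 3, (u01b ^ (a : ℕ) * u2b ^ (b : ℕ)).π = 1 →
    (∀ i, ψ ((u01b ^ (a : ℕ) * u2b ^ (b : ℕ)).g i) = 0) → a = 0 ∧ b = 0 := by decide +kernel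

theorem rEl_qt : ∀ x k, ψ (rEl x k) = 0 := by decide +kernel

theorem rEl_par : ∀ x : V3, x.1 = x.2.1 → ∃ y, par (rEl y) = x := by decide +kernel

theorem rEl_neg : ∀ x : Fin 2 × Fin 2 × Fin 4 × Fin 2, ∀ k,
    rEl (x.1, x.2.1, x.2.2.1 + 2, x.2.2.2) k = (rEl x * (Pi.mulSingle 2 (-1) : Fin 3 → SL23)) k := by decide +kernel

/-- An element of the product of the quaternion groups commuting with the exchange is one of the listed ones. -/
theorem rEl_cover {q : Fin 3 → SL23} (hq : Qt q) (h : ∀ v, T (dg q) (T swB v) = T swB (T (dg q) v)) :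
    ∃ x, ∀ v, T (dg q) v = T (dg (rEl x)) v := by
  set q' : Fin 3 → SL23 := fun i => q (Equiv.swap 0 1 i) with hq'
  have e : ∀ v, T (dg q) v = T (dg q') v := fun v => by
    have := h (T swB v)
    rw [← T_mul swB swB, show swB * swB = 1 from eqB_iff.mp (by decide +kernel), T_one, ← T_mul, ← T_mul] at this
    rw [this]
    congr 1
    refine Fi22Loc.Bk.ext' ?_ fun i => ?_
    · simp [Fi22Loc.mul_π, Fi22Loc.dg_π, swB]
    · simp [Fi22Loc.mul_g, Fi22Loc.mul_π, Fi22Loc.dg_π, Fi22Loc.dg_g, swB, hq']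
  have hp := par_unique hq (fun i => hq _) e
  obtain ⟨y, hy⟩ := rEl_par (par q) (by
    have := congrArg Prod.fst hp
    simpa [par, hq'] using this)
  rcases par_eq hq (rEl_qt y) hy.symm with r | r
  · exact ⟨y, r⟩
  · refine ⟨(y.1, y.2.1, y.2.2.1 + 2, y.2.2.2), fun v => ?_⟩
    rw [r, funext (rEl_neg y), ← Fi22Loc.dg_mul, T_mul, T_single_neg]
    exact (map_neg (AddMonoidHom.mk' _ (T_add _)) v).symm

end CfsgLib.Fi23Loc
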