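import Cfsg.Agent.Lib.Fi23Loc.Facts
import Cfsg.Agent.Lib.Fi23Loc.Planes

/-!
The centraliser of the exchange in the model and its action on the three planes.
-/

set_option autoImplicit false
set_option maxRecDepth 100000
set_option synthInstance.maxSize 1024
set_option Elab.async false

namespace CfsgLib.Fi23Loc

open CfsgLib.G24 (K)
open CfsgLib.U6Three (SL23 mU)
open CfsgLib.Fi22Loc (Bk dg ψ V6 appB)

/-- The exchange in the group. -/
def SW : NN := TN swB

theorem SW_sq : SW * SW = 1 := by rw [SW, ← map_mul, swB_sq, map_one]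

/-- The representatives. -/
def Wi : Fin 4 → NN
  | 0 => 1
  | 1 => W1
  | 2 => TN u2e * W1 * TN u2e⁻¹
  | 3 => TN (u2e * u2e) * W1 * TN (u2e * u2e)⁻¹

theorem top_Wi : ∀ i, top (Wi i) = topW i
  | 0 => top_one
  | 1 => top_W1
  | 2 => by simp only [Wi, topW, top_mul, top_TN, top_W1]
  | 3 => by simp only [Wi, topW, top_mul, top_TN, top_W1]

theorem sw_comm_u : u01 * swB = swB * u01 ∧ u2e * swB = swB * u2e :=
  ⟨eqB_iff.mp (by decide +kernel), eqB_iff.mp (by decide +kernel)⟩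

theorem W1_SW : Commute W1 SW := Subtype.ext (Equiv.ext fun v =>
  eqOn_sound (f := fun v => w1f (T swB v)) (g := fun v => T swB (w1f v))
    (fun v w => by simp only [T_add, w1f_add]) (fun v w => by simp only [T_add, w1f_add]) W1_comm v)

theorem Wi_SW (i : Fin 4) : Commute (Wi i) SW := by
  have hu : Commute (TN u2e) SW := (show Commute u2e swB from sw_comm_u.2).map TN
  fin_cases i
  · exact Commute.one_left _
  · exact W1_SW
  · show Commute (TN u2e * W1 * TN u2e⁻¹) SW
    rw [map_inv]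
    exact (hu.mul_left W1_SW).mul_left hu.inv_left
  · show Commute (TN (u2e * u2e) * W1 * TN (u2e * u2e)⁻¹) SW
    rw [map_inv, map_mul]
    exact ((hu.mul_left hu).mul_left W1_SW).mul_left (hu.mul_left hu).inv_left

/-- The part of order nine. -/
def p9 (a b : Fin 3) : Bk := u01 ^ (a : ℕ) * u2e ^ (b : ℕ)

theorem p9_SW (a b : Fin 3) : Commute (TN (p9 a b)) SW :=
  (((show Commute u01 swB from sw_comm_u.1).pow_left _).mul_left
    ((show Commute u2e swB from sw_comm_u.2).pow_left _)).map TN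

/-- A general element commuting with the exchange. -/
theorem comm_form {f : NN} (h : Commute f SW) :
    ∃ (e : Bool) (x : Fin 2 × Fin 2 × Fin 4 × Fin 2) (i : Fin 4) (a b : Fin 3),
      f = TN (dg (rEl x)) * (if e then SW else 1) * Wi i * TN (p9 a b) := by
  have hF := List.all_eq_true.mp centF_all (top f) (top_frame f)
  have hc : compF (top f) (topB swB) = compF (topB swB) (top f) := by
    rw [← top_TN, ← top_mul, ← top_mul]
    exact congrArg top h.eq
  simp only [hc, decide_true, Bool.not_true, Bool.false_or, List.contains_eq_mem, decide_eq_true_eq] at hF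
  simp only [centF, List.bind_eq_flatMap, List.pure_def, List.mem_flatMap, List.mem_map, List.mem_cons, List.not_mem_nil, or_false, List.mem_finRange,
    true_and] at hF
  obtain ⟨s, hs, i, _, ⟨a, rfl⟩, _, ⟨b, rfl⟩, hg⟩ := hF
  obtain ⟨e, he⟩ : ∃ e : Bool, top (if e then SW else 1) = s := by
    rcases hs with rfl | rfl
    · exact ⟨false, top_one⟩
    · exact ⟨true, top_TN swB⟩
  set g := (if e then SW else 1) * Wi i * TN (p9 a b) with hgdef
  have hgt : top g = top f := by rw [hgdef, top_mul, top_mul, he, top_Wi, top_TN]; exact hg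
  have hgc : Commute g SW := by
    refine ((Commute.mul_left ?_ (Wi_SW i)).mul_left (p9_SW a b))
    cases e
    exacts [Commute.one_left _, Commute.refl _]
  obtain ⟨q, hq', eq⟩ := top_ker (f := f * g⁻¹) (by
    rw [top_mul, ← hgt, ← top_mul, mul_inv_cancel, top_one])
  have hcq : Commute (TN (dg q)) SW := eq ▸ h.mul_left hgc.inv_left
  obtain ⟨x, hx⟩ := rEl_cover hq' fun v => by
    have := congrArg (fun f : NN => (f : Equiv.Perm W8) v) hcq.eq
    exact this
  refine ⟨e, x, i, a, b, ?_⟩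
  rw [show TN (dg (rEl x)) = TN (dg q) from Subtype.ext (Equiv.ext fun v => (hx v).symm), ← eq]
  calc f = f * g⁻¹ * g := (inv_mul_cancel_right f g).symm
    _ = _ := by rw [hgdef]; group

theorem Res_unique {f : Equiv.Perm W8} {b c : Bk} (h : Res f b) (h' : Res f c) : b = c :=
  Fi22Loc.appB_inj fun v => by
    have e : iota (appB b v) = iota (appB c v) := (h v).symm.trans (h' v)
    refine sub_eq_zero.mp (iota_inj ?_)
    have := iota_add (appB b v - appB c v) (appB c v)
    rw [sub_add_cancel, e] at this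
    exact right_eq_add.mp this

theorem res_Te (b : Bk) {c : Bk} (h : Res (Te b) c) : Res (TN b : Equiv.Perm W8) c := h

theorem gR_Res (k : Fin 4) : Res (Te (dg (gR k))) (gRb k) := resB_sound (gR_res k)

theorem dg_pow' (d : Fin 3 → SL23) (n : ℕ) : dg d ^ n = dg (d ^ n) := by
  induction n with
  | zero => rfl
  | succ m ih => rw [pow_succ, ih, Fi22Loc.dg_mul, pow_succ]

theorem rEl_res (x : Fin 2 × Fin 2 × Fin 4 × Fin 2) : Res (Te (dg (rEl x))) (rB6 x) := by
  have p : ∀ k n, Res (Te (dg (gR k ^ n))) (gRb k ^ n) := fun k n => by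
    rw [← dg_pow', map_pow]; exact (gR_Res k).pow n
  simp only [rEl, rB6, ← Fi22Loc.dg_mul, map_mul]
  exact (((p 0 _).mul (p 1 _)).mul (p 2 _)).mul (p 3 _)

theorem res_inv {f : NN} {b : Bk} (h : Res (f : Equiv.Perm W8) b) : Res ((f⁻¹ : NN) : Equiv.Perm W8) b⁻¹ := fun v => by
  rw [← (f : Equiv.Perm W8).injective.eq_iff, ← Equiv.Perm.mul_apply, ← Subgroup.coe_mul, mul_inv_cancel,
    h, ← Fi22Loc.appB_mul, mul_inv_cancel, Fi22Loc.appB_one]
  rfl

theorem Wi_res : ∀ i, Res (Wi i : Equiv.Perm W8) (wB6 i)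
  | 0 => res_one
  | 1 => W1_res
  | 2 => by
    have hu : Res (TN u2e : Equiv.Perm W8) u2b := resB_sound u_res.2.1
    show Res ((TN u2e * W1 * TN u2e⁻¹ : NN) : Equiv.Perm W8) (u2b * w1b * u2b⁻¹)
    rw [map_inv]
    exact (hu.mul W1_res).mul (res_inv hu)
  | 3 => by
    have hu : Res (TN (u2e * u2e) : Equiv.Perm W8) (u2b * u2b) := by
      rw [map_mul]; exact (resB_sound u_res.2.1).mul (resB_sound u_res.2.1)
    show Res ((TN (u2e * u2e) * W1 * TN (u2e * u2e)⁻¹ : NN) : Equiv.Perm W8) (u2b * u2b * w1b * (u2b * u2b)⁻¹)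
    rw [map_inv]
    exact (hu.mul W1_res).mul (res_inv hu)

/-- The plane map of the part of order nine. -/
def p9b (a b : Fin 3) : Bk := u01b ^ (a : ℕ) * u2b ^ (b : ℕ)

theorem form_res (e : Bool) (x : Fin 2 × Fin 2 × Fin 4 × Fin 2) (i : Fin 4) (a b : Fin 3) :
    Res ((TN (dg (rEl x)) * (if e then SW else 1) * Wi i * TN (p9 a b) : NN) : Equiv.Perm W8)
      (rB6 x * wB6 i * p9b a b) := by
  have hs : Res ((if e then SW else 1 : NN) : Equiv.Perm W8) 1 := by
    cases e
    exacts [res_one, resB_sound u_res.2.2]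
  have hp : Res (TN (p9 a b) : Equiv.Perm W8) (p9b a b) := by
    rw [p9, map_mul, map_pow, map_pow]
    exact ((resB_sound u_res.1 : Res (TN u01 : Equiv.Perm W8) u01b).pow _).mul
      ((resB_sound u_res.2.1 : Res (TN u2e : Equiv.Perm W8) u2b).pow _)
  have := (((rEl_res x).mul hs).mul (Wi_res i)).mul hp
  rwa [mul_one] at this

theorem res_exists {f : NN} (h : Commute f SW) : ∃ b, Res (f : Equiv.Perm W8) b := by
  obtain ⟨e, x, i, a, b, rfl⟩ := comm_form h
  exact ⟨_, form_res e x i a b⟩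

theorem rw_tr : ∀ x i, (rB6 x * wB6 i).π = 1 ∧ ∀ k, ψ ((rB6 x * wB6 i).g k) = 0 := by decide +kernel

theorem rw_one : ∀ x i, eqB (rB6 x * wB6 i) 1 = true → x = (0, 0, 0, 0) ∧ i = 0 := by decide +kernel

/-- The index of a pair in the list. -/
def idx128 (x : Fin 2 × Fin 2 × Fin 4 × Fin 2) (i : Fin 4) : Fin 128 :=
  ⟨((((x.1 : ℕ) * 2 + x.2.1) * 4 + x.2.2.1) * 2 + x.2.2.2) * 4 + i, by omega⟩

theorem idx128_ok : ∀ x i, eqB (sList.getD (idx128 x i) 1) (rB6 x * wB6 i) = true := by decide +kernel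

theorem idx128_inj {x y : Fin 2 × Fin 2 × Fin 4 × Fin 2} {i j : Fin 4} (h : idx128 x i = idx128 y j) :
    x = y ∧ i = j := by
  obtain ⟨a, b, c, d⟩ := x
  obtain ⟨a', b', c', d'⟩ := y
  simp only [idx128, Fin.ext_iff] at h
  refine ⟨Prod.ext (Fin.ext ?_) (Prod.ext (Fin.ext ?_) (Prod.ext (Fin.ext ?_) (Fin.ext ?_))), Fin.ext ?_⟩
  all_goals (try dsimp only)
  all_goals omega

theorem rw_inj {x y : Fin 2 × Fin 2 × Fin 4 × Fin 2} {i j : Fin 4} (h : rB6 x * wB6 i = rB6 y * wB6 j) :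
    x = y ∧ i = j := by
  refine idx128_inj ?_
  have hd := List.all_eq_true.mp (List.all_eq_true.mp sList_distinct (idx128 x i) (List.mem_finRange _))
    (idx128 y j) (List.mem_finRange _)
  simp only [Bool.or_eq_true, decide_eq_true_eq, Bool.not_eq_true'] at hd
  refine hd.resolve_right fun e => ?_
  rw [eqB_iff.mp (idx128_ok x i), eqB_iff.mp (idx128_ok y j), eqB_iff.mpr h] at e
  exact absurd e (by decide)

/-- A product with trivial classes has no part of order nine. -/
theorem form_tr {x : Fin 2 × Fin 2 × Fin 4 × Fin 2} {i : Fin 4} {a b : Fin 3}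
    (hπ : (rB6 x * wB6 i * p9b a b).π = 1) (hψ : ∀ k, ψ ((rB6 x * wB6 i * p9b a b).g k) = 0) :
    a = 0 ∧ b = 0 := by
  obtain ⟨h1, h2⟩ := rw_tr x i
  refine p9_tr a b ?_ fun k => ?_
  · rwa [Fi22Loc.mul_π, h1, one_mul] at hπ
  · have := hψ k
    rw [Fi22Loc.mul_g, h1, Fi22Loc.ψ_mul, h2, zero_add] at this
    exact this

/-- An element fixing the planes pointwise. -/
theorem res_kernel {f : NN} (h : Commute f SW) (hf : Res (f : Equiv.Perm W8) 1) : f = 1 ∨ f = SW := by
  obtain ⟨e, x, i, a, b, rfl⟩ := comm_form h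
  have hb := Res_unique (form_res e x i a b) hf
  obtain ⟨rfl, rfl⟩ := form_tr (x := x) (i := i) (a := a) (b := b) (by rw [hb]; rfl)
    (fun k => by rw [hb]; exact Fi22Loc.ψ_one)
  rw [show p9b 0 0 = 1 by simp [p9b], mul_one] at hb
  obtain ⟨rfl, rfl⟩ := rw_one x i (eqB_iff.mpr hb)
  have r0 : rEl (0, 0, 0, 0) = 1 := by simp [rEl]
  rw [r0, show p9 0 0 = 1 by simp [p9], Fi22Loc.dg_one, map_one, one_mul, show Wi 0 = 1 from rfl, mul_one, mul_one]
  cases e
  exacts [Or.inl rfl, Or.inr rfl]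

/-- The diagonal plane maps realised in the centraliser. -/
theorem card_S : Nat.card {g : Fin 3 → SL23 // (∀ i, ψ (g i) = 0) ∧
    ∃ f : NN, Commute f SW ∧ Res (f : Equiv.Perm W8) (dg g)} = 128 := by
  have hdg : ∀ x i, rB6 x * wB6 i = dg (rB6 x * wB6 i).g := fun x i => Fi22Loc.eq_dg (rw_tr x i).1
  let F : (Fin 2 × Fin 2 × Fin 4 × Fin 2) × Fin 4 →
      {g : Fin 3 → SL23 // (∀ i, ψ (g i) = 0) ∧ ∃ f : NN, Commute f SW ∧ Res (f : Equiv.Perm W8) (dg g)} := fun p =>
    ⟨(rB6 p.1 * wB6 p.2).g, (rw_tr p.1 p.2).2, TN (dg (rEl p.1)) * (if false then SW else 1) * Wi p.2 * TN (p9 0 0),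
      by
        have hc : Commute (dg (rEl p.1)) swB := by
          refine eqB_iff.mp ?_
          have : ∀ y, eqB (dg (rEl y) * swB) (swB * dg (rEl y)) = true := by decide +kernel
          exact this _
        exact (((hc.map TN).mul_left (Commute.one_left _)).mul_left (Wi_SW _)).mul_left (p9_SW 0 0),
      by
        have := form_res false p.1 p.2 0 0
        rwa [show p9b 0 0 = 1 by simp [p9b], mul_one, hdg] at this⟩
  have hF : Function.Bijective F := by
    refine ⟨fun p q e => ?_, ?_⟩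
    · have : rB6 p.1 * wB6 p.2 = rB6 q.1 * wB6 q.2 := by
        rw [hdg p.1, hdg q.1]; exact congrArg (fun g => dg g.1) e
      exact Prod.ext (rw_inj this).1 (rw_inj this).2
    · rintro ⟨g, hg, f, hc, hr⟩
      obtain ⟨e, x, i, a, b, rfl⟩ := comm_form hc
      have hb := Res_unique (form_res e x i a b) hr
      obtain ⟨rfl, rfl⟩ := form_tr (x := x) (i := i) (a := a) (b := b) (by rw [hb]; rfl)
        (fun k => by rw [hb]; exact hg k)
      rw [show p9b 0 0 = 1 by simp [p9b], mul_one, hdg] at hb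
      exact ⟨(x, i), Subtype.ext (Fi22Loc.dg_inj hb)⟩
  rw [← Nat.card_congr (Equiv.ofBijective F hF), Nat.card_eq_fintype_card]
  rfl

theorem sign_ok : ∀ e : Fin 3 → Bool, ∃ x, eqB (rB6 x) (dg fun i => if e i then -1 else 1) = true := by
  decide +kernel

theorem rEl_comm : ∀ y, eqB (dg (rEl y) * swB) (swB * dg (rEl y)) = true := by decide +kernel

/-- The sign changes of the planes are realised. -/
theorem signs_res {g : Fin 3 → SL23} (hg : ∀ i, g i = 1 ∨ g i = -1) :
    ∃ f : NN, Commute f SW ∧ Res (f : Equiv.Perm W8) (dg g) := by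
  classical
  obtain ⟨x, hx⟩ := sign_ok fun i => decide (g i = -1)
  refine ⟨TN (dg (rEl x)), (show Commute (dg (rEl x)) swB from eqB_iff.mp (rEl_comm x)).map TN, ?_⟩
  have hne : (1 : SL23) ≠ -1 := by decide +kernel
  have : rB6 x = dg g := (eqB_iff.mp hx).trans (congrArg dg (funext fun i => by
    rcases hg i with h | h <;> simp [h, hne]))
  exact this ▸ rEl_res x

theorem uconj_ok : eqB (u2e * dg (gR 2) * u2e⁻¹) (dg (gR 3)) = true ∧
    eqB (u2e * dg (gR 3) * u2e⁻¹) (dg (gR 2) * dg (gR 3)) = true ∧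
    eqB (u01 * dg (gR 0) * u01⁻¹) (dg (gR 1)) = true ∧
    eqB (u01 * dg (gR 1) * u01⁻¹) (dg (gR 0) * dg (gR 1)) = true ∧
    eqB (u2e * u2e * u2e) 1 = true ∧ eqB (u01 * u01 * u01) 1 = true := by decide +kernel

theorem w1_sq : eqOn (fun v => w1f (w1f v)) (fun v => T (dg (rEl (0, 0, 2, 0))) (T swB v)) = true := by
  decide +kernel

theorem gR_comm : ∀ k, eqB (dg (gR k) * swB) (swB * dg (gR k)) = true := by decide +kernel

/-- The centraliser of the exchange. -/
def CS : Subgroup NN := Subgroup.centralizer ({SW} : Set NN)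

theorem mem_CS {f : NN} : f ∈ CS ↔ Commute f SW := Subgroup.mem_centralizer_singleton_iff

/-- An element of the centraliser. -/
def mkC (f : NN) (h : Commute f SW) : CS := ⟨f, mem_CS.mpr h⟩

theorem gR_SW (k : Fin 4) : Commute (TN (dg (gR k))) SW :=
  (show Commute (dg (gR k)) swB from eqB_iff.mp (gR_comm k)).map TN

theorem rEl_SW (x : Fin 2 × Fin 2 × Fin 4 × Fin 2) : Commute (TN (dg (rEl x))) SW :=
  (show Commute (dg (rEl x)) swB from eqB_iff.mp (rEl_comm x)).map TN

theorem u1_SW : Commute (TN u01) SW := (show Commute u01 swB from sw_comm_u.1).map TN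

theorem u2_SW : Commute (TN u2e) SW := (show Commute u2e swB from sw_comm_u.2).map TN

theorem rEl_word (x : Fin 2 × Fin 2 × Fin 4 × Fin 2) : mkC _ (rEl_SW x) = mkC _ (gR_SW 0) ^ (x.1 : ℕ) *
    mkC _ (gR_SW 1) ^ (x.2.1 : ℕ) * mkC _ (gR_SW 2) ^ (x.2.2.1 : ℕ) * mkC _ (gR_SW 3) ^ (x.2.2.2 : ℕ) :=
  Subtype.ext (by
    simp only [mkC, Subgroup.coe_mul, SubgroupClass.coe_pow, ← map_pow, ← map_mul, dg_pow', Fi22Loc.dg_mul]
    rfl)

theorem conj_rel {u g h : Bk} (hu : Commute (TN u) SW) (hg : Commute (TN g) SW) (hh : Commute (TN h) SW)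
    (e : eqB (u * g * u⁻¹) h = true) : mkC _ hu * mkC _ hg * (mkC _ hu)⁻¹ = mkC _ hh :=
  Subtype.ext (by
    simp only [mkC, Subgroup.coe_mul, InvMemClass.coe_inv, ← map_inv, ← map_mul, eqB_iff.mp e])

theorem W1_conj_rel : mkC _ W1_SW * (mkC _ u2_SW * mkC _ W1_SW * (mkC _ u2_SW)⁻¹) =
    mkC _ u2_SW * (mkC _ u2_SW * mkC _ W1_SW * (mkC _ u2_SW)⁻¹) * (mkC _ u2_SW)⁻¹ := by
  refine Subtype.ext (Subtype.ext (Equiv.ext fun v => ?_))
  simp only [mkC, Subgroup.coe_mul, InvMemClass.coe_inv, Equiv.Perm.mul_apply]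
  exact eqOn_sound (f := fun v => w1f (T u2e (w1f (T u2e⁻¹ v))))
    (g := fun v => T u2e (T u2e (w1f (T u2e⁻¹ (T u2e⁻¹ v)))))
    (fun v w => by simp only [T_add, w1f_add]) (fun v w => by simp only [T_add, w1f_add]) W1_rel v

theorem W1_sq_rel : mkC _ W1_SW * mkC _ W1_SW = mkC _ (rEl_SW (0, 0, 2, 0)) * mkC SW (Commute.refl _) := by
  refine Subtype.ext (Subtype.ext (Equiv.ext fun v => ?_))
  simp only [mkC, Subgroup.coe_mul, Equiv.Perm.mul_apply]
  exact eqOn_sound (f := fun v => w1f (w1f v)) (g := fun v => T (dg (rEl (0, 0, 2, 0))) (T swB v))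
    (fun v w => by simp only [w1f_add]) (fun v w => by simp only [T_add]) w1_sq v

/-- The centraliser of the exchange has no homomorphism onto a group of exponent two. -/
theorem kill {A : Type*} [CommGroup A] (hA : ∀ a : A, a * a = 1) (χ : ↥CS →* A) : ∀ c, χ c = 1 := by
  have conjC : ∀ u g h : CS, u * g * u⁻¹ = h → χ h = χ g := fun u g h e => by
    rw [← e, map_mul, map_mul, map_inv, mul_inv_cancel_comm]
  have cube : ∀ f : CS, f * f * f = 1 → χ f = 1 := fun f e => by
    have : χ f * χ f * χ f = 1 := by rw [← map_mul, ← map_mul, e, map_one]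
    rwa [hA, one_mul] at this
  obtain ⟨e2, e3, e0, e1, c2, c1⟩ := uconj_ok
  have g23 := conjC _ _ _ (conj_rel u2_SW (gR_SW 2) (gR_SW 3) e2)
  have g01 := conjC _ _ _ (conj_rel u1_SW (gR_SW 0) (gR_SW 1) e0)
  have two : ∀ (k k' : Fin 4) (u : Bk) (hu : Commute (TN u) SW),
      eqB (u * dg (gR k') * u⁻¹) (dg (gR k) * dg (gR k')) = true → χ (mkC _ (gR_SW k)) = 1 := fun k k' u hu e => by
    have hp : Commute (TN (dg (gR k) * dg (gR k'))) SW := by rw [map_mul]; exact (gR_SW k).mul_left (gR_SW k')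
    have h := conjC _ _ _ (conj_rel hu (gR_SW k') hp e)
    rw [show mkC _ hp = mkC _ (gR_SW k) * mkC _ (gR_SW k') from Subtype.ext (map_mul TN _ _), map_mul] at h
    exact mul_eq_right.mp h
  have k2 := two 2 3 _ u2_SW e3
  have k0 := two 0 1 _ u1_SW e1
  have kr : ∀ x, χ (mkC _ (rEl_SW x)) = 1 := fun x => by
    rw [rEl_word, map_mul, map_mul, map_mul, map_pow, map_pow, map_pow, map_pow, g23, g01, k2, k0]
    simp
  have ku2 : χ (mkC _ u2_SW) = 1 := cube _ (Subtype.ext (by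
    simp only [mkC, Subgroup.coe_mul, ← map_mul, eqB_iff.mp c2, map_one, Subgroup.coe_one]))
  have ku1 : χ (mkC _ u1_SW) = 1 := cube _ (Subtype.ext (by
    simp only [mkC, Subgroup.coe_mul, ← map_mul, eqB_iff.mp c1, map_one, Subgroup.coe_one]))
  have kW1 : χ (mkC _ W1_SW) = 1 := by
    have h := congrArg χ W1_conj_rel
    simp only [map_mul, map_inv, ku2, one_mul, inv_one, mul_one] at h
    exact mul_eq_right.mp h
  have kS : χ (mkC SW (Commute.refl _)) = 1 := by
    have h := congrArg χ W1_sq_rel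
    rw [map_mul, map_mul, kW1, kr, one_mul, one_mul] at h
    exact h.symm
  have kW : ∀ i, χ (mkC _ (Wi_SW i)) = 1 := fun i => by
    fin_cases i
    · exact map_one χ
    · exact kW1
    · refine (conjC (mkC _ u2_SW) (mkC _ W1_SW) _ (Subtype.ext ?_)).trans kW1
      simp only [mkC, Subgroup.coe_mul, InvMemClass.coe_inv, Wi, ← map_inv]
    · refine (conjC (mkC _ u2_SW * mkC _ u2_SW) (mkC _ W1_SW) _ (Subtype.ext ?_)).trans kW1
      simp only [mkC, Subgroup.coe_mul, InvMemClass.coe_inv, Wi, ← map_inv, ← map_mul]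
  have kp : ∀ a b, χ (mkC _ (p9_SW a b)) = 1 := fun a b => by
    rw [show mkC _ (p9_SW a b) = mkC _ u1_SW ^ (a : ℕ) * mkC _ u2_SW ^ (b : ℕ) from Subtype.ext (by
      simp only [mkC, Subgroup.coe_mul, SubgroupClass.coe_pow, ← map_pow, ← map_mul]; rfl), map_mul, map_pow,
      map_pow, ku1, ku2, one_pow, one_pow, one_mul]
  rintro ⟨f, hf⟩
  obtain ⟨e, x, i, a, b, rfl⟩ := comm_form (mem_CS.mp hf)
  have he : Commute (if e then SW else 1) SW := by
    cases e
    exacts [Commute.one_left _, Commute.refl _]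
  have ke : χ (mkC _ he) = 1 := by
    cases e
    exacts [map_one χ, kS]
  rw [show (⟨_, hf⟩ : CS) = mkC _ (rEl_SW x) * mkC _ he * mkC _ (Wi_SW i) * mkC _ (p9_SW a b) from rfl, map_mul,
    map_mul, map_mul, kr, ke, kW, kp, one_mul, one_mul, one_mul]

end CfsgLib.Fi23Loc
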