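import Cfsg.Agent.Lib.Fi23Loc.Setting
import Mathlib.GroupTheory.Coset.Card

/-!
Coordinates for an extraspecial core of order 3^9 acted on by three commuting quaternion groups and an element
permuting their involutions.
-/

set_option autoImplicit false
set_option linter.unusedSectionVars false
set_option synthInstance.maxSize 1024
set_option maxRecDepth 100000

namespace CfsgLib.Fi23Loc

open CfsgLib.Fi22Loc (Bk dg ψ)
open CfsgLib.U6Three (SL23 mU)

universe u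

/-- The data before coordinates. -/
structure Pre (G : Type u) [Group G] where
  /-- the central element -/
  z : G
  /-- the core -/
  Q : Subgroup G
  z_cube : z ^ 3 = 1
  z_ne : z ≠ 1
  z_Q : z ∈ Q
  Q_z : ∀ x ∈ Q, Commute x z
  card_Q : Nat.card Q = 19683
  Q_exp : ∀ x ∈ Q, x ^ 3 = 1
  Q_comm : ∀ x ∈ Q, ∀ y ∈ Q, ∃ k : ZMod 3, x * y * x⁻¹ * y⁻¹ = z ^ k.val
  self : ∀ x, (∀ y ∈ Q, Commute x y) → ∃ k : ZMod 3, x = z ^ k.val
  conj_Q : ∀ h, Commute h z → ∀ x ∈ Q, h * x * h⁻¹ ∈ Q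

namespace Pre

variable {G : Type u} [Group G] (P : Pre G)

/-- A power of the central element. -/
def zz (k : ZMod 3) : G := P.z ^ k.val

theorem zz_zero : P.zz 0 = 1 := by simp [zz]

theorem zz_one : P.zz 1 = P.z := by rw [zz, show (1 : ZMod 3).val = 1 from rfl, pow_one]

theorem zz_add (a b : ZMod 3) : P.zz (a + b) = P.zz a * P.zz b := by
  rw [zz, zz, zz, ← pow_add, ZMod.val_add, ← pow_eq_pow_mod _ P.z_cube]

theorem zz_neg (a : ZMod 3) : P.zz (-a) = (P.zz a)⁻¹ :=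
  eq_inv_of_mul_eq_one_left (by rw [← zz_add, neg_add_cancel, zz_zero])

theorem zz_inj {a b : ZMod 3} (h : P.zz a = P.zz b) : a = b := by
  have e : P.zz (a - b) = 1 := by rw [sub_eq_add_neg, zz_add, zz_neg, h, mul_inv_cancel]
  rcases z_cases (a - b) with r | r | r
  · exact sub_eq_zero.mp r
  · rw [r, zz_one] at e; exact absurd e P.z_ne
  · rw [r, zz_neg, zz_one, inv_eq_one] at e; exact absurd e P.z_ne

theorem zz_comm {h : G} (hh : Commute h P.z) (k : ZMod 3) : Commute h (P.zz k) := hh.pow_right _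

theorem zz_Q (k : ZMod 3) : P.zz k ∈ P.Q := pow_mem P.z_Q _

theorem zz_conj {h : G} (hh : Commute h P.z) (k : ZMod 3) : h * P.zz k * h⁻¹ = P.zz k := by
  rw [(P.zz_comm hh k).eq, mul_inv_cancel_right]

/-- The centre inside the core. -/
def ZQ : Subgroup ↥P.Q where
  carrier := {x | ∃ k, (x : G) = P.zz k}
  one_mem' := ⟨0, P.zz_zero.symm⟩
  mul_mem' := fun {x y} ⟨k, hk⟩ ⟨l, hl⟩ => ⟨k + l, by rw [Subgroup.coe_mul, hk, hl, P.zz_add]⟩
  inv_mem' := fun {x} ⟨k, hk⟩ => ⟨-k, by rw [InvMemClass.coe_inv, hk, P.zz_neg]⟩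

instance ZQ_normal : P.ZQ.Normal := ⟨fun x ⟨k, hk⟩ y => ⟨k, by
  rw [Subgroup.coe_mul, Subgroup.coe_mul, InvMemClass.coe_inv, hk, P.zz_conj (P.Q_z y y.2)]⟩⟩

theorem comm_mem (x y : ↥P.Q) : x * y * x⁻¹ * y⁻¹ ∈ P.ZQ := by
  obtain ⟨k, hk⟩ := P.Q_comm x x.2 y y.2
  exact ⟨k, hk⟩

/-- The core modulo the centre. -/
abbrev W := Additive (↥P.Q ⧸ P.ZQ)

instance : CommGroup (↥P.Q ⧸ P.ZQ) where
  mul_comm a b := by
    obtain ⟨x, rfl⟩ := QuotientGroup.mk_surjective a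
    obtain ⟨y, rfl⟩ := QuotientGroup.mk_surjective b
    rw [← QuotientGroup.mk_mul, ← QuotientGroup.mk_mul, QuotientGroup.eq]
    have h := (P.ZQ_normal).conj_mem _ (inv_mem (P.comm_mem x y)) ((x * y)⁻¹)
    rwa [show (x * y)⁻¹ * (x * y * x⁻¹ * y⁻¹)⁻¹ * (x * y)⁻¹⁻¹ = (x * y)⁻¹ * (y * x) by group] at h

/-- The class of an element. -/
def cl (x : ↥P.Q) : P.W := Additive.ofMul (QuotientGroup.mk' P.ZQ x)

theorem cl_mul (x y : ↥P.Q) : P.cl (x * y) = P.cl x + P.cl y := by rw [cl, map_mul]; rfl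

theorem cl_inv (x : ↥P.Q) : P.cl x⁻¹ = -P.cl x := by rw [cl, map_inv]; rfl

theorem cl_eq {x y : ↥P.Q} : P.cl x = P.cl y ↔ ∃ k, (y : G) = P.zz k * x := by
  rw [cl, cl, Additive.ofMul.injective.eq_iff, QuotientGroup.mk'_apply, QuotientGroup.mk'_apply, QuotientGroup.eq]
  constructor
  · rintro ⟨k, hk⟩
    refine ⟨k, ?_⟩
    rw [← (P.zz_comm (P.Q_z x x.2) k).eq, ← hk, Subgroup.coe_mul, InvMemClass.coe_inv, mul_inv_cancel_left]
  · rintro ⟨k, hk⟩
    refine ⟨k, ?_⟩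
    rw [Subgroup.coe_mul, InvMemClass.coe_inv, hk, ← (P.zz_comm (P.Q_z x x.2) k).eq, inv_mul_cancel_left]

theorem cl_surj (w : P.W) : ∃ x, P.cl x = w := QuotientGroup.mk'_surjective P.ZQ w.toMul

theorem W_three (w : P.W) : w + w + w = 0 := by
  obtain ⟨x, rfl⟩ := P.cl_surj w
  rw [← P.cl_mul, ← P.cl_mul, show x * x * x = 1 from Subtype.ext (by
    have := P.Q_exp x x.2
    simpa [pow_succ] using this)]
  rfl

theorem card_W [Finite G] : Nat.card P.W = 6561 := by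
  have h := P.ZQ.card_eq_card_quotient_mul_card_subgroup
  have hz : Nat.card P.ZQ = 3 := by
    let f : ZMod 3 → P.ZQ := fun k => ⟨⟨P.zz k, P.zz_Q k⟩, k, rfl⟩
    have hf : Function.Bijective f := ⟨fun a b e => P.zz_inj (congrArg (fun x : P.ZQ => ((x : ↥P.Q) : G)) e),
      fun ⟨x, k, hk⟩ => ⟨k, Subtype.ext (Subtype.ext hk.symm)⟩⟩
    rw [← Nat.card_congr (Equiv.ofBijective f hf), Nat.card_zmod]
  rw [P.card_Q, hz] at h
  show Nat.card (↥P.Q ⧸ P.ZQ) = 6561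
  omega

open scoped Classical in
/-- Conjugation on the core modulo the centre. -/
noncomputable def op (h : G) : P.W → P.W := fun w =>
  if hh : Commute h P.z then P.cl ⟨h * (P.cl_surj w).choose * h⁻¹, P.conj_Q h hh _ (P.cl_surj w).choose.2⟩ else w

theorem op_cl {h : G} (hh : Commute h P.z) (x : ↥P.Q) (hx : h * x * h⁻¹ ∈ P.Q) :
    P.op h (P.cl x) = P.cl ⟨h * x * h⁻¹, hx⟩ := by
  rw [op, dif_pos hh]
  obtain ⟨k, hk⟩ := P.cl_eq.mp (P.cl_surj (P.cl x)).choose_spec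
  refine P.cl_eq.mpr ⟨k, ?_⟩
  show h * (x : G) * h⁻¹ = P.zz k * (h * _ * h⁻¹)
  rw [hk, ← mul_assoc h, (P.zz_comm hh k).eq]
  simp only [mul_assoc]

theorem op_spec {h : G} (hh : Commute h P.z) (x : ↥P.Q) :
    P.op h (P.cl x) = P.cl ⟨h * x * h⁻¹, P.conj_Q h hh x x.2⟩ := P.op_cl hh x _

theorem op_add {h : G} (hh : Commute h P.z) (u w : P.W) : P.op h (u + w) = P.op h u + P.op h w := by
  obtain ⟨x, rfl⟩ := P.cl_surj u
  obtain ⟨y, rfl⟩ := P.cl_surj w
  rw [← P.cl_mul, P.op_spec hh, P.op_spec hh, P.op_spec hh, ← P.cl_mul]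
  congr 1
  exact Subtype.ext (by simp [mul_assoc])

theorem op_comp {g h : G} (hg : Commute g P.z) (hh : Commute h P.z) (w : P.W) :
    P.op (g * h) w = P.op g (P.op h w) := by
  obtain ⟨x, rfl⟩ := P.cl_surj w
  rw [P.op_spec (hg.mul_left hh), P.op_spec hh, P.op_spec hg]
  congr 1
  exact Subtype.ext (by simp [mul_assoc])

theorem op_Q {x : G} (hx : x ∈ P.Q) (w : P.W) : P.op x w = w := by
  obtain ⟨y, rfl⟩ := P.cl_surj w
  rw [P.op_spec (P.Q_z x hx)]
  obtain ⟨k, hk⟩ := P.Q_comm x hx y y.2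
  refine (P.cl_eq.mpr ⟨k, ?_⟩).symm
  show x * (y : G) * x⁻¹ = P.zz k * y
  rw [zz, ← hk, inv_mul_cancel_right]

theorem op_congr {g h : G} (hh : Commute h P.z) (e : g * h⁻¹ ∈ P.Q) (w : P.W) : P.op g w = P.op h w := by
  conv_lhs => rw [← inv_mul_cancel_right g h]
  rw [P.op_comp (P.Q_z _ e) hh, P.op_Q e]

/-- The additive map. -/
noncomputable def opHom {h : G} (hh : Commute h P.z) : P.W →+ P.W := AddMonoidHom.mk' (P.op h) (P.op_add hh)

end Pre

/-- Lifts of the three quaternion groups and of the element permuting their involutions. -/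
structure Lift {G : Type u} [Group G] (P : Pre G) where
  /-- the lift of the central involution -/
  j : G
  /-- the generators -/
  a : Fin 3 → G
  /-- the conjugate generators -/
  b : Fin 3 → G
  /-- the permuting element -/
  c : G
  /-- the preimage of the quaternion groups -/
  R : Subgroup G
  jz : Commute j P.z
  jj : j * j = 1
  jn : j ∉ P.Q
  az : ∀ i, Commute (a i) P.z
  bz : ∀ i, Commute (b i) P.z
  cz : Commute c P.z
  j_cent : ∀ h, Commute h P.z → h * j * h⁻¹ * j⁻¹ ∈ P.Q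
  aa : ∀ i, a i * a i * j⁻¹ ∈ P.Q
  bb : ∀ i, b i * b i * j⁻¹ ∈ P.Q
  ba : ∀ i, b i * a i * (j * (a i * b i))⁻¹ ∈ P.Q
  cross : ∀ i k, i ≠ k → a i * a k * (a k * a i)⁻¹ ∈ P.Q ∧ a i * b k * (b k * a i)⁻¹ ∈ P.Q ∧
    b i * b k * (b k * b i)⁻¹ ∈ P.Q
  ca : ∀ i, c * a i * c⁻¹ * (b i)⁻¹ ∈ P.Q
  cb : ∀ i, c * b i * c⁻¹ * (a i * b i)⁻¹ ∈ P.Q ∨ c * b i * c⁻¹ * (j * (a i * b i))⁻¹ ∈ P.Q
  a_R : ∀ i, a i ∈ R
  b_R : ∀ i, b i ∈ R
  R_z : ∀ x ∈ R, Commute x P.z
  R_conj : ∀ h, Commute h P.z → ∀ x ∈ R, h * x * h⁻¹ ∈ R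
  R_gen : R ≤ Subgroup.closure (Set.range a ∪ Set.range b ∪ P.Q)
  R_comm : ∀ h, Commute h P.z → h * c * h⁻¹ * c⁻¹ ∈ R
  card_CC : Nat.card (Subgroup.centralizer ({P.z} : Set G)) = 82944 * 19683

theorem uU_ok : ∀ s : Bool, ∃ g : SL23, ψ g = 0 ∧ (mU * g) * qA * (mU * g)⁻¹ = qB ∧
    (mU * g) * qB * (mU * g)⁻¹ = if s then -(qA * qB) else qA * qB := by decide +kernel

namespace Lift

variable {G : Type u} [Group G] [Finite G] {P : Pre G} (L : Lift P)

/-- The vectors inverted by the involution. -/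
def U0 : AddSubgroup P.W where
  carrier := {w | P.op L.j w = -w}
  zero_mem' := by
    show P.op L.j 0 = -0
    rw [neg_zero]
    exact map_zero (P.opHom L.jz)
  add_mem' {u w} hu hw := by
    show P.op L.j (u + w) = -(u + w)
    rw [P.op_add L.jz, show P.op L.j u = -u from hu, show P.op L.j w = -w from hw, neg_add]
  neg_mem' {u} hu := by
    show P.op L.j (-u) = - -u
    rw [show P.op L.j (-u) = -P.op L.j u from map_neg (P.opHom L.jz) u, show P.op L.j u = -u from hu]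

theorem op_jj (w : P.W) : P.op L.j (P.op L.j w) = w := by
  rw [← P.op_comp L.jz L.jz, L.jj, P.op_Q (one_mem _)]

theorem j_op {h : G} (hh : Commute h P.z) (w : P.W) : P.op h (P.op L.j w) = P.op L.j (P.op h w) := by
  rw [← P.op_comp hh L.jz, ← P.op_comp L.jz hh]
  refine P.op_congr (L.jz.mul_left hh) ?_ w
  have := L.j_cent h hh
  rwa [show h * L.j * (L.j * h)⁻¹ = h * L.j * h⁻¹ * L.j⁻¹ by group]

theorem U0_map {h : G} (hh : Commute h P.z) {w : P.W} (hw : w ∈ L.U0) : P.op h w ∈ L.U0 := by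
  show P.op L.j (P.op h w) = -P.op h w
  rw [← L.j_op hh, show P.op L.j w = -w from hw]
  exact map_neg (P.opHom hh) w

/-- The restricted map. -/
noncomputable def res {h : G} (hh : Commute h P.z) : L.U0 →+ L.U0 :=
  AddMonoidHom.mk' (fun w => ⟨P.op h w, L.U0_map hh w.2⟩) fun u w => Subtype.ext (P.op_add hh u w)

theorem op_two {g h k : G} (hg : Commute g P.z) (hh : Commute h P.z) (hk : Commute k P.z) (e : g * h * k⁻¹ ∈ P.Q)
    (w : P.W) : P.op g (P.op h w) = P.op k w := by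
  rw [← P.op_comp hg hh]; exact P.op_congr hk e w

/-- The quaternion relations on the inverted vectors. -/
noncomputable def rep : Rep L.U0 where
  A i := L.res (L.az i)
  B i := L.res (L.bz i)
  three x := Subtype.ext (P.W_three x)
  AA i x := Subtype.ext ((op_two (L.az i) (L.az i) L.jz (L.aa i) x).trans x.2)
  BB i x := Subtype.ext ((op_two (L.bz i) (L.bz i) L.jz (L.bb i) x).trans x.2)
  BA i x := Subtype.ext (by
    refine (op_two (L.bz i) (L.az i) (L.jz.mul_left ((L.az i).mul_left (L.bz i))) (L.ba i) x).trans ?_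
    rw [P.op_comp L.jz ((L.az i).mul_left (L.bz i)), P.op_comp (L.az i) (L.bz i)]
    exact L.U0_map (L.az i) (L.U0_map (L.bz i) x.2))
  cAA i k h x := Subtype.ext ((op_two (L.az i) (L.az k) ((L.az k).mul_left (L.az i)) (L.cross i k h).1 x).trans
    (P.op_comp (L.az k) (L.az i) x))
  cAB i k h x := Subtype.ext ((op_two (L.az i) (L.bz k) ((L.bz k).mul_left (L.az i)) (L.cross i k h).2.1 x).trans
    (P.op_comp (L.bz k) (L.az i) x))
  cBB i k h x := Subtype.ext ((op_two (L.bz i) (L.bz k) ((L.bz k).mul_left (L.bz i)) (L.cross i k h).2.2 x).trans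
    (P.op_comp (L.bz k) (L.bz i) x))

theorem U0_ne : ∃ u : L.U0, u ≠ 0 := by
  by_contra hno
  push Not at hno
  refine L.jn ?_
  have hfix : ∀ x : ↥P.Q, Commute L.j (x : G) := fun x => by
    have hm : P.cl x - P.op L.j (P.cl x) ∈ L.U0 := by
      show P.op L.j (P.cl x - P.op L.j (P.cl x)) = -(P.cl x - P.op L.j (P.cl x))
      rw [show P.op L.j (P.cl x - P.op L.j (P.cl x)) = P.op L.j (P.cl x) - P.op L.j (P.op L.j (P.cl x)) from
        map_sub (P.opHom L.jz) _ _, L.op_jj, neg_sub]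
    have e := sub_eq_zero.mp (congrArg Subtype.val (hno ⟨_, hm⟩))
    rw [P.op_spec L.jz] at e
    obtain ⟨k, hk⟩ := P.cl_eq.mp e
    have hk' : L.j * (x : G) * L.j⁻¹ = P.zz k * x := hk
    have h2 : (x : G) = P.zz (k + k) * x := by
      calc (x : G) = L.j * L.j * x * (L.j * L.j)⁻¹ := by rw [L.jj]; group
        _ = L.j * (L.j * x * L.j⁻¹) * L.j⁻¹ := by group
        _ = L.j * (P.zz k * x) * L.j⁻¹ := by rw [hk']
        _ = (L.j * P.zz k * L.j⁻¹) * (L.j * x * L.j⁻¹) := by group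
        _ = _ := by rw [P.zz_conj L.jz, hk', ← mul_assoc, ← P.zz_add]
    have h3 : k + k = 0 := P.zz_inj (by rw [P.zz_zero]; exact mul_eq_right.mp h2.symm)
    rw [(by decide : ∀ a : ZMod 3, a + a = 0 → a = 0) k h3, P.zz_zero, one_mul] at hk'
    exact mul_inv_eq_iff_eq_mul.mp hk'
  obtain ⟨k, hk⟩ := P.self L.j fun y hy => hfix ⟨y, hy⟩
  rw [hk]
  exact pow_mem P.z_Q _

/-- The intertwiner. -/
theorem exists_psi : ∃ e : W8 ≃+ P.W, (∀ i v, P.op (L.a i) (e v) = e (T (dg (rA i)) v)) ∧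
    (∀ i v, P.op (L.b i) (e v) = e (T (dg (rB i)) v)) ∧ ∀ w, P.op L.j w = -w := by
  obtain ⟨x, hx⟩ := L.U0_ne
  obtain ⟨w, hw0, hw⟩ := L.rep.exists_fix hx
  let φ : W8 →+ P.W := L.U0.subtype.comp (AddMonoidHom.mk' (L.rep.psi w) (L.rep.psi_add w))
  have hinj : Function.Injective φ := (injective_iff_map_eq_zero φ).mpr fun v hv =>
    L.rep.psi_inj hw hw0 (Subtype.ext hv)
  have hW : Nat.card W8 = Nat.card P.W := by simp [Nat.card_eq_fintype_card, P.card_W]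
  haveI : Finite P.W := Nat.finite_of_card_ne_zero (by rw [P.card_W]; norm_num)
  have hbij : Function.Bijective φ := (Nat.bijective_iff_injective_and_card _).mpr ⟨hinj, hW⟩
  refine ⟨AddEquiv.ofBijective φ hbij, fun i v => ?_, fun i v => ?_, fun u => ?_⟩
  · exact (congrArg Subtype.val (L.rep.psi_A hw i v)).symm
  · exact (congrArg Subtype.val (L.rep.psi_B hw i v)).symm
  · obtain ⟨v, rfl⟩ := hbij.2 u
    exact (L.rep.psi w v).2

section Coord

variable (e : W8 ≃+ P.W) (hA : ∀ i v, P.op (L.a i) (e v) = e (T (dg (rA i)) v))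
  (hB : ∀ i v, P.op (L.b i) (e v) = e (T (dg (rB i)) v)) (hJ : ∀ w, P.op L.j w = -w)

include hJ in
theorem exists_coord (v : W8) : ∃ x : ↥P.Q, P.cl x = e v ∧ L.j * x * L.j = (x : G)⁻¹ := by
  obtain ⟨x, hx⟩ := P.cl_surj (e v)
  have h := hJ (P.cl x)
  rw [P.op_spec L.jz, ← P.cl_inv] at h
  obtain ⟨k, hk⟩ := P.cl_eq.mp h.symm
  have hji : L.j⁻¹ = L.j := inv_eq_of_mul_eq_one_right L.jj
  have hk' : L.j * (x : G) * L.j = P.zz k * (x : G)⁻¹ := by
    conv_lhs => enter [2]; rw [← hji]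
    exact hk
  refine ⟨⟨P.zz k, P.zz_Q k⟩ * x, ?_, ?_⟩
  · rw [← hx]
    refine (P.cl_eq.mpr ⟨k, rfl⟩).symm
  · show L.j * (P.zz k * x) * L.j = (P.zz k * (x : G))⁻¹
    rw [show L.j * (P.zz k * x) * L.j = (L.j * P.zz k * L.j⁻¹) * (L.j * x * L.j) by
      rw [hji]; simp only [mul_assoc]; rw [← mul_assoc L.j L.j, L.jj, one_mul],
      P.zz_conj L.jz, hk', mul_inv_rev, ← mul_assoc, ← P.zz_add,
      (by decide : ∀ a : ZMod 3, a + a = -a) k, P.zz_neg]
    exact (((P.zz_comm (P.Q_z _ (inv_mem x.2)) k).inv_right).eq).symm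

end Coord

end Lift

end CfsgLib.Fi23Loc
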