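import Cfsg.Agent.Lib.Fi23Loc.NotWc
import Cfsg.Agent.Lib.Fi23Loc.CentFacts
import Mathlib.LinearAlgebra.BilinearForm.Orthogonal

/-!
A conjugate of the central element in the core, moved there by an element of the centraliser of an involution.
-/

set_option autoImplicit false
set_option linter.unusedSectionVars false
set_option synthInstance.maxSize 1024
set_option maxRecDepth 100000

namespace CfsgLib.Fi23Loc

open CfsgLib.Fi22Loc (Bk dg)

universe u

/-- A totally isotropic subgroup has at most 81 elements. -/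
theorem iso_card {L : AddSubgroup W8} (h : ∀ a ∈ L, ∀ b ∈ L, Om a b = 0) : Nat.card L ≤ 81 := by
  haveI : Fact (Nat.Prime 3) := ⟨Nat.prime_three⟩
  let B : LinearMap.BilinForm (ZMod 3) W8 := LinearMap.mk₂ (ZMod 3) Om Om_add_left
    (fun c v w => by simp only [Om, Pi.smul_apply, smul_eq_mul]; ring) Om_add_right
    (fun c v w => by simp only [Om, Pi.smul_apply, smul_eq_mul]; ring)
  have hB : B.Nondegenerate := ⟨fun v hv => Om_nondeg hv, fun v hv => Om_nondeg fun w => by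
    rw [Om_swap, show Om w v = 0 from hv w, neg_zero]⟩
  set S := AddSubgroup.toZModSubmodule 3 L
  have hS : S ≤ B.orthogonal S := fun a ha b hb => h b hb a ha
  have hm := Submodule.finrank_mono hS
  rw [LinearMap.BilinForm.finrank_orthogonal hB, Module.finrank_pi] at hm
  have hc := Module.natCard_eq_pow_finrank (K := ZMod 3) (V := S)
  rw [Nat.card_zmod] at hc
  have hI : Fintype.card Idx = 8 := by simp [Idx]
  rw [hI] at hm
  calc Nat.card L = Nat.card S := rfl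
    _ = 3 ^ Module.finrank (ZMod 3) S := hc
    _ ≤ 3 ^ 4 := Nat.pow_le_pow_right (by norm_num) (by omega)

theorem perp_card {v : W8} (h : v ≠ 0) : Nat.card {w : W8 // Om v w = 0} = 2187 := by
  let φ : W8 →+ ZMod 3 := AddMonoidHom.mk' (Om v) (Om_add_right v)
  have hs : Function.Surjective φ := by
    obtain ⟨w, hw⟩ : ∃ w, Om v w ≠ 0 := by
      by_contra hn
      push Not at hn
      exact h (Om_nondeg hn)
    intro c
    refine ⟨Rep.sm (c * Om v w) w, ?_⟩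
    show Om v _ = c
    rw [Om_sm_right]
    exact (by decide : ∀ a c : ZMod 3, a ≠ 0 → c * a * a = c) _ c hw
  have h1 := AddSubgroup.card_eq_card_quotient_mul_card_addSubgroup φ.ker
  rw [Nat.card_congr (QuotientAddGroup.quotientKerEquivOfSurjective φ hs).toEquiv, Nat.card_zmod] at h1
  have hW : Nat.card W8 = 6561 := by simp [Nat.card_eq_fintype_card]
  change Nat.card φ.ker = _
  omega

theorem T_sw (v : W8) (a b c : Fin 2) : T swB v (ix a b c) = v (ix b a c) := by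
  simp only [T, dW, swB, act1_one, permW]
  congr 1
  funext i
  fin_cases i <;> simp [ix, Equiv.swap_apply_def]

theorem T_u0 (v : W8) (b c : Fin 2) : T (pel (1, 0, 0, 0)) v (ix 0 b c) = v (ix 0 b c) + v (ix 1 b c) := by
  simp [T, dW, pel, act1_one, permW_one]
  simp [act1, ix0, upd_ix0, CfsgLib.U6Three.mU]

theorem T_u1 (v : W8) (a c : Fin 2) : T (pel (0, 1, 0, 0)) v (ix a 0 c) = v (ix a 0 c) + v (ix a 1 c) := by
  simp [T, dW, pel, act1_one, permW_one]
  simp [act1, ix1, upd_ix1, CfsgLib.U6Three.mU]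

theorem T_u2 (v : W8) (a b : Fin 2) : T (pel (0, 0, 1, 0)) v (ix a b 0) = v (ix a b 0) + v (ix a b 1) := by
  simp [T, dW, pel, act1_one, permW_one]
  simp [act1, ix2, upd_ix2, CfsgLib.U6Three.mU]

theorem SW_ne : SW ≠ 1 := fun e => by
  have h := congrArg (fun f : NN => (f : Equiv.Perm W8) (ev (ix 1 0 0)) (ix 1 0 0)) e
  simp only [SW, TN_coe, T_sw, Subgroup.coe_one, Equiv.Perm.one_apply] at h
  exact absurd h (by decide)

theorem sw_pel : ∀ a b c : Fin 3, eqB (swB * pel (a, b, c, 0) * swB) (pel (b, a, c, 0)) = true := by decide +kernel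

theorem anti_pel : ∀ a b c : Fin 3, eqB (pel (b, a, c, 0) * pel (a, b, c, 0)) 1 = true → b = -a ∧ c = 0 := by
  decide +kernel

/-- The elementary family of order 27. -/
def InA (e : NN) : Prop := ∃ a b c : Fin 3, e = TN (pel (a, b, c, 0))

namespace Setting

variable {G : Type u} [Group G] {D : Setting G}

theorem zz_pow (r : ZMod 3) (k : ZMod 3) (v : W8) :
    (D.zz k * D.q v) ^ r.val = D.zz (r * k) * D.q (Rep.sm r v) := by
  rcases z_cases r with rfl | rfl | rfl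
  · rw [show (0 : ZMod 3).val = 0 from rfl, pow_zero, zero_mul, Rep.sm_zero, D.zz_zero, D.q_zero, one_mul]
  · rw [show (1 : ZMod 3).val = 1 from rfl, pow_one, one_mul, Rep.sm_one]
  · rw [show (-1 : ZMod 3).val = 2 from rfl, pow_two, D.el_mul, Om_self, neg_zero, add_zero, Rep.sm_neg_one,
      neg_one_mul]
    congr 1
    · exact congrArg D.zz ((by decide : ∀ k : ZMod 3, k + k = -k) k)
    · exact congrArg D.q (eq_neg_of_add_eq_zero_left (W8_three v))

/-- A conjugate of the central element in the core outside the centre. -/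
structure Edge (D : Setting G) (g : G) (k : ZMod 3) (v : W8) : Prop where
  eq : g * D.z * g⁻¹ = D.zz k * D.q v
  ne : v ≠ 0

variable {g : G} {k : ZMod 3} {v : W8}

theorem Edge.zz_eq (P : D.Edge g k v) (r : ZMod 3) : g * D.zz r * g⁻¹ = D.zz (r * k) * D.q (Rep.sm r v) := by
  rw [zz, ← conj_pow, P.eq, zz_pow]

theorem Edge.cen (P : D.Edge g k v) (l : ZMod 3) {w : W8} (h : Om v w = 0) :
    D.zz l * D.q w ∈ Subgroup.centralizer ({g * D.z * g⁻¹} : Set G) := by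
  refine Subgroup.mem_centralizer_singleton_iff.mpr (Commute.eq ?_)
  rw [P.eq]
  exact ((D.zz_comm ((Commute.refl D.z).pow_left _) k : Commute (D.zz l) (D.zz k)).mul_right (D.zz_q l v)).mul_left
    ((D.zz_q k w).symm.mul_right (D.q_comm.mpr (by rw [Om_swap, h, neg_zero])))

theorem Edge.perp (P : D.Edge g k v) {l : ZMod 3} {w : W8}
    (h : D.zz l * D.q w ∈ Subgroup.centralizer ({g * D.z * g⁻¹} : Set G)) : Om v w = 0 := by
  have h' : Commute (D.zz l * D.q w) (D.zz k * D.q v) := P.eq ▸ Subgroup.mem_centralizer_singleton_iff.mp h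
  have e := (D.el_inj (((D.el_mul l k w v).symm.trans h'.eq).trans (D.el_mul k l v w))).1
  rw [Om_swap v w] at e
  exact (by decide : ∀ a k l : ZMod 3, l + k + - -a = k + l + -a → a = 0) _ _ _ e

variable (D) in
/-- The elements of the core commuting with the conjugate. -/
def CQ (g : G) : Subgroup ↥(Subgroup.centralizer ({g * D.z * g⁻¹} : Set G)) :=
  D.Q.comap (Subgroup.subtype _)

theorem mem_CQ {c : ↥(Subgroup.centralizer ({g * D.z * g⁻¹} : Set G))} : c ∈ D.CQ g ↔ (c : G) ∈ D.Q := Iff.rfl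

variable (D) in
/-- Their images. -/
noncomputable def img (g : G) : ↥(D.CQ g) →* NN := (D.sig g).comp (D.CQ g).subtype

theorem img_one_iff {c : ↥(D.CQ g)} : D.img g c = 1 ↔ g⁻¹ * c.1.1 * g ∈ D.Q :=
  sig_ker

theorem img_pgroup : IsPGroup 3 (D.img g).range := fun e => by
  obtain ⟨c, hc⟩ := e.2
  refine ⟨1, Subtype.ext ?_⟩
  rw [pow_one, SubmonoidClass.coe_pow, ← hc, ← map_pow, show c ^ 3 = 1 from
    Subtype.ext (Subtype.ext (D.Q_cube (mem_CQ.mp c.2))), map_one, Subgroup.coe_one]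

theorem Edge.card_CQ (P : D.Edge g k v) : 6561 ≤ Nat.card (D.CQ g) ∧ Finite (D.CQ g) := by
  let F : ZMod 3 × {w : W8 // Om v w = 0} → D.CQ g := fun p => ⟨⟨_, P.cen p.1 p.2.2⟩, D.el_mem _ _⟩
  have hs : Function.Surjective F := by
    rintro ⟨⟨c, hc⟩, hq⟩
    obtain ⟨l, w, e⟩ := mem_CQ.mp hq
    simp only at e
    subst e
    exact ⟨(l, ⟨w, P.perp hc⟩), rfl⟩
  have hi : Function.Injective F := fun p p' e => by
    have := D.el_inj (congrArg (fun c : D.CQ g => c.1.1) e)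
    exact Prod.ext this.1 (Subtype.ext this.2)
  refine ⟨?_, Finite.of_surjective F hs⟩
  rw [← Nat.card_congr (Equiv.ofBijective F ⟨hi, hs⟩), Nat.card_prod, Nat.card_zmod, perp_card P.ne]

theorem card_split (f : ↥(D.CQ g) →* NN) : Nat.card (D.CQ g) = Nat.card f.range * Nat.card f.ker := by
  rw [Subgroup.card_eq_card_quotient_mul_card_subgroup f.ker,
    Nat.card_congr (QuotientGroup.quotientKerEquivRange f).toEquiv]

theorem Edge.z_cen (P : D.Edge g k v) (l : ZMod 3) :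
    D.zz l ∈ Subgroup.centralizer ({g * D.z * g⁻¹} : Set G) := by
  have h := P.cen l (Om_zero_right v)
  rwa [D.q_zero, mul_one] at h

/-- The central element lies in the conjugate core. -/
theorem Edge.z_in (P : D.Edge g k v) : g⁻¹ * D.z * g ∈ D.Q := by
  by_contra hz
  obtain ⟨hC, hfin⟩ := P.card_CQ
  obtain ⟨y0, hy0⟩ : ∃ y, Om v y ≠ 0 := by
    by_contra hn
    push Not at hn
    exact P.ne (Om_nondeg hn)
  have key : ∀ c : (D.img g).ker, ∃ p : ZMod 3 × ZMod 3,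
      c.1.1.1 = D.zz p.1 * D.q (Rep.sm p.2 v) := by
    rintro ⟨⟨⟨c, hc⟩, hq⟩, hk⟩
    obtain ⟨l, w, e⟩ := mem_CQ.mp hq
    simp only at e
    subst e
    have hperp : ∀ y, Om v y = 0 → Om w y = 0 := fun y hy => by
      by_contra hne
      let a : D.CQ g := ⟨⟨_, P.cen 0 hy⟩, D.el_mem _ _⟩
      let b : D.CQ g := ⟨⟨_, hc⟩, D.el_mem _ _⟩
      have e1 : D.img g (a * b * a⁻¹ * b⁻¹) = 1 := by
        rw [map_mul, map_mul, map_mul, map_inv, map_inv, show D.img g b = 1 from hk]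
        group
      have e2 := img_one_iff.mp e1
      simp only [Subgroup.coe_mul, Subgroup.coe_inv, a, b] at e2
      obtain ⟨o, ho⟩ : ∃ o, o ≠ 0 ∧ g⁻¹ * D.zz o * g ∈ D.Q := by
        refine ⟨Om y w, fun e => hne (by rw [Om_swap, e, neg_zero]), ?_⟩
        convert e2 using 3
        rw [D.zz_zero, one_mul, show D.q y * (D.zz l * D.q w) * (D.q y)⁻¹ * (D.zz l * D.q w)⁻¹ =
          (D.q y * D.zz l * (D.q y)⁻¹) * (D.q y * D.q w * (D.q y)⁻¹) * (D.q w)⁻¹ * (D.zz l)⁻¹ by group,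
          D.zz_conj (D.q_z y), D.q_conj, ← mul_assoc, mul_inv_cancel_right, ← D.zz_add, add_comm, D.zz_add,
          mul_inv_cancel_right]
      have h2 := pow_mem ho.2 2
      rw [show g⁻¹ * D.zz o * g = g⁻¹ * D.zz o * g⁻¹⁻¹ by group, conj_pow, inv_inv, pow_two, ← D.zz_add] at h2
      rcases z_cases o with r | r | r
      · exact ho.1 r
      · exact hz (by rw [← D.zz_one, ← r]; exact ho.2)
      · exact hz (by rw [← D.zz_one, show (1 : ZMod 3) = o + o from by rw [r]; decide]; exact h2)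
    refine ⟨(l, Om w y0 * Om v y0), ?_⟩
    show D.zz l * D.q w = _
    congr 2
    refine sub_eq_zero.mp (Om_nondeg fun y => ?_)
    have h := hperp (y - Rep.sm (Om v y * Om v y0) y0) (by
      rw [Om_sub_right, Om_sm_right]
      exact (by decide : ∀ a b : ZMod 3, b ≠ 0 → a - a * b * b = 0) _ _ hy0)
    rw [Om_sub_right, Om_sm_right] at h
    rw [Om_sub_left, Om_sm_left]
    exact (by decide : ∀ a b c d : ZMod 3, a - b * c * d = 0 → a - d * c * b = 0) _ _ _ _ h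
  choose p hp using key
  have hker : Nat.card (D.img g).ker ≤ 9 := by
    refine (Nat.card_le_card_of_injective p fun c c' e => ?_).trans (le_of_eq (by simp))
    exact Subtype.ext (Subtype.ext (Subtype.ext (by rw [hp c, hp c', e])))
  obtain ⟨n, hn⟩ := three_sub D.card_N (img_pgroup (g := g) (D := D))
  have hrange : Nat.card (D.img g).range ≤ 81 := by
    rw [← card_PN]
    refine Nat.card_le_card_of_injective (fun e => (⟨n * e * n⁻¹, hn e e.2⟩ : PN)) fun e e' r => ?_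
    exact Subtype.ext (by simpa using congrArg Subtype.val r)
  rw [card_split (D.img g)] at hC
  nlinarith [Nat.mul_le_mul hrange hker]

theorem Edge.zz_in (P : D.Edge g k v) (l : ZMod 3) : g⁻¹ * D.zz l * g ∈ D.Q := by
  have h := pow_mem P.z_in l.val
  rwa [show g⁻¹ * D.z * g = g⁻¹ * D.z * g⁻¹⁻¹ by group, conj_pow, inv_inv] at h

/-- The images form the elementary family up to conjugation. -/
theorem Edge.image (P : D.Edge g k v) : ∃ n : NN, ∀ e, e ∈ (D.img g).range ↔ InA (n * e * n⁻¹) := by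
  obtain ⟨hC, hfin⟩ := P.card_CQ
  have hcomm : ∀ a ∈ (D.img g).range, ∀ b ∈ (D.img g).range, a * b = b * a := by
    rintro _ ⟨a, rfl⟩ _ ⟨b, rfl⟩
    obtain ⟨o, ho⟩ := D.Q_comm (mem_CQ.mp a.2) (mem_CQ.mp b.2)
    have e : D.img g (a * b * a⁻¹ * b⁻¹) = 1 := by
      refine img_one_iff.mpr ?_
      simp only [Subgroup.coe_mul, Subgroup.coe_inv]
      rw [ho]
      exact P.zz_in o
    rw [map_mul, map_mul, map_mul, map_inv, map_inv, mul_inv_eq_one, mul_inv_eq_iff_eq_mul] at e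
    exact e
  have h3 : ∀ a ∈ (D.img g).range, a * a * a = 1 := by
    rintro _ ⟨a, rfl⟩
    rw [← map_mul, ← map_mul, show a * a * a = 1 from Subtype.ext (Subtype.ext (by
      simpa [pow_succ] using D.Q_cube (mem_CQ.mp a.2))), map_one]
  have hmul : ∀ y y' : W8, g⁻¹ * D.q (y + y') * g =
      g⁻¹ * D.zz (Om y y') * g * ((g⁻¹ * D.q y * g) * (g⁻¹ * D.q y' * g)) := fun y y' => by
    rw [show g⁻¹ * D.zz (Om y y') * g * ((g⁻¹ * D.q y * g) * (g⁻¹ * D.q y' * g)) =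
      g⁻¹ * (D.zz (Om y y') * (D.q y * D.q y')) * g by group, D.q_mul', ← mul_assoc (D.zz _), ← D.zz_add,
      add_neg_cancel, D.zz_zero, one_mul]
  let L : AddSubgroup W8 :=
    { carrier := {y | Om v y = 0 ∧ g⁻¹ * D.q y * g ∈ D.Q}
      zero_mem' := ⟨Om_zero_right v, by simp [D.q_zero]⟩
      add_mem' := fun {y y'} hy hy' => ⟨by rw [Om_add_right, hy.1, hy'.1, add_zero],
        hmul y y' ▸ mul_mem (P.zz_in _) (mul_mem hy.2 hy'.2)⟩
      neg_mem' := fun {y} hy => ⟨by rw [Om_neg_right, hy.1, neg_zero], by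
        have := inv_mem hy.2
        rwa [show (g⁻¹ * D.q y * g)⁻¹ = g⁻¹ * (D.q y)⁻¹ * g by group, D.q_inv] at this⟩ }
  have hL : ∀ a ∈ L, ∀ b ∈ L, Om a b = 0 := fun a ha b hb => by
    obtain ⟨r, hr⟩ := D.Q_comm ha.2 hb.2
    have e : D.zz (Om a b) = g * D.zz r * g⁻¹ := by
      rw [← hr, show g * (g⁻¹ * D.q a * g * (g⁻¹ * D.q b * g) * (g⁻¹ * D.q a * g)⁻¹ * (g⁻¹ * D.q b * g)⁻¹) * g⁻¹ =
        D.q a * D.q b * (D.q a)⁻¹ * (D.q b)⁻¹ by group, D.q_conj, mul_inv_cancel_right]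
    rw [P.zz_eq] at e
    obtain ⟨e1, e2⟩ := D.el_inj (k := Om a b) (v := 0) (l := r * k) (w := Rep.sm r v) (by rw [D.q_zero, mul_one]; exact e)
    rw [e1, Rep.sm_eq_zero e2.symm P.ne, zero_mul]
  have hker : Nat.card (D.img g).ker ≤ 3 * Nat.card L := by
    have key : ∀ c : (D.img g).ker, ∃ p : ZMod 3 × L,
        c.1.1.1 = D.zz p.1 * D.q (p.2 : W8) := by
      rintro ⟨⟨⟨c, hc⟩, hq⟩, hk⟩
      obtain ⟨l, w, e⟩ := mem_CQ.mp hq
      simp only at e
      subst e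
      refine ⟨(l, ⟨w, P.perp hc, ?_⟩), rfl⟩
      have h1 := mul_mem (P.zz_in (-l)) (img_one_iff.mp hk)
      rw [show g⁻¹ * D.zz (-l) * g * (g⁻¹ * (D.zz l * D.q w) * g) = g⁻¹ * (D.zz (-l) * D.zz l * D.q w) * g by group,
        ← D.zz_add, neg_add_cancel, D.zz_zero, one_mul] at h1
      exact h1
    choose p hp using key
    refine (Nat.card_le_card_of_injective p fun c c' e => ?_).trans (le_of_eq (by simp))
    exact Subtype.ext (Subtype.ext (Subtype.ext (by rw [hp c, hp c', e])))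
  obtain ⟨hle, hA⟩ := elementary D.card_N hcomm h3
  rw [card_split (D.img g)] at hC
  have h81 := iso_card hL
  have h27 : 27 ≤ Nat.card (D.img g).range := by
    nlinarith [Nat.mul_le_mul (le_refl (Nat.card (D.img g).range)) (hker.trans (Nat.mul_le_mul (le_refl 3) h81))]
  obtain ⟨n, hn⟩ := hA h27
  exact ⟨n, fun e => hn e⟩

/-- The reverse conjugate. -/
theorem Edge.rev (P : D.Edge g k v) : ∃ k' v', D.Edge g⁻¹ k' v' := by
  obtain ⟨k', v', e⟩ := P.z_in
  refine ⟨k', v', by rw [inv_inv, e], fun h0 => P.ne ?_⟩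
  subst h0
  rw [D.q_zero, mul_one] at e
  have e' : g * D.zz k' * g⁻¹ = D.z := by rw [← e]; group
  rw [P.zz_eq, ← D.zz_one] at e'
  obtain ⟨h1, h2⟩ := D.el_inj (k := k' * k) (v := Rep.sm k' v) (l := 1) (w := 0) (by rw [D.q_zero, mul_one]; exact e')
  rcases z_cases k' with r | r | r <;> subst r
  · rw [zero_mul] at h1; exact absurd h1 (by decide)
  · exact h2
  · exact neg_eq_zero.mp h2

/-- The data after moving the family onto the diagonal one. -/
structure Std (D : Setting G) (g : G) (k : ZMod 3) (v : W8) (k' : ZMod 3) (v' : W8) : Prop where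
  fw : D.Edge g k v
  bw : D.Edge g⁻¹ k' v'
  mem : ∀ c ∈ D.Q, ∀ h : g * c * g⁻¹ ∈ D.CC, InA (D.ρ ⟨_, h⟩)
  surj : ∀ a b c : Fin 3, ∃ x ∈ D.Q, ∃ h : g * x * g⁻¹ ∈ D.CC, D.ρ ⟨_, h⟩ = TN (pel (a, b, c, 0))

theorem exists_std (D : Setting G) : ∃ g k v k' v', D.Std g k v k' v' := by
  obtain ⟨g, k, v, hg, hv⟩ := exists_pt D
  have P : D.Edge g k v := ⟨hg, hv⟩
  obtain ⟨k', v', P'⟩ := P.rev
  obtain ⟨n, hn⟩ := P'.image
  obtain ⟨m, hm⟩ := D.exists_lift n
  have hmC : m ∈ D.CC := D.mem_CC.mpr hm.1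
  have hmk : m * D.zz k * m⁻¹ = D.zz k := D.zz_conj hm.1 k
  refine ⟨m * g, k, (n : Equiv.Perm W8) v, k', v', ⟨?_, ?_⟩, ⟨?_, P'.ne⟩, ?_, ?_⟩
  · rw [show m * g * D.z * (m * g)⁻¹ = m * (g * D.z * g⁻¹) * m⁻¹ by group, hg,
      show m * (D.zz k * D.q v) * m⁻¹ = m * D.zz k * m⁻¹ * (m * D.q v * m⁻¹) by group, hmk, hm.2.2]
  · intro e
    exact hv ((n : Equiv.Perm W8).injective (e.trans (NN_zero n).symm))
  · rw [show (m * g)⁻¹ * D.z * (m * g)⁻¹⁻¹ = g⁻¹ * (m⁻¹ * D.z * m) * g⁻¹⁻¹ by group,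
      show m⁻¹ * D.z * m = D.z by rw [hm.1.inv_left.eq, inv_mul_cancel_right], P'.eq]
  · intro c hc h
    have h0 : g * c * g⁻¹ ∈ D.CC := by
      have := mul_mem (mul_mem (inv_mem hmC) h) hmC
      rwa [show m⁻¹ * (m * g * c * (m * g)⁻¹) * m = g * c * g⁻¹ by group] at this
    have hcc : c ∈ Subgroup.centralizer ({g⁻¹ * D.z * g⁻¹⁻¹} : Set G) := by
      have := conj_back (D := D) (g := g⁻¹) (x := c)
      refine Subgroup.mem_centralizer_singleton_iff.mpr (Commute.eq ?_)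
      have h1 := (D.mem_CC.mp h0).map (MulAut.conj g⁻¹).toMonoidHom
      simpa [mul_assoc] using h1
    have he : D.ρ ⟨_, h⟩ = n * D.img g⁻¹ ⟨⟨c, hcc⟩, hc⟩ * n⁻¹ := by
      rw [show (⟨_, h⟩ : D.CC) = ⟨m, hmC⟩ * ⟨_, h0⟩ * ⟨m, hmC⟩⁻¹ from Subtype.ext (by
        show m * g * c * (m * g)⁻¹ = m * (g * c * g⁻¹) * m⁻¹
        group), map_mul, map_mul, map_inv, D.ρ_eq (h := ⟨m, hmC⟩) hm.img]
      simp only [img, sig, MonoidHom.comp_apply]
      congr 3
      exact Subtype.ext (by simp)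
    rw [he]
    exact (hn _).mp ⟨_, rfl⟩
  · intro a b c
    obtain ⟨⟨⟨x, hxc⟩, hx⟩, he⟩ := (hn (n⁻¹ * TN (pel (a, b, c, 0)) * n)).mpr ⟨a, b, c, by group⟩
    have h0 : g * x * g⁻¹ ∈ D.CC := by
      have := conj_back (Subgroup.mem_centralizer_singleton_iff.mp hxc)
      rwa [inv_inv] at this
    have hh : m * g * x * (m * g)⁻¹ = m * (g * x * g⁻¹) * m⁻¹ := by group
    refine ⟨x, hx, hh ▸ mul_mem (mul_mem hmC h0) (inv_mem hmC), ?_⟩
    rw [show (⟨_, hh ▸ mul_mem (mul_mem hmC h0) (inv_mem hmC)⟩ : D.CC) = ⟨m, hmC⟩ * ⟨_, h0⟩ * ⟨m, hmC⟩⁻¹ from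
      Subtype.ext hh, map_mul, map_mul, map_inv, D.ρ_eq (h := ⟨m, hmC⟩) hm.img]
    have : D.ρ ⟨_, h0⟩ = n⁻¹ * TN (pel (a, b, c, 0)) * n := by
      rw [← he]
      simp only [img, sig, MonoidHom.comp_apply]
      congr 1
      exact Subtype.ext (by simp)
    rw [this]
    group

variable {k' : ZMod 3} {v' : W8}

/-- The family moves the common part along the conjugate. -/
theorem Std.move (S : D.Std g k v k' v') (a b c : Fin 3) {y : W8} (hy : g⁻¹ * D.q y * g ∈ D.Q) :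
    ∃ r, T (pel (a, b, c, 0)) y = y + Rep.sm r v := by
  obtain ⟨x, hx, h, e⟩ := S.surj a b c
  obtain ⟨r, hr⟩ := D.Q_comm hx hy
  obtain ⟨l, hl⟩ := D.ρ_spec ⟨_, h⟩ y
  rw [e] at hl
  have e1 : g * x * g⁻¹ * D.q y * (g * x * g⁻¹)⁻¹ = g * D.zz r * g⁻¹ * D.q y := by
    rw [← hr]; group
  have e2 := hl.symm.trans e1
  rw [S.fw.zz_eq, mul_assoc (D.zz _), D.q_mul', ← mul_assoc, ← D.zz_add] at e2
  exact ⟨r, by rw [add_comm y]; exact (D.el_inj e2).2⟩

theorem Std.v_fix (S : D.Std g k v k' v') (a b c : Fin 3) : T (pel (a, b, c, 0)) v = v := by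
  obtain ⟨x, hx, h, e⟩ := S.surj a b c
  obtain ⟨l, hl⟩ := D.ρ_spec ⟨_, h⟩ v
  rw [e] at hl
  have hcm : Commute (g * x * g⁻¹) (D.q v) := by
    have h1 : Commute (g * x * g⁻¹) (g * D.z * g⁻¹) := (D.Q_z hx).map (MulAut.conj g).toMonoidHom
    rw [S.fw.eq] at h1
    have h2 : Commute (g * x * g⁻¹) (D.zz k) := D.zz_comm (D.mem_CC.mp h) k
    simpa using (h2.inv_right.mul_right h1)
  rw [hcm.eq, mul_inv_cancel_right] at hl
  exact ((D.el_inj ((by rw [D.zz_zero, one_mul] : D.zz 0 * D.q v = D.q v).trans hl)).2).symm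

theorem Std.v_supp (S : D.Std g k v k' v') (a b c : Fin 2) (h : ¬(a = 0 ∧ b = 0 ∧ c = 0)) : v (ix a b c) = 0 := by
  have h0 := congrFun (S.v_fix 1 0 0) (ix 0 b c)
  have h1 := congrFun (S.v_fix 0 1 0) (ix a 0 c)
  have h2 := congrFun (S.v_fix 0 0 1) (ix a b 0)
  rw [T_u0, add_eq_left] at h0
  rw [T_u1, add_eq_left] at h1
  rw [T_u2, add_eq_left] at h2
  fin_cases a <;> fin_cases b <;> fin_cases c <;>
    first
      | exact absurd ⟨rfl, rfl, rfl⟩ h
      | exact h0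
      | exact h1
      | exact h2

theorem Std.v_swap (S : D.Std g k v k' v') : T swB v = v := funext fun i => by
  rw [idx_eta i, T_sw]
  generalize i 0 = a
  generalize i 1 = b
  generalize i 2 = c
  fin_cases a <;> fin_cases b <;> fin_cases c <;> first
    | rfl
    | (rw [S.v_supp _ _ _ (by decide), S.v_supp _ _ _ (by decide)])

theorem vec_sm (x : ZMod 3) (w : W8) (i : Idx) : Rep.sm x w i = x * w i := by
  rcases z_cases x with rfl | rfl | rfl <;> simp [Rep.sm_zero, Rep.sm_one, Rep.sm_neg_one]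

/-- The common part is determined by one coordinate modulo the conjugate, if the exchange inverts it. -/
theorem Std.coord (S : D.Std g k v k' v') {y : W8} (hy : g⁻¹ * D.q y * g ∈ D.Q) {m : ZMod 3}
    (hs : T swB y = Rep.sm m v - y) (h1 : y (ix 1 0 0) = 0) : ∃ r, y = Rep.sm r v := by
  have hv : v (ix 0 0 0) ≠ 0 := fun e => S.fw.ne (funext fun i => by
    rw [idx_eta i]
    by_cases h : i 0 = 0 ∧ i 1 = 0 ∧ i 2 = 0
    · rw [h.1, h.2.1, h.2.2, e]; rfl
    · exact S.v_supp _ _ _ h)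
  have hz : ∀ a b c : Fin 2, ¬(a = 0 ∧ b = 0 ∧ c = 0) → y (ix a b c) = 0 := by
    intro a b c h
    have hu0 : ∀ b c : Fin 2, ¬(b = 0 ∧ c = 0) → y (ix 1 b c) = 0 := fun b c hbc => by
      obtain ⟨r, hr⟩ := S.move 1 0 0 hy
      have e := congrFun hr (ix 0 b c)
      rw [T_u0, Pi.add_apply, add_right_inj, vec_sm, S.v_supp 0 b c (fun hh => hbc ⟨hh.2.1, hh.2.2⟩), mul_zero] at e
      exact e
    have hu1 : ∀ a c : Fin 2, ¬(a = 0 ∧ c = 0) → y (ix a 1 c) = 0 := fun a c hac => by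
      obtain ⟨r, hr⟩ := S.move 0 1 0 hy
      have e := congrFun hr (ix a 0 c)
      rw [T_u1, Pi.add_apply, add_right_inj, vec_sm, S.v_supp a 0 c (fun hh => hac ⟨hh.1, hh.2.2⟩), mul_zero] at e
      exact e
    have s001 := congrFun hs (ix 0 0 1)
    have s010 := congrFun hs (ix 0 1 0)
    rw [T_sw, Pi.sub_apply, vec_sm, S.v_supp _ _ _ (by decide), mul_zero, zero_sub] at s001 s010
    have t001 : y (ix 0 0 1) = 0 := (by decide : ∀ x : ZMod 3, x = -x → x = 0) _ s001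
    have t010 : y (ix 0 1 0) = 0 := by rw [h1, eq_comm, neg_eq_zero] at s010; exact s010
    fin_cases a <;> fin_cases b <;> fin_cases c <;> first
      | exact absurd ⟨rfl, rfl, rfl⟩ h
      | exact t001
      | exact t010
      | exact h1
      | exact hu0 _ _ (by decide)
      | exact hu1 _ _ (by decide)
  refine ⟨y (ix 0 0 0) * v (ix 0 0 0), funext fun i => ?_⟩
  rw [vec_sm, idx_eta i]
  by_cases h : i 0 = 0 ∧ i 1 = 0 ∧ i 2 = 0
  · rw [h.1, h.2.1, h.2.2]
    exact (by decide : ∀ a b : ZMod 3, b ≠ 0 → a = a * b * b) _ _ hv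
  · rw [hz _ _ _ h, S.v_supp _ _ _ h, mul_zero]

open scoped Classical in
/-- The coordinates of an element of the core. -/
noncomputable def crd (D : Setting G) (x : G) : W8 := if h : x ∈ D.Q then h.choose_spec.choose else 0

theorem crd_eq (l : ZMod 3) (w : W8) : D.crd (D.zz l * D.q w) = w := by
  have h := D.el_mem l w
  rw [crd, dif_pos h]
  exact (D.el_inj h.choose_spec.choose_spec).2.symm

theorem crd_mul {x y : G} (hx : x ∈ D.Q) (hy : y ∈ D.Q) : D.crd (x * y) = D.crd x + D.crd y := by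
  obtain ⟨l, u, rfl⟩ := hx
  obtain ⟨m, w, rfl⟩ := hy
  rw [D.el_mul, crd_eq, crd_eq, crd_eq]

/-- The inverted part of the conjugate core is small. -/
theorem Std.fix_card (S : D.Std g k v k' v') {t : G} (ht : D.Acts t SW) (hv : Commute t (g * D.z * g⁻¹))
    (ht' : g⁻¹ * t * g ∈ D.CC) :
    729 ≤ Nat.card {w : W8 // (D.ρ ⟨_, ht'⟩ : Equiv.Perm W8) w = w} := by
  classical
  set f := D.ρ ⟨_, ht'⟩ with hf
  have himg : ∀ w, ∃ l, g⁻¹ * t * g * D.q w * (g⁻¹ * t * g)⁻¹ = D.zz l * D.q ((f : Equiv.Perm W8) w) :=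
    D.ρ_spec ⟨_, ht'⟩
  have hv' : (f : Equiv.Perm W8) v' = v' := by
    obtain ⟨l, hl⟩ := himg v'
    have h1 : Commute (g⁻¹ * t * g) (g⁻¹ * D.z * g) := by
      simpa [mul_assoc] using ht.1.map (MulAut.conj g⁻¹).toMonoidHom
    have h2 : g⁻¹ * D.z * g = D.zz k' * D.q v' := by have := S.bw.eq; rwa [inv_inv] at this
    rw [h2] at h1
    have h3 : Commute (g⁻¹ * t * g) (D.q v') := by
      simpa using ((D.zz_comm (D.mem_CC.mp ht') k').inv_right.mul_right h1)
    rw [h3.eq, mul_inv_cancel_right] at hl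
    exact ((D.el_inj ((by rw [D.zz_zero, one_mul] : D.zz 0 * D.q v' = D.q v').trans hl)).2).symm
  let An := {w : W8 // (f : Equiv.Perm W8) w = -w}
  have perp : ∀ w : An, g * D.q w.1 * g⁻¹ ∈ D.CC := fun w => by
    have h1 : Om v' w.1 = 0 := by
      have e := f.2.iso v' w.1
      rw [hv', w.2, Om_neg_right] at e
      exact (by decide : ∀ x : ZMod 3, -x = x → x = 0) _ e
    have h2 := S.bw.cen 0 h1
    rw [D.zz_zero, one_mul] at h2
    have := conj_back (Subgroup.mem_centralizer_singleton_iff.mp h2)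
    rwa [inv_inv] at this
  have anti : ∀ w : W8, (f : Equiv.Perm W8) w = -w → ∃ l, t * (g * D.q w * g⁻¹) * t⁻¹ =
      g * D.zz l * g⁻¹ * (g * D.q w * g⁻¹)⁻¹ := fun w hw => by
    obtain ⟨l, hl⟩ := himg w
    rw [hw, ← D.q_inv] at hl
    refine ⟨l, ?_⟩
    calc t * (g * D.q w * g⁻¹) * t⁻¹ = g * (g⁻¹ * t * g * D.q w * (g⁻¹ * t * g)⁻¹) * g⁻¹ := by group
      _ = g * (D.zz l * (D.q w)⁻¹) * g⁻¹ := by rw [hl]
      _ = _ := by group
  have xQ : ∀ l, g * D.zz l * g⁻¹ ∈ D.Q := fun l => by rw [S.fw.zz_eq]; exact D.el_mem _ _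
  have htC : t ∈ D.CC := D.mem_CC.mpr ht.1
  set F : An → NN := fun w => D.ρ ⟨_, perp w⟩ with hF
  have hA : ∀ w : An, ∃ a : Fin 3, F w = TN (pel (a, -a, 0, 0)) := fun w => by
    obtain ⟨a, b, c, e⟩ := S.mem _ (D.q_mem w.1) (perp w)
    obtain ⟨l, hl⟩ := anti w.1 w.2
    have e1 : D.ρ ⟨t, htC⟩ * F w * (D.ρ ⟨t, htC⟩)⁻¹ = (F w)⁻¹ := by
      rw [hF, ← map_inv, ← map_inv, ← map_mul, ← map_mul,
        show (⟨t, htC⟩ : D.CC) * ⟨_, perp w⟩ * ⟨t, htC⟩⁻¹ = ⟨_, D.mem_CC.mpr (D.Q_z (xQ l))⟩ * ⟨_, perp w⟩⁻¹ from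
          Subtype.ext hl, map_mul, (D.ρ_ker (h := ⟨_, D.mem_CC.mpr (D.Q_z (xQ l))⟩)).mpr (xQ l), one_mul]
    simp only [hF] at e1
    rw [D.ρ_eq (h := ⟨t, htC⟩) ht.img] at e1
    rw [e, show SW⁻¹ = SW from inv_eq_of_mul_eq_one_right SW_sq, SW, ← map_mul, ← map_mul,
      eqB_iff.mp (sw_pel a b c), eq_inv_iff_mul_eq_one, ← map_mul] at e1
    obtain ⟨rfl, rfl⟩ := anti_pel a b c
      (eqB_iff.mpr (TN_P81_ker (mul_mem (pel_mem _) (pel_mem _)) e1))
    exact ⟨a, e⟩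
  have himage : (Finset.univ.image F).card ≤ 3 := by
    refine (Finset.card_le_card (t := Finset.univ.image fun a : Fin 3 => TN (pel (a, -a, 0, 0))) fun e he => ?_).trans
      (Finset.card_image_le.trans (by simp))
    obtain ⟨w, -, rfl⟩ := Finset.mem_image.mp he
    obtain ⟨a, ha⟩ := hA w
    exact Finset.mem_image.mpr ⟨a, Finset.mem_univ _, ha.symm⟩
  have hfib : ∀ e ∈ Finset.univ.image F, (Finset.univ.filter fun w => F w = e).card ≤ 3 := by
    intro e he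
    obtain ⟨w0, -, rfl⟩ := Finset.mem_image.mp he
    let dd : An → W8 := fun w => w.1 - w0.1
    refine (Finset.card_le_card_of_injOn (fun w => D.crd (g * D.q (dd w) * g⁻¹) (ix 1 0 0))
      (t := (Finset.univ : Finset (ZMod 3))) (fun _ _ => Finset.mem_univ _) ?_).trans (by simp)
    intro w1 h1 w2 h2 hq
    simp only [Finset.coe_filter, Finset.mem_univ, true_and, Set.mem_setOf_eq] at h1 h2
    have hsub : ∀ a b : W8, g * D.q (a - b) * g⁻¹ =
        g * D.zz (-Om a b) * g⁻¹ * (g * D.q a * g⁻¹) * (g * D.q b * g⁻¹)⁻¹ := fun a b => by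
      rw [show g * D.zz (-Om a b) * g⁻¹ * (g * D.q a * g⁻¹) * (g * D.q b * g⁻¹)⁻¹ =
        g * (D.zz (-Om a b) * (D.q a * (D.q b)⁻¹)) * g⁻¹ by group, D.q_inv, D.q_mul', ← mul_assoc (D.zz _), ← D.zz_add,
        Om_neg_right, neg_neg, neg_add_cancel, D.zz_zero, one_mul, sub_eq_add_neg]
    have inQ : ∀ a b : An, F a = F b → g * D.q (a.1 - b.1) * g⁻¹ ∈ D.Q := fun a b hab => by
      rw [hsub, mul_assoc]
      refine mul_mem (xQ _) ((D.ρ_ker (h := ⟨_, mul_mem (perp a) (inv_mem (perp b))⟩)).mp ?_)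
      rw [show (⟨_, mul_mem (perp a) (inv_mem (perp b))⟩ : D.CC) = ⟨_, perp a⟩ * ⟨_, perp b⟩⁻¹ from rfl, map_mul, map_inv]
      exact mul_inv_eq_one.mpr hab
    set u : W8 := w1.1 - w2.1 with hu
    have huA : (f : Equiv.Perm W8) u = -u := by rw [hu, NN_sub, w1.2, w2.2]; abel
    have hd : g * D.q (dd w1) * g⁻¹ = g * D.zz (-Om u (dd w2)) * g⁻¹ * (g * D.q u * g⁻¹) * (g * D.q (dd w2) * g⁻¹) := by
      rw [show g * D.zz (-Om u (dd w2)) * g⁻¹ * (g * D.q u * g⁻¹) * (g * D.q (dd w2) * g⁻¹) =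
        g * (D.zz (-Om u (dd w2)) * (D.q u * D.q (dd w2))) * g⁻¹ by group, D.q_mul', ← mul_assoc (D.zz _), ← D.zz_add,
        show u + dd w2 = dd w1 by simp only [hu, dd]; abel]
      have hz : Om u (dd w2) = 0 := by
        have q1 := inQ w1 w2 (h1.trans h2.symm)
        have q2 := inQ w2 w0 h2
        obtain ⟨o, ho⟩ := D.Q_comm q1 q2
        rw [show g * D.q u * g⁻¹ * (g * D.q (dd w2) * g⁻¹) * (g * D.q u * g⁻¹)⁻¹ * (g * D.q (dd w2) * g⁻¹)⁻¹ =
            g * (D.q u * D.q (dd w2) * (D.q u)⁻¹ * (D.q (dd w2))⁻¹) * g⁻¹ by group, D.q_conj, mul_inv_cancel_right,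
            S.fw.zz_eq] at ho
        obtain ⟨-, h0⟩ := D.el_inj (k := Om u (dd w2) * k) (v := Rep.sm (Om u (dd w2)) v) (l := o) (w := 0)
          (by rw [D.q_zero, mul_one]; exact ho)
        exact Rep.sm_eq_zero h0 S.fw.ne
      rw [hz, neg_zero, add_zero, D.zz_zero, one_mul]
    have hcu := inQ w1 w2 (h1.trans h2.symm)
    obtain ⟨l, y, hy⟩ := hcu
    have e100 : y (ix 1 0 0) = 0 := by
      have e := congrArg (fun x => D.crd x (ix 1 0 0)) hd
      rw [crd_mul (mul_mem (xQ _) ⟨l, y, hy⟩) (inQ w2 w0 h2), crd_mul (xQ _) ⟨l, y, hy⟩, hy, S.fw.zz_eq, crd_eq, crd_eq,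
        Pi.add_apply, Pi.add_apply, vec_sm, S.v_supp 1 0 0 (by decide), mul_zero, zero_add] at e
      have hq' : D.crd (g * D.q (dd w1) * g⁻¹) (ix 1 0 0) = D.crd (g * D.q (dd w2) * g⁻¹) (ix 1 0 0) := hq
      rw [hq'] at e
      exact right_eq_add.mp e
    obtain ⟨o, ho⟩ := anti u huA
    have hyQ : g⁻¹ * D.q y * g ∈ D.Q := by
      have h' := mul_mem (S.fw.zz_in (-l)) (D.q_mem u)
      rw [show D.q u = g⁻¹ * (g * D.q u * g⁻¹) * g by group, hy,
        show g⁻¹ * D.zz (-l) * g * (g⁻¹ * (D.zz l * D.q y) * g) = g⁻¹ * (D.zz (-l) * D.zz l * D.q y) * g by group,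
        ← D.zz_add, neg_add_cancel, D.zz_zero, one_mul] at h'
      exact h'
    have hsw : T swB y = Rep.sm o v - y := by
      have e : D.crd (t * (g * D.q u * g⁻¹) * t⁻¹) = T swB y := by
        rw [hy, show t * (D.zz l * D.q y) * t⁻¹ = t * D.zz l * t⁻¹ * (t * D.q y * t⁻¹) by group, D.zz_conj ht.1,
          ht.2.2, crd_eq]
        rfl
      rw [ho, hy, D.el_inv, crd_mul (xQ _) (D.el_mem _ _), S.fw.zz_eq, crd_eq, crd_eq, ← sub_eq_add_neg] at e
      exact e.symm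
    obtain ⟨r, hr⟩ := S.coord hyQ hsw e100
    have hyx : g * D.q u * g⁻¹ = D.zz (l - r * k) * (g * D.zz r * g⁻¹) := by
      rw [hy, hr, S.fw.zz_eq, ← mul_assoc, ← D.zz_add, sub_add_cancel]
    have hu2 : D.q u = g⁻¹ * D.zz (l - r * k) * g * D.zz r := by
      rw [show D.q u = g⁻¹ * (g * D.q u * g⁻¹) * g by group, hyx]; group
    have hb := S.bw.zz_eq (l - r * k)
    rw [inv_inv] at hb
    rw [hb, mul_assoc, ← (D.zz_q r _).eq, ← mul_assoc, ← D.zz_add] at hu2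
    obtain ⟨-, hu3⟩ := D.el_inj ((by rw [D.zz_zero, one_mul] : D.zz 0 * D.q u = D.q u).trans hu2)
    have hfu : (f : Equiv.Perm W8) u = u := by
      rw [hu3]
      exact (Rep.map_sm (AddMonoidHom.mk' _ f.2.add) _ v').trans (congrArg (Rep.sm _) hv')
    have hu0 : u = 0 := funext fun i => by
      have := congrFun (huA.symm.trans hfu) i
      exact (by decide : ∀ x : ZMod 3, -x = x → x = 0) _ this
    exact Subtype.ext (sub_eq_zero.mp hu0)
  have hAn : Nat.card An ≤ 9 := by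
    rw [Nat.card_eq_fintype_card, ← Finset.card_univ]
    exact (Finset.card_le_mul_card_image _ 3 hfib).trans (by omega)
  have ff : ∀ w, (f : Equiv.Perm W8) ((f : Equiv.Perm W8) w) = w := fun w => by
    have e : f * f = 1 := by
      rw [hf, ← map_mul]
      refine (D.ρ_ker).mpr ?_
      show g⁻¹ * t * g * (g⁻¹ * t * g) ∈ D.Q
      have e2 : D.Acts (t * t) 1 := ⟨ht.1.mul_left ht.1, ht.2.1.mul_left ht.2.1, fun v => by
        rw [show t * t * D.q v * (t * t)⁻¹ = t * (t * D.q v * t⁻¹) * t⁻¹ by group, ht.2.2, ht.2.2,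
          ← Equiv.Perm.mul_apply, ← Subgroup.coe_mul, SW_sq]⟩
      obtain ⟨c, hc⟩ := D.levi_trivial e2
      rw [show g⁻¹ * t * g * (g⁻¹ * t * g) = g⁻¹ * (t * t) * g by group, hc]
      exact S.fw.zz_in c
    rw [← Equiv.Perm.mul_apply, ← Subgroup.coe_mul, e]; rfl
  let φ : W8 → {w : W8 // (f : Equiv.Perm W8) w = w} × An := fun w =>
    (⟨w + (f : Equiv.Perm W8) w, by rw [f.2.add, ff, add_comm]⟩,
      ⟨w - (f : Equiv.Perm W8) w, by rw [NN_sub, ff, neg_sub]⟩)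
  have hφ : Function.Injective φ := fun a b e => by
    simp only [φ, Prod.mk.injEq, Subtype.mk.injEq] at e
    funext i
    have e1 := congrFun e.1 i
    have e2 := congrFun (Subtype.ext_iff.mp e.2) i
    simp only [Pi.add_apply, Pi.sub_apply] at e1 e2
    exact (by decide : ∀ a b c d : ZMod 3, a + c = b + d → a - c = b - d → a = b) _ _ _ _ e1 e2
  have h := Nat.card_le_card_of_injective φ hφ
  rw [Nat.card_prod, show Nat.card W8 = 6561 by simp [Nat.card_eq_fintype_card]] at h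
  nlinarith [Nat.mul_le_mul (le_refl (Nat.card {w : W8 // (f : Equiv.Perm W8) w = w})) hAn]

/-- The exchange and an element of its centraliser moving the central element into the core. -/
theorem exists_edge (D : Setting G) : ∃ t h : G, t * t = 1 ∧ t ≠ 1 ∧ D.Acts t SW ∧ Commute h t ∧
    ∃ k v, h * D.z * h⁻¹ = D.zz k * D.q v ∧ v ≠ 0 ∧ T swB v = v := by
  obtain ⟨g, k, v, k', v', S⟩ := exists_std D
  obtain ⟨s, hs⟩ := D.exists_lift SW
  obtain ⟨a, ha⟩ : ∃ a, s * s = D.zz a := D.levi_trivial ⟨hs.1.mul_left hs.1, hs.2.1.mul_left hs.2.1, fun v => by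
    rw [show s * s * D.q v * (s * s)⁻¹ = s * (s * D.q v * s⁻¹) * s⁻¹ by group, hs.2.2, hs.2.2,
      ← Equiv.Perm.mul_apply, ← Subgroup.coe_mul, SW_sq]⟩
  set t := s * D.zz a with ht
  have hcz : Commute (D.zz a) D.z := (Commute.refl D.z).pow_left _
  have hA : D.Acts t SW := ⟨hs.1.mul_left hcz, hs.2.1.mul_left ((D.j_z.symm).pow_left _), fun w => by
    rw [ht, show s * D.zz a * D.q w * (s * D.zz a)⁻¹ = s * (D.zz a * D.q w * (D.zz a)⁻¹) * s⁻¹ by group,
      (D.zz_q a w).eq, mul_inv_cancel_right, hs.2.2]⟩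
  have htt : t * t = 1 := by
    rw [ht, show s * D.zz a * (s * D.zz a) = s * (D.zz a * s) * D.zz a by group, ← (D.zz_comm hs.1 a).eq,
      ← mul_assoc, ha, ← D.zz_add, ← D.zz_add, three_z, D.zz_zero]
  have ht1 : t ≠ 1 := fun e => SW_ne (hA.img.unique (e ▸ D.img_one))
  have htv : Commute t (g * D.z * g⁻¹) := by
    rw [S.fw.eq]
    refine (D.zz_comm hA.1 k).mul_right ?_
    have := hA.2.2 v
    rw [show ((SW : NN) : Equiv.Perm W8) v = T swB v from rfl, S.v_swap, mul_inv_eq_iff_eq_mul] at this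
    exact this
  have htC : g⁻¹ * t * g ∈ D.CC := conj_back htv
  set f := D.ρ ⟨_, htC⟩ with hf
  have f2 : f * f = 1 := by
    rw [hf, ← map_mul, ← map_one D.ρ]
    congr 1
    refine Subtype.ext ?_
    show g⁻¹ * t * g * (g⁻¹ * t * g) = 1
    rw [show g⁻¹ * t * g * (g⁻¹ * t * g) = g⁻¹ * (t * t) * g by group, htt, mul_one, inv_mul_cancel]
  have f1 : f ≠ 1 := fun e => ht1 (by
    have h3 := D.Q_cube ((D.ρ_ker (h := ⟨_, htC⟩)).mp e)
    change (g⁻¹ * t * g) ^ 3 = 1 at h3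
    rw [show g⁻¹ * t * g = g⁻¹ * t * g⁻¹⁻¹ by group, conj_pow, inv_inv,
      show t ^ 3 = t * t * t by simp [pow_succ], htt, one_mul] at h3
    calc t = g * (g⁻¹ * t * g) * g⁻¹ := by group
      _ = 1 := by rw [h3]; group)
  obtain ⟨n, hn⟩ := big_fix f2 f1 (S.fix_card hA htv htC)
  obtain ⟨m, hm⟩ := D.exists_lift n
  have hmC : m ∈ D.CC := D.mem_CC.mpr hm.1
  set t' := m⁻¹ * (g⁻¹ * t * g) * m with ht'
  have hC' : t' ∈ D.CC := mul_mem (mul_mem (inv_mem hmC) htC) hmC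
  have htC0 : t ∈ D.CC := D.mem_CC.mpr hA.1
  have hρ : D.ρ ⟨t', hC'⟩ = SW := by
    rw [show (⟨t', hC'⟩ : D.CC) = ⟨m, hmC⟩⁻¹ * ⟨_, htC⟩ * ⟨m, hmC⟩ from rfl, map_mul, map_mul, map_inv,
      D.ρ_eq (h := ⟨m, hmC⟩) hm.img, ← hf, hn, SW]
    group
  have hQ : t * t' ∈ D.Q := by
    refine (D.ρ_ker (h := ⟨_, mul_mem htC0 hC'⟩)).mp ?_
    rw [show (⟨_, mul_mem htC0 hC'⟩ : D.CC) = ⟨t, htC0⟩ * ⟨t', hC'⟩ from rfl, map_mul,
      D.ρ_eq (h := ⟨t, htC0⟩) hA.img, hρ, SW_sq]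
  have ht't : t' * t' = 1 := by
    rw [ht', show m⁻¹ * (g⁻¹ * t * g) * m * (m⁻¹ * (g⁻¹ * t * g) * m) = m⁻¹ * g⁻¹ * (t * t) * g * m by group, htt]
    group
  have hc3 := D.Q_cube hQ
  set c := t * t' with hc
  have hct : c * t * c⁻¹ = t' := by
    have ti : t⁻¹ = t := inv_eq_of_mul_eq_one_right htt
    have ti' : t'⁻¹ = t' := inv_eq_of_mul_eq_one_right ht't
    calc c * t * c⁻¹ = t * t' * t * t' * t := by rw [hc, mul_inv_rev, ti, ti']; group
      _ = (t * t') ^ 3 * t'⁻¹ := by simp only [pow_succ, pow_zero, one_mul]; group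
      _ = t' := by rw [← hc, hc3, one_mul, ti']
  refine ⟨t, g * m * c, htt, ht1, hA, ?_, k, v, ?_, S.fw.ne, S.v_swap⟩
  · show g * m * c * t = t * (g * m * c)
    calc g * m * c * t = g * m * (c * t * c⁻¹) * c := by group
      _ = g * m * (m⁻¹ * (g⁻¹ * t * g) * m) * c := by rw [hct, ht']
      _ = _ := by group
  · have hcm : Commute (m * c) D.z := hm.1.mul_left (D.Q_z hQ)
    rw [show g * m * c * D.z * (g * m * c)⁻¹ = g * (m * c * D.z * (m * c)⁻¹) * g⁻¹ by group, hcm.eq,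
      mul_inv_cancel_right, S.fw.eq]

end Setting

end CfsgLib.Fi23Loc
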