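import Cfsg.Agent.Lib.Fi23Loc.Coord

/-!
The setting from the data before coordinates.
-/

set_option autoImplicit false
set_option linter.unusedSectionVars false
set_option synthInstance.maxSize 1024
set_option maxRecDepth 100000

namespace CfsgLib.Fi23Loc

open CfsgLib.Fi22Loc (Bk dg ψ)
open CfsgLib.U6Three (SL23 mU)

universe u

theorem psi_neg_one : ψ (-1 : SL23) = 0 := by decide +kernel

namespace Pre

variable {G : Type u} [Group G] (P : Pre G)

theorem zz_pow (a : ZMod 3) (n : ℕ) : P.zz a ^ n = P.zz (n * a) := by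
  induction n with
  | zero => rw [pow_zero, Nat.cast_zero, zero_mul, zz_zero]
  | succ n ih => rw [pow_succ, ih, ← zz_add, Nat.cast_succ, add_mul, one_mul]

theorem cl_zz (k : ZMod 3) : P.cl ⟨P.zz k, P.zz_Q k⟩ = 0 := by
  rw [show (0 : P.W) = P.cl 1 from rfl]
  exact (P.cl_eq.mpr ⟨k, by simp⟩).symm

theorem op_one (w : P.W) : P.op 1 w = w := P.op_Q (one_mem _) w

theorem op_inv {h : G} (hh : Commute h P.z) (w : P.W) : P.op h⁻¹ (P.op h w) = w := by
  rw [← P.op_comp hh.inv_left hh, inv_mul_cancel, P.op_one]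

theorem op_inv' {h : G} (hh : Commute h P.z) (w : P.W) : P.op h (P.op h⁻¹ w) = w := by
  rw [← P.op_comp hh hh.inv_left, mul_inv_cancel, P.op_one]

end Pre

namespace Lift

variable {G : Type u} [Group G] [Finite G] {P : Pre G}

/-- The coordinates. -/
structure Coo (L : Lift P) where
  /-- the intertwiner -/
  e : W8 ≃+ P.W
  hA : ∀ i v, P.op (L.a i) (e v) = e (T (dg (rA i)) v)
  hB : ∀ i v, P.op (L.b i) (e v) = e (T (dg (rB i)) v)
  hJ : ∀ w, P.op L.j w = -w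
  /-- the factor of the commutator form -/
  κ : ZMod 3
  κ_ne : κ ≠ 0
  comm : ∀ x y : ↥P.Q, ∀ v w, P.cl x = e v → P.cl y = e w →
    (x : G) * y * (x : G)⁻¹ * (y : G)⁻¹ = P.zz (κ * Om v w)
  /-- the inverted representative -/
  q : W8 → ↥P.Q
  q_cl : ∀ v, P.cl (q v) = e v
  q_inv : ∀ v, L.j * q v * L.j = ((q v : ↥P.Q) : G)⁻¹

variable {L : Lift P}

theorem exists_coo (L : Lift P) : Nonempty L.Coo := by
  obtain ⟨e, hA, hB, hJ⟩ := L.exists_psi
  choose rp hrp using fun v => P.cl_surj (e v)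
  choose β hβ using fun v w => P.Q_comm (rp v) (rp v).2 (rp w) (rp w).2
  have spec : ∀ (x y : ↥P.Q) v w, P.cl x = e v → P.cl y = e w →
      (x : G) * y * (x : G)⁻¹ * (y : G)⁻¹ = P.zz (β v w) := by
    intro x y v w hx hy
    obtain ⟨k, hk⟩ := P.cl_eq.mp ((hrp v).trans hx.symm)
    obtain ⟨l, hl⟩ := P.cl_eq.mp ((hrp w).trans hy.symm)
    rw [hk, hl]
    have c1 : Commute (P.zz l) (rp v : G) := (P.zz_comm (P.Q_z _ (rp v).2) l).symm
    have c2 : Commute (P.zz k) (rp w : G) := (P.zz_comm (P.Q_z _ (rp w).2) k).symm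
    have c3 : Commute (P.zz k) (P.zz l) := P.zz_comm ((Commute.refl P.z).pow_left _) l
    calc P.zz k * (rp v : G) * (P.zz l * rp w) * (P.zz k * rp v)⁻¹ * (P.zz l * (rp w : G))⁻¹
        = P.zz k * ((rp v : G) * P.zz l) * (rp w) * (rp v : G)⁻¹ * (P.zz k)⁻¹ * (rp w : G)⁻¹ * (P.zz l)⁻¹ := by group
      _ = P.zz k * P.zz l * ((rp v : G) * rp w * (rp v : G)⁻¹ * ((P.zz k)⁻¹ * (rp w : G)⁻¹)) * (P.zz l)⁻¹ := by
          rw [← c1.eq]; group
      _ = P.zz k * P.zz l * ((rp v : G) * rp w * (rp v : G)⁻¹ * (rp w : G)⁻¹) * ((P.zz k)⁻¹ * (P.zz l)⁻¹) := by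
          rw [c2.inv_inv.eq]; group
      _ = P.zz k * P.zz l * P.zz (β v w) * (P.zz l * P.zz k)⁻¹ := by
          rw [show (rp v : G) * rp w * (rp v : G)⁻¹ * (rp w : G)⁻¹ = P.zz (β v w) from hβ v w]; group
      _ = P.zz (β v w) := by
          have c4 : Commute (P.zz k * P.zz l) (P.zz (β v w)) :=
            (P.zz_comm ((Commute.refl P.z).pow_left _) (β v w) : Commute (P.zz k) _).mul_left
              (P.zz_comm ((Commute.refl P.z).pow_left _) (β v w) : Commute (P.zz l) _)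
          rw [← c3.eq, c4.eq, mul_inv_cancel_right]
  have swap : ∀ v w, β w v = -β v w := fun v w => by
    refine P.zz_inj ?_
    rw [P.zz_neg, ← spec (rp w) (rp v) w v (hrp w) (hrp v), ← spec (rp v) (rp w) v w (hrp v) (hrp w)]
    group
  have hl : ∀ u v w, β (u + v) w = β u w + β v w := fun u v w => by
    refine P.zz_inj ?_
    rw [← spec (rp u * rp v) (rp w) (u + v) w (by rw [P.cl_mul, hrp, hrp, map_add]) (hrp w), add_comm, P.zz_add,
      ← spec (rp u) (rp w) u w (hrp u) (hrp w), ← P.zz_conj (P.Q_z _ (rp u).2) (β v w),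
      ← spec (rp v) (rp w) v w (hrp v) (hrp w), Subgroup.coe_mul]
    group
  have hinv : ∀ h (hh : Commute h P.z) (f : W8 → W8), (∀ v, P.op h (e v) = e (f v)) →
      ∀ v w, β (f v) (f w) = β v w := fun h hh f hf v w => by
    refine P.zz_inj ?_
    have hx : ∀ u, P.cl ⟨h * rp u * h⁻¹, P.conj_Q h hh _ (rp u).2⟩ = e (f u) := fun u => by
      rw [← P.op_spec hh, hrp, hf]
    rw [← spec _ _ (f v) (f w) (hx v) (hx w), ← P.zz_conj hh (β v w), ← spec (rp v) (rp w) v w (hrp v) (hrp w)]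
    group
  have hr : ∀ u v w, β u (v + w) = β u v + β u w := fun u v w => by
    rw [swap (v + w) u, hl, swap u v, swap u w]; ring
  obtain ⟨κ, hκ⟩ := invariant_form β hl hr (fun i => hinv _ (L.az i) _ (hA i)) (fun i => hinv _ (L.bz i) _ (hB i))
  have κ0 : κ ≠ 0 := fun h0 => by
    have hc : ∀ x : ↥P.Q, ∃ k, (x : G) = P.zz k := fun x => P.self x fun y hy => by
      obtain ⟨v, hv⟩ := e.surjective (P.cl x)
      obtain ⟨w, hw⟩ := e.surjective (P.cl ⟨y, hy⟩)
      have := spec x ⟨y, hy⟩ v w hv.symm hw.symm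
      rw [hκ, h0, zero_mul, P.zz_zero, mul_inv_eq_one, mul_inv_eq_iff_eq_mul] at this
      exact this
    choose k hk using hc
    have := Nat.card_le_card_of_injective k fun x y h => Subtype.ext (by rw [hk x, hk y, h])
    rw [P.card_Q, Nat.card_zmod] at this
    omega
  choose qq hq1 hq2 using L.exists_coord e hJ
  exact ⟨⟨e, hA, hB, hJ, κ, κ0, fun x y v w hx hy => hκ v w ▸ spec x y v w hx hy, qq, hq1, hq2⟩⟩

namespace Coo

variable (C : L.Coo)

theorem ji (_C : L.Coo) : L.j⁻¹ = L.j := inv_eq_of_mul_eq_one_right L.jj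

theorem unique {x : ↥P.Q} {v : W8} (hx : P.cl x = C.e v) (hj : L.j * x * L.j = (x : G)⁻¹) : x = C.q v := by
  obtain ⟨k, hk⟩ := P.cl_eq.mp ((C.q_cl v).trans hx.symm)
  have e1 : L.j * (x : G) * L.j = P.zz k * (L.j * C.q v * L.j) := by
    rw [hk, ← mul_assoc L.j, (P.zz_comm L.jz k).eq]
    simp only [mul_assoc]
  rw [hj, C.q_inv, hk, mul_inv_rev, ← P.zz_neg, (P.zz_comm (P.Q_z _ (inv_mem (C.q v).2)) (-k)).eq, mul_left_inj] at e1
  have h0 : k = 0 := (by decide : ∀ a : ZMod 3, -a = a → a = 0) k (P.zz_inj e1)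
  exact Subtype.ext (by rw [hk, h0, P.zz_zero, one_mul])

theorem q_z (v : W8) : Commute (C.q v : G) P.z := P.Q_z _ (C.q v).2

theorem q_zero : (C.q 0 : G) = 1 := by
  have h := C.unique (x := 1) (v := 0) (by rw [map_zero]; rfl) (by
    rw [Subgroup.coe_one, mul_one, L.jj, inv_one])
  rw [← h]; rfl

theorem el_surj {x : G} (hx : x ∈ P.Q) : ∃ k v, x = P.zz k * C.q v := by
  obtain ⟨v, hv⟩ := C.e.surjective (P.cl ⟨x, hx⟩)
  obtain ⟨k, hk⟩ := P.cl_eq.mp ((C.q_cl v).trans hv)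
  exact ⟨k, v, hk⟩

theorem el_inj {k : ZMod 3} {v : W8} (h : P.zz k * C.q v = 1) : k = 0 ∧ v = 0 := by
  have h0 : P.cl (C.q v) = P.cl 1 := P.cl_eq.mpr ⟨k, by rw [Subgroup.coe_one, h]⟩
  rw [C.q_cl, show P.cl (1 : ↥P.Q) = 0 from rfl, AddEquiv.map_eq_zero_iff] at h0
  subst h0
  rw [C.q_zero, mul_one] at h
  exact ⟨P.zz_inj (h.trans P.zz_zero.symm), rfl⟩

theorem q_neg (v : W8) : L.j * C.q v * L.j = (C.q (-v) : G) := by
  rw [C.q_inv]
  exact congrArg Subtype.val (C.unique (x := (C.q v)⁻¹) (v := -v) (by rw [P.cl_inv, C.q_cl, map_neg]) (by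
    rw [InvMemClass.coe_inv, inv_inv]
    conv_rhs => rw [← inv_inv (C.q v : G), ← C.q_inv]
    rw [mul_inv_rev, mul_inv_rev, C.ji]; group))

theorem q_mul (v w : W8) : (C.q v : G) * C.q w = P.zz (-(C.κ * Om v w)) * C.q (v + w) := by
  obtain ⟨m, hm⟩ := P.cl_eq.mp ((C.q_cl (v + w)).trans
    (show C.e (v + w) = P.cl (C.q v * C.q w) by rw [P.cl_mul, C.q_cl, C.q_cl, map_add]))
  rw [Subgroup.coe_mul] at hm
  have hb := C.comm (C.q w) (C.q v) w v (C.q_cl w) (C.q_cl v)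
  rw [Om_swap v w, mul_neg] at hb
  set b := -(C.κ * Om v w) with hbd
  have hwv : (C.q w : G) * C.q v = P.zz b * (C.q v * C.q w) := by rw [← hb]; group
  have e1 : L.j * ((C.q v : G) * C.q w) * L.j = ((C.q w : G) * C.q v)⁻¹ := by
    rw [mul_inv_rev, ← C.q_inv, ← C.q_inv]
    simp only [mul_assoc]
    rw [← mul_assoc L.j L.j, L.jj, one_mul]
  rw [hwv, hm, ← mul_assoc (P.zz b), ← P.zz_add, mul_inv_rev, ← P.zz_neg, ← mul_assoc L.j, (P.zz_comm L.jz m).eq,
    show P.zz m * L.j * (C.q (v + w) : G) * L.j = P.zz m * (L.j * C.q (v + w) * L.j) by simp only [mul_assoc],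
    C.q_inv, (P.zz_comm (P.Q_z _ (inv_mem (C.q (v + w)).2)) (-(b + m))).eq, mul_left_inj] at e1
  rw [hm, (by decide : ∀ b m : ZMod 3, m = -(b + m) → m = b) b m (P.zz_inj e1)]

/-- The action in coordinates. -/
noncomputable def pm {h : G} (hh : Commute h P.z) : Equiv.Perm W8 where
  toFun v := C.e.symm (P.op h (C.e v))
  invFun v := C.e.symm (P.op h⁻¹ (C.e v))
  left_inv v := by simp only [AddEquiv.apply_symm_apply, P.op_inv hh, AddEquiv.symm_apply_apply]
  right_inv v := by simp only [AddEquiv.apply_symm_apply, P.op_inv' hh, AddEquiv.symm_apply_apply]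

theorem pm_spec {h : G} (hh : Commute h P.z) (v : W8) : C.e (C.pm hh v) = P.op h (C.e v) :=
  C.e.apply_symm_apply _

theorem pm_add {h : G} (hh : Commute h P.z) (v w : W8) : C.pm hh (v + w) = C.pm hh v + C.pm hh w :=
  C.e.injective (by rw [C.pm_spec, C.e.map_add, C.e.map_add, C.pm_spec, C.pm_spec, P.op_add hh])

theorem pm_iso {h : G} (hh : Commute h P.z) (v w : W8) : Om (C.pm hh v) (C.pm hh w) = Om v w := by
  have hx : ∀ u, P.cl ⟨h * C.q u * h⁻¹, P.conj_Q h hh _ (C.q u).2⟩ = C.e (C.pm hh u) := fun u => by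
    rw [← P.op_spec hh, C.q_cl, C.pm_spec]
  refine mul_left_cancel₀ C.κ_ne (P.zz_inj ?_)
  rw [← C.comm _ _ _ _ (hx v) (hx w), ← P.zz_conj hh (C.κ * Om v w), ← C.comm _ _ v w (C.q_cl v) (C.q_cl w)]
  group

include C in
/-- The preimage of the quaternion groups acts by them. -/
theorem R_act {x : G} (hx : x ∈ L.R) : ∃ q, Qt q ∧ ∀ v, P.op x (C.e v) = C.e (T (dg q) v) := by
  suffices h : Commute x P.z ∧ ∃ q, Qt q ∧ ∀ v, P.op x (C.e v) = C.e (T (dg q) v) from h.2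
  have hcl := L.R_gen hx
  clear hx
  induction hcl using Subgroup.closure_induction with
  | mem y hy =>
    rcases hy with (⟨i, rfl⟩ | ⟨i, rfl⟩) | hy
    · exact ⟨L.az i, rA i, qt_rA i, C.hA i⟩
    · exact ⟨L.bz i, rB i, qt_rB i, C.hB i⟩
    · exact ⟨P.Q_z y hy, 1, qt_one, fun v => by rw [P.op_Q hy, Fi22Loc.dg_one, T_one]⟩
  | one => exact ⟨Commute.one_left _, 1, qt_one, fun v => by rw [P.op_one, Fi22Loc.dg_one, T_one]⟩
  | mul y y' _ _ h h' =>
    obtain ⟨hy, q, hq, e⟩ := h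
    obtain ⟨hy', q', hq', e'⟩ := h'
    exact ⟨hy.mul_left hy', q * q', hq.mul hq', fun v => by rw [P.op_comp hy hy', e', e, ← T_mul, Fi22Loc.dg_mul]⟩
  | inv y _ h =>
    obtain ⟨hy, q, hq, e⟩ := h
    refine ⟨hy.inv_left, q⁻¹, hq.inv, fun v => ?_⟩
    have := congrArg (P.op y⁻¹) (e (T (dg q⁻¹) v))
    rw [P.op_inv hy, ← T_mul, Fi22Loc.dg_mul, mul_inv_cancel, Fi22Loc.dg_one, T_one] at this
    exact this.symm

theorem pm_c : ∃ q0, Qt q0 ∧ ∀ v, C.pm L.cz v = T (dg q0) (T (dg uU) v) := by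
  classical
  choose g g0 gA gB using fun i => uU_ok (decide (¬ L.c * L.b i * L.c⁻¹ * (L.a i * L.b i)⁻¹ ∈ P.Q))
  set m : Fin 3 → SL23 := uU * g with hm
  have conj1 : ∀ i (x : SL23) v, T (dg m) (T (dg (Pi.mulSingle i x)) v) =
      T (dg (Pi.mulSingle i (m i * x * (m i)⁻¹))) (T (dg m) v) := fun i x v => by
    rw [← T_mul, ← T_mul, Fi22Loc.dg_mul, Fi22Loc.dg_mul]
    congr 2
    funext k
    by_cases hk : k = i
    · subst hk; simp
    · simp [hk]
  have stepA : ∀ i v, C.pm L.cz (T (dg (rA i)) v) = T (dg (rB i)) (C.pm L.cz v) := fun i v => C.e.injective (by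
    rw [C.pm_spec, ← C.hA, ← C.hB, C.pm_spec,
      op_two L.cz (L.az i) ((L.bz i).mul_left L.cz) (by
        have := L.ca i
        rwa [show L.c * L.a i * (L.b i * L.c)⁻¹ = L.c * L.a i * L.c⁻¹ * (L.b i)⁻¹ by group]),
      P.op_comp (L.bz i) L.cz])
  have stepB : ∀ i v, C.pm L.cz (T (dg (rB i)) v) =
      T (dg (Pi.mulSingle i (m i * qB * (m i)⁻¹))) (C.pm L.cz v) := fun i v => C.e.injective (by
    rw [C.pm_spec, ← C.hB, show m i * qB * (m i)⁻¹ = _ from gB i]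
    by_cases hs : L.c * L.b i * L.c⁻¹ * (L.a i * L.b i)⁻¹ ∈ P.Q
    · simp only [hs, not_true_eq_false, decide_false, Bool.false_eq_true, if_false]
      rw [Pi.mulSingle_mul, ← Fi22Loc.dg_mul, T_mul]
      show _ = C.e (T (dg (rA i)) (T (dg (rB i)) (C.pm L.cz v)))
      rw [← C.hA, ← C.hB, C.pm_spec,
        op_two L.cz (L.bz i) (((L.az i).mul_left (L.bz i)).mul_left L.cz) (by
          rwa [show L.c * L.b i * (L.a i * L.b i * L.c)⁻¹ = L.c * L.b i * L.c⁻¹ * (L.a i * L.b i)⁻¹ by group]),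
        P.op_comp ((L.az i).mul_left (L.bz i)) L.cz, P.op_comp (L.az i) (L.bz i)]
    · simp only [hs, not_false_eq_true, decide_true, if_true]
      rw [show -(qA * qB) = (-1 : SL23) * (qA * qB) by simp, Pi.mulSingle_mul, Pi.mulSingle_mul, ← Fi22Loc.dg_mul, T_mul,
        T_single_neg, map_neg, ← Fi22Loc.dg_mul, T_mul]
      show _ = -C.e (T (dg (rA i)) (T (dg (rB i)) (C.pm L.cz v)))
      rw [← C.hA, ← C.hB, C.pm_spec, ← C.hJ,
        op_two L.cz (L.bz i) ((L.jz.mul_left ((L.az i).mul_left (L.bz i))).mul_left L.cz) (by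
          have := (L.cb i).resolve_left hs
          rwa [show L.c * L.b i * (L.j * (L.a i * L.b i) * L.c)⁻¹ =
            L.c * L.b i * L.c⁻¹ * (L.j * (L.a i * L.b i))⁻¹ by group]),
        P.op_comp (L.jz.mul_left ((L.az i).mul_left (L.bz i))) L.cz, P.op_comp L.jz ((L.az i).mul_left (L.bz i)),
        P.op_comp (L.az i) (L.bz i)])
  let F : W8 →+ W8 := AddMonoidHom.mk' (fun v => T (dg m)⁻¹ (C.pm L.cz v)) fun v w => by rw [C.pm_add, T_add]
  have back : ∀ v, T (dg m) (F v) = C.pm L.cz v := fun v => by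
    show T (dg m) (T (dg m)⁻¹ _) = _
    rw [← T_mul, mul_inv_cancel, T_one]
  have inj : ∀ v w, T (dg m) v = T (dg m) w → v = w := fun v w h => (Te (dg m)).injective h
  obtain ⟨k, hk⟩ := commutant F (fun i v => inj _ _ (by
      rw [back, stepA, show rA i = Pi.mulSingle i qA from rfl, conj1, back, show m i * qA * (m i)⁻¹ = _ from gA i]
      rfl))
    (fun i v => inj _ _ (by rw [back, stepB, show rB i = Pi.mulSingle i qB from rfl, conj1, back]))
  have q0' : ∀ i, ψ (uU i * g i * (uU i)⁻¹) = 0 := fun i => by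
    rw [Fi22Loc.ψ_mul, Fi22Loc.ψ_mul, g0 i, ψ_inv', add_zero, add_neg_cancel]
  have em : dg m = dg (uU * g * uU⁻¹) * dg uU := by rw [Fi22Loc.dg_mul, inv_mul_cancel_right]
  rcases z_cases k with rfl | rfl | rfl
  · exfalso
    have h1 : ∀ v, C.pm L.cz v = 0 := fun v => by rw [← back, hk, Rep.sm_zero, T_zero]
    exact absurd ((C.pm L.cz).injective ((h1 (ev (ix 0 0 0))).trans (h1 0).symm)) (by decide +kernel)
  · exact ⟨uU * g * uU⁻¹, q0', fun v => by rw [← back, hk, Rep.sm_one, em, T_mul]⟩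
  · refine ⟨Pi.mulSingle 0 (-1) * (uU * g * uU⁻¹), fun i => ?_, fun v => ?_⟩
    · rw [Pi.mul_apply, Fi22Loc.ψ_mul, show ψ ((uU * g * uU⁻¹ : Fin 3 → SL23) i) = 0 from q0' i, add_zero]
      by_cases hi : i = 0
      · subst hi; rw [Pi.mulSingle_eq_same]; exact psi_neg_one
      · rw [Pi.mulSingle_eq_of_ne hi]; exact Fi22Loc.ψ_one
    · rw [← back, hk, Rep.sm_neg_one, T_neg, ← Fi22Loc.dg_mul (Pi.mulSingle 0 (-1)), T_mul, T_single_neg, em, T_mul]

theorem pm_inN {h : G} (hh : Commute h P.z) : InN (C.pm hh) := by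
  have nR : ∀ {y : G}, y ∈ L.R → ∀ {q : Fin 3 → SL23}, (∀ v, P.op y (C.e v) = C.e (T (dg q) v)) →
      Carries (C.pm hh) q := by
    intro y hy q hq
    obtain ⟨q', hq', e'⟩ := C.R_act (L.R_conj h hh y hy)
    refine ⟨q', hq', fun v => C.e.injective ?_⟩
    rw [C.pm_spec, ← hq, ← e', C.pm_spec, ← P.op_comp hh (L.R_z y hy),
      ← P.op_comp ((hh.mul_left (L.R_z y hy)).mul_left hh.inv_left) hh, inv_mul_cancel_right]
  have hA : ∀ i, Carries (C.pm hh) (rA i) := fun i => nR (L.a_R i) (C.hA i)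
  have hB : ∀ i, Carries (C.pm hh) (rB i) := fun i => nR (L.b_R i) (C.hB i)
  refine ⟨C.pm_add hh, C.pm_iso hh, hA, hB, ?_⟩
  obtain ⟨q0, hq0, e0⟩ := C.pm_c
  obtain ⟨qr, hqr, er⟩ := C.R_act (L.R_comm h hh)
  obtain ⟨q1, hq1, e1⟩ := carries_all hA hB hq0.inv
  refine ⟨q1 * qr * q0, (hq1.mul hqr).mul hq0, fun v => ?_⟩
  have hc : C.pm hh (C.pm L.cz v) = T (dg qr) (C.pm L.cz (C.pm hh v)) := C.e.injective (by
    rw [C.pm_spec, C.pm_spec, ← er, C.pm_spec, C.pm_spec, ← P.op_comp hh L.cz, ← P.op_comp L.cz hh,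
      ← P.op_comp (L.R_z _ (L.R_comm h hh)) (L.cz.mul_left hh)]
    congr 1
    group)
  have hv : T (dg uU) v = T (dg q0⁻¹) (C.pm L.cz v) := by
    rw [e0, ← T_mul, Fi22Loc.dg_mul, inv_mul_cancel, Fi22Loc.dg_one, T_one]
  rw [hv, e1, hc, e0, ← T_mul, ← T_mul, Fi22Loc.dg_mul, Fi22Loc.dg_mul]

/-- An element commuting with the involution acts exactly. -/
theorem exact' {s : G} (sz : Commute s P.z) (sj : Commute s L.j) (v : W8) :
    s * C.q v * s⁻¹ = (C.q (C.pm sz v) : G) := by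
  refine congrArg Subtype.val (C.unique (x := ⟨_, P.conj_Q s sz _ (C.q v).2⟩) ?_ ?_)
  · rw [← P.op_spec sz, C.q_cl, C.pm_spec]
  · show L.j * (s * C.q v * s⁻¹) * L.j = (s * C.q v * s⁻¹)⁻¹
    rw [show L.j * (s * (C.q v : G) * s⁻¹) * L.j = L.j * s * C.q v * (s⁻¹ * L.j) by group, sj.inv_left.eq, sj.symm.eq,
      show s * L.j * (C.q v : G) * (L.j * s⁻¹) = s * (L.j * C.q v * L.j) * s⁻¹ by group, C.q_inv]
    group

theorem self' {x : G} (h : ∀ v, Commute x (C.q v)) : ∃ k, x = P.zz k := by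
  have hz : Commute x P.z := by
    obtain ⟨v, w, hvw⟩ : ∃ v w, Om v w = 1 := ⟨ev (ix 0 0 0), ev (ix 1 1 1), by decide +kernel⟩
    have h2 : Commute x (P.zz C.κ) := by
      have e := C.comm (C.q v) (C.q w) v w (C.q_cl v) (C.q_cl w)
      rw [hvw, mul_one] at e
      rw [← e]
      exact (((h v).mul_right (h w)).mul_right (h v).inv_right).mul_right (h w).inv_right
    rcases z_cases C.κ with r | r | r
    · exact absurd r C.κ_ne
    · rwa [r, P.zz_one] at h2
    · rw [r, P.zz_neg, P.zz_one] at h2; simpa using h2.inv_right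
  refine P.self x fun y hy => ?_
  obtain ⟨k, v, rfl⟩ := C.el_surj hy
  exact (P.zz_comm hz k).mul_right (h v)

theorem decomp {h : G} (hh : Commute h P.z) :
    ∃ u k s, Commute s P.z ∧ Commute s L.j ∧ h = (C.q u : G) * (P.zz k * s) := by
  set t := h * L.j * h⁻¹ with ht
  have htt : t * t = 1 := by
    rw [ht, show h * L.j * h⁻¹ * (h * L.j * h⁻¹) = h * (L.j * L.j) * h⁻¹ by group, L.jj, mul_one, mul_inv_cancel]
  set c := L.j * t with hc
  have hcQ : c ∈ P.Q := by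
    have h1 := P.conj_Q L.j L.jz _ (L.j_cent h hh)
    rwa [show L.j * (h * L.j * h⁻¹ * L.j⁻¹) * L.j⁻¹ = L.j * t * (L.j * L.j)⁻¹ by rw [ht]; group, L.jj, inv_one,
      mul_one] at h1
  have hct : c * L.j * c⁻¹ = t := by
    have ti : t⁻¹ = t := inv_eq_of_mul_eq_one_right htt
    calc c * L.j * c⁻¹ = L.j * t * L.j * t * L.j := by rw [hc, mul_inv_rev, ti, C.ji]; group
      _ = (L.j * t) ^ 3 * t⁻¹ := by simp only [pow_succ, pow_zero, one_mul]; group
      _ = t := by rw [← hc, P.Q_exp c hcQ, one_mul, ti]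
  obtain ⟨k, u, hku⟩ := C.el_surj hcQ
  refine ⟨u, k, c⁻¹ * h, (P.Q_z c hcQ).inv_left.mul_left hh, ?_, ?_⟩
  · show c⁻¹ * h * L.j = L.j * (c⁻¹ * h)
    calc c⁻¹ * h * L.j = c⁻¹ * t * h := by rw [ht]; group
      _ = c⁻¹ * (c * L.j * c⁻¹) * h := by rw [hct]
      _ = _ := by group
  · rw [← mul_assoc, (P.zz_comm (C.q_z u) k).eq, ← hku, mul_inv_cancel_left]

theorem cz_mem (h : ↥(Subgroup.centralizer ({P.z} : Set G))) : Commute (h : G) P.z :=
  Subgroup.mem_centralizer_singleton_iff.mp h.2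

/-- The image in the model group. -/
noncomputable def img : ↥(Subgroup.centralizer ({P.z} : Set G)) →* NN where
  toFun h := ⟨C.pm (cz_mem h), C.pm_inN _⟩
  map_one' := Subtype.ext (Equiv.ext fun v => C.e.injective
    ((C.pm_spec (cz_mem (P := P) 1) v).trans (P.op_one _)))
  map_mul' a b := Subtype.ext (Equiv.ext fun v => C.e.injective
    ((C.pm_spec (cz_mem (a * b)) v).trans ((P.op_comp (cz_mem a) (cz_mem b) _).trans
      (((C.pm_spec (cz_mem a) _).trans (congrArg _ (C.pm_spec (cz_mem b) v))).symm))))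

theorem img_ker {h : ↥(Subgroup.centralizer ({P.z} : Set G))} (e : C.img h = 1) : (h : G) ∈ P.Q := by
  have hh : Commute (h : G) P.z := Subgroup.mem_centralizer_singleton_iff.mp h.2
  obtain ⟨u, k, s, sz, sj, es⟩ := C.decomp hh
  have hid : ∀ w, P.op h w = w := fun w => by
    obtain ⟨v, rfl⟩ := C.e.surjective w
    rw [← C.pm_spec hh, show C.pm hh v = ((C.img h : NN) : Equiv.Perm W8) v from rfl, e]
    rfl
  have hq : (C.q u : G) * P.zz k ∈ P.Q := mul_mem (C.q u).2 (P.zz_Q k)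
  have hs : ∀ v, C.pm sz v = v := fun v => C.e.injective (by
    rw [C.pm_spec]
    conv_rhs => rw [← hid (C.e v), es, ← mul_assoc, P.op_comp (P.Q_z _ hq) sz, P.op_Q hq])
  obtain ⟨l, hl⟩ := C.self' (x := s) fun v => by
    have := C.exact' sz sj v
    rw [hs, mul_inv_eq_iff_eq_mul] at this
    exact this
  rw [es, hl]
  exact mul_mem (C.q u).2 (mul_mem (P.zz_Q k) (P.zz_Q l))

theorem img_surj : Function.Surjective C.img ∧ Nat.card NN = 82944 := by
  have hk : Nat.card C.img.ker ≤ 19683 := by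
    rw [← P.card_Q]
    exact Nat.card_le_card_of_injective (fun x => (⟨_, C.img_ker x.2⟩ : ↥P.Q))
      fun x y h => Subtype.ext (Subtype.ext (congrArg (fun q : ↥P.Q => (q : G)) h))
  have hc := Subgroup.card_eq_card_quotient_mul_card_subgroup C.img.ker
  rw [Nat.card_congr (QuotientGroup.quotientKerEquivRange C.img).toEquiv, L.card_CC] at hc
  have hr : Nat.card C.img.range ≤ Nat.card NN := Subgroup.card_le_card_group _
  have hle := card_NN_le
  have h1 : 82944 ≤ Nat.card C.img.range := by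
    by_contra hlt
    nlinarith [Nat.mul_le_mul (show Nat.card C.img.range ≤ 82943 by omega) hk]
  have hN : Nat.card NN = 82944 := by omega
  exact ⟨MonoidHom.range_eq_top.mp (Subgroup.eq_top_of_card_eq _ (by omega)), hN⟩

/-- The setting. -/
noncomputable def toSetting (nwc : ∃ g, Commute (g * P.z * g⁻¹) P.z ∧ ∀ k : ZMod 3, g * P.z * g⁻¹ ≠ P.z ^ k.val) :
    Setting G where
  z := P.zz C.κ
  j := L.j
  q v := C.q v
  z_cube := by rw [P.zz_pow, show ((3 : ℕ) : ZMod 3) = 0 from rfl, zero_mul, P.zz_zero]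
  z_ne e := C.κ_ne (P.zz_inj (e.trans P.zz_zero.symm))
  j_sq := L.jj
  j_z := P.zz_comm L.jz _
  q_z v := P.zz_comm (C.q_z v) _
  q_mul v w := by
    rw [C.q_mul, P.zz_pow, ZMod.natCast_zmod_val, neg_mul, mul_comm C.κ]
  q_inj k v h := by
    rw [P.zz_pow, ZMod.natCast_zmod_val] at h
    obtain ⟨h1, h2⟩ := C.el_inj h
    exact ⟨(mul_eq_zero.mp h1).resolve_right C.κ_ne, h2⟩
  j_q v := C.q_neg v
  decomp h hh := by
    have hz : Commute h P.z := by
      rcases z_cases C.κ with r | r | r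
      · exact absurd r C.κ_ne
      · rwa [r, P.zz_one] at hh
      · rw [r, P.zz_neg, P.zz_one] at hh; simpa using hh.inv_right
    obtain ⟨u, k, s, sz, sj, e⟩ := C.decomp hz
    exact ⟨u, P.zz k * s, P.zz_comm ((((Commute.refl P.z).pow_left _ : Commute (P.zz k) P.z)).mul_left sz) _,
      ((P.zz_comm L.jz k).symm).mul_left sj, e⟩
  act s hs sj := by
    have sz : Commute s P.z := by
      rcases z_cases C.κ with r | r | r
      · exact absurd r C.κ_ne
      · rwa [r, P.zz_one] at hs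
      · rw [r, P.zz_neg, P.zz_one] at hs; simpa using hs.inv_right
    exact ⟨⟨C.pm sz, C.pm_inN sz⟩, fun v => C.exact' sz sj v⟩
  surj f := by
    obtain ⟨h, rfl⟩ := C.img_surj.1 f
    have hh : Commute (h : G) P.z := Subgroup.mem_centralizer_singleton_iff.mp h.2
    obtain ⟨u, k, s, sz, sj, e⟩ := C.decomp hh
    refine ⟨s, P.zz_comm sz _, sj, fun v => ?_⟩
    rw [C.exact' sz sj v]
    refine congrArg (fun w => ((C.q w : ↥P.Q) : G)) (C.e.injective ?_)
    have hq : (C.q u : G) * P.zz k ∈ P.Q := mul_mem (C.q u).2 (P.zz_Q k)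
    show C.e (C.pm sz v) = C.e (C.pm hh v)
    rw [C.pm_spec, C.pm_spec, e, ← mul_assoc, P.op_comp (P.Q_z _ hq) sz, P.op_Q hq]
  card_N := C.img_surj.2
  self x hx := by
    obtain ⟨k, hk⟩ := C.self' hx
    refine ⟨k * C.κ, ?_⟩
    rw [hk, P.zz_pow, ZMod.natCast_zmod_val, mul_assoc,
      (by decide : ∀ a : ZMod 3, a ≠ 0 → a * a = 1) C.κ C.κ_ne, mul_one]
  nwc := by
    obtain ⟨g, hg, hne⟩ := nwc
    refine ⟨g, ?_, fun k e => hne k ?_⟩
    · rw [Pre.zz, ← conj_pow]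
      exact hg.pow_pow _ _
    · have h2 := congrArg (fun x => x ^ C.κ.val) e
      simp only [conj_pow, P.zz_pow, ZMod.natCast_zmod_val, (by decide : ∀ a : ZMod 3, a ≠ 0 → a * a = 1) C.κ C.κ_ne,
        P.zz_one, ← mul_assoc] at h2
      rw [h2, mul_comm C.κ k, mul_assoc, (by decide : ∀ a : ZMod 3, a ≠ 0 → a * a = 1) C.κ C.κ_ne, mul_one]
      rfl

end Coo

end Lift

end CfsgLib.Fi23Loc
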