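import Cfsg.Agent.Lib.Fi23Loc.WitCheck
import Mathlib.GroupTheory.Sylow

/-!
Consequences of the checks for the model group.
-/

set_option autoImplicit false
set_option maxRecDepth 100000
set_option synthInstance.maxSize 1024
set_option Elab.async false

namespace CfsgLib.Fi23Loc

open CfsgLib.G24 (K)
open CfsgLib.U6Three (SL23 mU)
open CfsgLib.Fi22Loc (Bk dg ψ)

theorem NN_neg (f : NN) (v : W8) : (f : Equiv.Perm W8) (-v) = -(f : Equiv.Perm W8) v :=
  map_neg (AddMonoidHom.mk' _ f.2.add) v

theorem NN_zero (f : NN) : (f : Equiv.Perm W8) 0 = 0 := map_zero (AddMonoidHom.mk' _ f.2.add)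

theorem NN_sub (f : NN) (v w : W8) :
    (f : Equiv.Perm W8) (v - w) = (f : Equiv.Perm W8) v - (f : Equiv.Perm W8) w :=
  map_sub (AddMonoidHom.mk' _ f.2.add) v w

theorem T_sub (b : Bk) (v w : W8) : T b (v - w) = T b v - T b w := map_sub (AddMonoidHom.mk' _ (T_add b)) v w

theorem T_neg (b : Bk) (v : W8) : T b (-v) = -T b v := map_neg (AddMonoidHom.mk' _ (T_add b)) v

theorem T_zero (b : Bk) : T b 0 = 0 := map_zero (AddMonoidHom.mk' _ (T_add b))

theorem W8_three (v : W8) : v + v + v = 0 := rep8.three v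

theorem Om_sm_left (k : ZMod 3) (v w : W8) : Om (Rep.sm k v) w = k * Om v w := by
  rcases z_cases k with rfl | rfl | rfl <;> simp [Rep.sm_zero, Rep.sm_one, Rep.sm_neg_one, Om_zero_left, Om_neg_left]

theorem Om_sm_right (k : ZMod 3) (v w : W8) : Om v (Rep.sm k w) = k * Om v w := by
  rcases z_cases k with rfl | rfl | rfl <;> simp [Rep.sm_zero, Rep.sm_one, Rep.sm_neg_one, Om_zero_right, Om_neg_right]

theorem Om_sub_left (u v w : W8) : Om (u - v) w = Om u w - Om v w := by
  rw [sub_eq_add_neg, Om_add_left, Om_neg_left, ← sub_eq_add_neg]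

theorem Om_sub_right (u v w : W8) : Om u (v - w) = Om u v - Om u w := by
  rw [sub_eq_add_neg, Om_add_right, Om_neg_right, ← sub_eq_add_neg]

/-! ### Frames -/

theorem compF_oneF_left : ∀ x : V3, appF oneF x = x := by decide +kernel

theorem top_inv_one {f : NN} : top f = oneF ↔ ∃ q, Qt q ∧ f = TN (dg q) := by
  refine ⟨top_ker, fun ⟨q, hq', e⟩ => ?_⟩
  rw [e, top_TN]
  show (_, _, _) = _
  have h : ∀ i, par ((dg q : Bk) * dg (rA i) * (dg q)⁻¹).g = par (rA i) := fun i => by
    rw [show (dg q : Bk)⁻¹ = dg q⁻¹ from inv_eq_of_mul_eq_one_right (by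
      rw [Fi22Loc.dg_mul, mul_inv_cancel, Fi22Loc.dg_one]), Fi22Loc.dg_mul, Fi22Loc.dg_mul]
    exact par_conj (qt_rA i) hq'
  rw [h, h, h]
  decide +kernel

/-- The kernel of the frame map is a two-group. -/
theorem ker_two {f : NN} (h : top f = oneF) : f ^ 4 = 1 := by
  obtain ⟨q, hq', rfl⟩ := top_ker h
  rw [← map_pow]
  have : (dg q : Bk) ^ 4 = 1 := by
    have k : ∀ g : SL23, ψ g = 0 → g * g * (g * g) = 1 := fun g hg => (Fi22Loc.ψ_zero g).mp hg
    rw [show (4 : ℕ) = 2 * 2 by rfl, pow_mul, pow_two, pow_two, Fi22Loc.dg_mul, Fi22Loc.dg_mul,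
      show q * q * (q * q) = 1 from funext fun i => k _ (hq' i), Fi22Loc.dg_one]
  rw [this, map_one]

theorem three_ker {f : NN} (h : top f = oneF) (h3 : f * f * f = 1) : f = 1 := by
  have h4 := ker_two h
  calc f = f ^ 4 := by rw [show f ^ 4 = f * f * f * f by simp [pow_succ], h3, one_mul]
    _ = 1 := h4

theorem top_pow (f : NN) : top (f * f * f) = compF (top f) (compF (top f) (top f)) := by
  rw [mul_assoc, top_mul, top_mul]

theorem top_eq_ker {f g : NN} (h : top f = top g) : top (f⁻¹ * g) = oneF := by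
  rw [top_mul, ← h, ← top_mul, inv_mul_cancel, top_one]

/-- No involution inverts two independent commuting elements of order three. -/
theorem no_pair {f a b : NN} (hf : f * f = 1) (ha3 : a * a * a = 1) (hb3 : b * b * b = 1)
    (hfa : f * a * f = a⁻¹) (hfb : f * b * f = b⁻¹) (hab : a * b = b * a) (ha : a ≠ 1) (hb : b ≠ 1) :
    b = a ∨ b = a⁻¹ := by
  have top3 : ∀ x : NN, x * x * x = 1 → x ≠ 1 → top x ≠ oneF := fun x x3 x1 h => x1 (three_ker h x3)
  have eq3 : ∀ x y : NN, x * x * x = 1 → y * y * y = 1 → x * y = y * x → top x = top y → x = y := by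
    intro x y x3 y3 xy e
    have hc : Commute x⁻¹ y := (show Commute x y from xy).inv_left
    refine inv_mul_eq_one.mp (three_ker (top_eq_ker e) ?_)
    calc x⁻¹ * y * (x⁻¹ * y) * (x⁻¹ * y) = (x⁻¹ * y) ^ 3 := by simp [pow_succ]
      _ = (x ^ 3)⁻¹ * y ^ 3 := by rw [hc.mul_pow, inv_pow]
      _ = 1 := by rw [show x ^ 3 = x * x * x by simp [pow_succ], show y ^ 3 = y * y * y by simp [pow_succ], x3, y3]; simp
  have hainv : a⁻¹ = a * a := inv_eq_of_mul_eq_one_right (by rw [← mul_assoc, ha3])
  by_cases hft : top f = oneF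
  · exfalso
    have h1 : top a⁻¹ = top a := by
      rw [← hfa, top_mul, top_mul, hft]
      obtain ⟨x, y, z⟩ := top a
      simp only [compF, compF_oneF_left]
      exact Prod.ext (appF_ext _ _ _).1 (Prod.ext (appF_ext _ _ _).2.1 (appF_ext _ _ _).2.2)
    have ai3 : a⁻¹ * a⁻¹ * a⁻¹ = 1 := by
      rw [← mul_inv_rev, ← mul_inv_rev, ← mul_assoc, ha3, inv_one]
    have h2 := eq3 a⁻¹ a ai3 ha3 (by group) h1
    refine ha ?_
    have h3 : a * a = 1 := inv_eq_iff_mul_eq_one.mp h2
    rwa [h3, one_mul] at ha3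
  have hF := List.all_eq_true.mp no_bad (top f) (top_frame f)
  have ff : compF (top f) (top f) = oneF := by rw [← top_mul, hf, top_one]
  simp only [ff, decide_true, Bool.not_true, hft, decide_false, Bool.or_false, Bool.false_or] at hF
  by_contra hne
  push Not at hne
  have mem : ∀ x : NN, x * x * x = 1 → x ≠ 1 → f * x * f = x⁻¹ → top x ∈ frames.filter fun c =>
      decide (compF c (compF c c) = oneF) && !decide (c = oneF) &&
        decide (compF (compF c (top f)) c = top f) := fun x x3 x1 fx => by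
    have e : x * f * x = f := by
      have : f * x * f * (f * x⁻¹) = x⁻¹ * (f * x⁻¹) := by rw [fx]
      rw [show f * x * f * (f * x⁻¹) = f * x * (f * f) * x⁻¹ by group, hf, mul_one, mul_inv_cancel_right] at this
      calc x * f * x = x * (x⁻¹ * (f * x⁻¹)) * x := by rw [← this]
        _ = f := by group
    refine List.mem_filter.mpr ⟨top_frame x, ?_⟩
    rw [← top_pow, x3, top_one, ← top_mul, ← top_mul, e]
    simp [top3 x x3 x1]
  simp only [badPair, Bool.not_eq_true', List.any_eq_false] at hF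
  refine hF _ (mem a ha3 ha hfa) (List.any_eq_true.mpr ⟨top b, mem b hb3 hb hfb, ?_⟩)
  rw [← top_mul, ← top_mul, hab, top_mul a a |>.symm]
  simp only [decide_true, Bool.true_and, Bool.and_eq_true, Bool.not_eq_true', decide_eq_false_iff_not]
  exact ⟨fun e => hne.1 (eq3 b a hb3 ha3 hab.symm e), fun e => hne.2 (by
    rw [hainv]
    refine eq3 b (a * a) hb3 ?_ (by rw [← mul_assoc, ← hab, mul_assoc, ← hab, mul_assoc]) e
    calc a * a * (a * a) * (a * a) = a * a * a * (a * a * a) := by group
      _ = 1 := by rw [ha3, one_mul])⟩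

/-! ### The Sylow subgroup -/

/-- The monomial Sylow subgroup in the group. -/
def PN : Subgroup NN := P81.map TN

theorem card_PN : Nat.card PN = 81 := by
  rw [PN, ← card_P81]
  refine (Nat.card_congr (Equiv.ofBijective (fun b : P81 => (⟨TN b, b, b.2, rfl⟩ : P81.map TN)) ⟨?_, ?_⟩)).symm
  · intro x y h
    have e : TN x = TN y := congrArg Subtype.val h
    have := TN_P81_ker (mul_mem (inv_mem x.2) y.2) (by rw [map_mul, map_inv, e, inv_mul_cancel])
    exact Subtype.ext (inv_mul_eq_one.mp this)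
  · rintro ⟨_, b, hb, rfl⟩
    exact ⟨⟨b, hb⟩, rfl⟩

theorem eq_vn_zero : pel (0, 0, 0, 0) = 1 := pel_zero

/-- A three-subgroup goes into the monomial Sylow subgroup by conjugation. -/
theorem three_sub (hN : Nat.card NN = 82944) {E : Subgroup NN} (hE : IsPGroup 3 E) :
    ∃ n : NN, ∀ e ∈ E, n * e * n⁻¹ ∈ PN := by
  haveI : Fact (Nat.Prime 3) := ⟨Nat.prime_three⟩
  have hf : (Nat.card NN).factorization 3 = 4 := by
    rw [hN, show (82944 : ℕ) = 3 ^ 4 * 1024 by norm_num, Nat.factorization_mul (by norm_num) (by norm_num),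
      Finsupp.add_apply, Nat.Prime.factorization_pow (by norm_num),
      Nat.factorization_eq_zero_of_not_dvd (by norm_num : ¬ 3 ∣ 1024)]
    simp
  let S : Sylow 3 NN := Sylow.ofCard PN (by rw [card_PN, hf]; norm_num)
  obtain ⟨Q, hQ⟩ := hE.exists_le_sylow
  obtain ⟨g, hg⟩ := MulAction.exists_smul_eq NN Q S
  refine ⟨g, fun e he => ?_⟩
  have hS : (S : Subgroup NN) = PN := Sylow.coe_ofCard _ _
  rw [← hS, ← hg, Sylow.coe_subgroup_smul]
  exact Subgroup.mem_pointwise_smul_iff_inv_smul_mem.mpr (by simpa [mul_assoc] using hQ he)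

/-- An element of order three is conjugate to one of the monomial Sylow subgroup. -/
theorem three_conj (hN : Nat.card NN = 82944) {f : NN} (h3 : f * f * f = 1) (h1 : f ≠ 1) :
    ∃ (n : NN) (x : Fin 3 × Fin 3 × Fin 3 × Fin 3), eqB (pel x * pel x * pel x) 1 = true ∧ x ≠ (0, 0, 0, 0) ∧
      n * f * n⁻¹ = TN (pel x) := by
  haveI : Fact (Nat.Prime 3) := ⟨Nat.prime_three⟩
  have hE : IsPGroup 3 (Subgroup.zpowers f) := IsPGroup.of_card (n := 1) (by
    rw [Nat.card_zpowers, orderOf_eq_prime (p := 3) (by simpa [pow_succ] using h3) h1, pow_one])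
  obtain ⟨n, hn⟩ := three_sub hN hE
  obtain ⟨b, hb, e⟩ := hn f (Subgroup.mem_zpowers f)
  obtain ⟨x, rfl⟩ := P81_pel hb
  refine ⟨n, x, eqB_iff.mpr ?_, ?_, e.symm⟩
  · refine TN_P81_ker (mul_mem (mul_mem hb hb) hb) ?_
    rw [map_mul, map_mul, e, show n * f * n⁻¹ * (n * f * n⁻¹) * (n * f * n⁻¹) = n * (f * f * f) * n⁻¹ by group, h3]
    group
  · rintro rfl
    rw [pel_zero, map_one, eq_comm] at e
    exact h1 (by simpa using e)

/-- A commuting family of exponent three has at most 27 elements, and then is the conjugate diagonal one. -/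
theorem elementary (hN : Nat.card NN = 82944) {E : Subgroup NN} (hc : ∀ a ∈ E, ∀ b ∈ E, a * b = b * a)
    (h3 : ∀ a ∈ E, a * a * a = 1) : Nat.card E ≤ 27 ∧ (27 ≤ Nat.card E →
      ∃ n : NN, ∀ e, e ∈ E ↔ ∃ a b c : Fin 3, n * e * n⁻¹ = TN (pel (a, b, c, 0))) := by
  classical
  haveI : Fact (Nat.Prime 3) := ⟨Nat.prime_three⟩
  have hE : IsPGroup 3 E := fun a => ⟨1, Subtype.ext (by simpa [pow_succ] using h3 a a.2)⟩
  obtain ⟨n, hn⟩ := three_sub hN hE
  choose b hb eb using fun e : E => hn e e.2
  choose x hx using fun e : E => P81_pel (hb e)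
  have xe : ∀ e : E, TN (pel (x e)) = n * e * n⁻¹ := fun e => by rw [← hx e, eb e]
  have inj : Function.Injective x := fun e e' h => by
    have := (xe e).symm.trans (h ▸ xe e')
    exact Subtype.ext (by simpa using this)
  have comm : ∀ e e' : E, commB (x e) (x e') = true := fun e e' => eqB_iff.mpr (by
    have h : (pel (x e) * pel (x e'))⁻¹ * (pel (x e') * pel (x e)) = 1 := by
      refine TN_P81_ker ?_ ?_
      · exact mul_mem (inv_mem (mul_mem (pel_mem _) (pel_mem _))) (mul_mem (pel_mem _) (pel_mem _))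
      · simp only [map_mul, map_inv, xe]
        rw [show n * e * n⁻¹ * (n * e' * n⁻¹) = n * (e * e') * n⁻¹ by group,
          show n * e' * n⁻¹ * (n * e * n⁻¹) = n * (e' * e) * n⁻¹ by group, hc _ e.2 _ e'.2, inv_mul_cancel]
    exact inv_mul_eq_one.mp h)
  haveI : Fintype E := Fintype.ofFinite _
  have cases : (∀ e, (x e).2.2.2 = 0) ∨ Nat.card E ≤ 9 := by
    by_cases h : ∀ e, (x e).2.2.2 = 0
    · exact Or.inl h
    push Not at h
    obtain ⟨e0, he0⟩ := h
    refine Or.inr ?_
    rw [Nat.card_eq_fintype_card, ← Finset.card_univ, ← Finset.card_image_of_injective _ inj]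
    refine (Finset.card_le_card fun y hy => ?_).trans (small_cent _ he0)
    obtain ⟨e, -, rfl⟩ := Finset.mem_image.mp hy
    exact Finset.mem_filter.mpr ⟨Finset.mem_univ _, comm e0 e⟩
  rcases cases with h | h
  · have hle : Nat.card E ≤ 27 := by
      refine (Nat.card_le_card_of_injective (fun e : E => ((x e).1, (x e).2.1, (x e).2.2.1))
        fun e e' r => inj ?_).trans (le_of_eq (by simp))
      simp only [Prod.mk.injEq] at r
      exact Prod.ext r.1 (Prod.ext r.2.1 (Prod.ext r.2.2 ((h e).trans (h e').symm)))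
    refine ⟨hle, fun h27 => ⟨n, fun e => ⟨fun he => ?_, fun ⟨a, c, d, r⟩ => ?_⟩⟩⟩
    · refine ⟨(x ⟨e, he⟩).1, (x ⟨e, he⟩).2.1, (x ⟨e, he⟩).2.2.1, ?_⟩
      rw [← h ⟨e, he⟩]
      exact (xe ⟨e, he⟩).symm
    · have hb' : Function.Bijective fun e : E => ((x e).1, (x e).2.1, (x e).2.2.1) := by
        refine (Fintype.bijective_iff_injective_and_card _).mpr ⟨fun e e' r => inj ?_, ?_⟩
        · simp only [Prod.mk.injEq] at r
          exact Prod.ext r.1 (Prod.ext r.2.1 (Prod.ext r.2.2 ((h e).trans (h e').symm)))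
        · rw [← Nat.card_eq_fintype_card, le_antisymm hle h27]
          simp
      obtain ⟨e', he'⟩ := hb'.2 (a, c, d)
      have hh : x e' = (a, c, d, 0) := by
        simp only [Prod.mk.injEq] at he'
        exact Prod.ext he'.1 (Prod.ext he'.2.1 (Prod.ext he'.2.2 (h e')))
      have := xe e'
      rw [hh, ← r] at this
      obtain rfl : (e' : NN) = e := by simpa using this.symm
      exact e'.2
  · exact ⟨h.trans (by norm_num), fun h27 => absurd h (by omega)⟩

/-! ### Involutions -/

theorem swB_sq : swB * swB = 1 := eqB_iff.mp (by decide +kernel)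

set_option maxHeartbeats 1000000 in
/-- An involution with a large fixed space is conjugate to the exchange. -/
theorem big_fix {f : NN} (h2 : f * f = 1) (h1 : f ≠ 1)
    (hfix : 729 ≤ Nat.card {v : W8 // (f : Equiv.Perm W8) v = v}) : ∃ n : NN, f = n * TN swB * n⁻¹ := by
  classical
  have fv : ∀ v, (f : Equiv.Perm W8) ((f : Equiv.Perm W8) v) = v := fun v => by
    rw [← Equiv.Perm.mul_apply, ← Subgroup.coe_mul, h2]; rfl
  have hW : Nat.card W8 = 6561 := by simp [Nat.card_eq_fintype_card]
  by_cases hf : top f = oneF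
  · exfalso
    obtain ⟨q, hq', rfl⟩ := top_ker hf
    by_cases hp : par q = (0, 0, 0)
    · have hs : ∀ i, q i = 1 ∨ q i = -1 := fun i => by
        simp only [par, Prod.ext_iff] at hp
        fin_cases i
        exacts [cls_zero _ (hq' 0) hp.1, cls_zero _ (hq' 1) hp.2.1, cls_zero _ (hq' 2) hp.2.2]
      rcases T_signs hs with e | e
      · exact h1 (Subtype.ext (Equiv.ext e))
      · have : Nat.card {v : W8 // (TN (dg q) : Equiv.Perm W8) v = v} ≤ 1 := by
          haveI : Subsingleton {v : W8 // (TN (dg q) : Equiv.Perm W8) v = v} := by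
            refine ⟨fun a b => Subtype.ext ?_⟩
            have z : ∀ c : {v : W8 // (TN (dg q) : Equiv.Perm W8) v = v}, (c : W8) = 0 := fun c => funext fun i => by
              have := congrFun ((e c).symm.trans c.2) i
              exact (by decide : ∀ k : ZMod 3, -k = k → k = 0) _ this
            rw [z a, z b]
          exact Finite.card_le_one_iff_subsingleton.mpr inferInstance
        omega
    · obtain ⟨i, x, hx, hanti⟩ : ∃ i, ∃ x : SL23, ψ x = 0 ∧ q i * x = -(x * q i) := by
        have k : ∀ g : SL23, ψ g = 0 → cls g ≠ 0 → ∃ x : SL23, ψ x = 0 ∧ g * x = -(x * g) := by decide +kernel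
        by_contra hno
        push Not at hno
        refine hp (Prod.ext ?_ (Prod.ext ?_ ?_)) <;> by_contra hne
        · obtain ⟨x, hx, e⟩ := k _ (hq' 0) hne; exact hno 0 x hx e
        · obtain ⟨x, hx, e⟩ := k _ (hq' 1) hne; exact hno 1 x hx e
        · obtain ⟨x, hx, e⟩ := k _ (hq' 2) hne; exact hno 2 x hx e
      set r : Fin 3 → SL23 := Pi.mulSingle i x
      have anti : ∀ v, T (dg q) (T (dg r) v) = -T (dg r) (T (dg q) v) := fun v => by
        rw [← T_mul, Fi22Loc.dg_mul, show q * r = Pi.mulSingle i (-1) * (r * q) from funext fun k => by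
          by_cases hk : k = i
          · subst hk; simp [r, hanti]
          · simp [r, hk]]
        rw [← Fi22Loc.dg_mul, T_mul, T_single_neg, ← Fi22Loc.dg_mul, T_mul]
      let φ : {v : W8 // (TN (dg q) : Equiv.Perm W8) v = v} × {v : W8 // (TN (dg q) : Equiv.Perm W8) v = v} → W8 :=
        fun p => p.1.1 + T (dg r) p.2.1
      have hφ : Function.Injective φ := fun p p' e => by
        have e1 : p.1.1 - p'.1.1 = T (dg r) (p'.2.1 - p.2.1) := by
          rw [T_sub, sub_eq_sub_iff_add_eq_add, add_comm (T (dg r) p'.2.1)]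
          exact e
        have e2 : T (dg q) (p.1.1 - p'.1.1) = p.1.1 - p'.1.1 := by rw [T_sub]; exact congrArg₂ (· - ·) p.1.2 p'.1.2
        have e3 : p.1.1 - p'.1.1 = 0 := funext fun a => by
          have := congrFun e2 a
          rw [e1, anti, T_sub (dg q), show T (dg q) p'.2.1 = p'.2.1 from p'.2.2,
            show T (dg q) p.2.1 = p.2.1 from p.2.2] at this
          rw [e1]
          exact (by decide : ∀ k : ZMod 3, -k = k → k = 0) _ this
        rw [e3] at e1
        have e4 : p'.2.1 - p.2.1 = 0 := (Te (dg r)).injective (by rw [Te_apply, Te_apply, ← e1, T_zero])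
        exact Prod.ext (Subtype.ext (sub_eq_zero.mp e3)) (Subtype.ext (sub_eq_zero.mp e4).symm)
      have h := Nat.card_le_card_of_injective φ hφ
      rw [Nat.card_prod, hW] at h
      nlinarith [Nat.mul_le_mul hfix hfix]
  · have hF := List.all_eq_true.mp frames_inv (top f) (top_frame f)
    have ff : compF (top f) (top f) = oneF := by rw [← top_mul, h2, top_one]
    simp only [invOK, ff, decide_true, Bool.not_true, hf, decide_false, Bool.or_false, Bool.false_or,
      List.any_eq_true, decide_eq_true_eq] at hF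
    obtain ⟨x, -, ex⟩ := hF
    set m := TN (pel x) with hm
    have e0 : top f = top (m * TN swB * m⁻¹) := by
      rw [ex, ← top_TN, map_mul, map_mul, map_inv]
    have e1 : top (TN swB) = top (m⁻¹ * f * m) := by
      rw [top_mul (m⁻¹ * f) m, top_mul m⁻¹ f, e0, ← top_mul, ← top_mul]
      exact congrArg top (by group)
    obtain ⟨q, hq', eq⟩ := top_ker (f := (TN swB)⁻¹ * (m⁻¹ * f * m)) (top_eq_ker e1)
    rw [inv_mul_eq_iff_eq_mul] at eq
    set d : Fin 3 → SL23 := fun i => q (Equiv.swap 0 1 i) * q i with hd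
    have hsq : ∀ v, T (dg d) v = v := fun v => by
      have e : TN swB * TN (dg q) * (TN swB * TN (dg q)) = 1 := by
        rw [← eq, show m⁻¹ * f * m * (m⁻¹ * f * m) = m⁻¹ * (f * f) * m by group, h2]; group
      rw [← map_mul, ← map_mul] at e
      have e' : T (swB * dg q * (swB * dg q)) v = v := by
        rw [← TN_coe, e]; rfl
      rw [show swB * dg q * (swB * dg q) = dg d from Fi22Loc.Bk.ext'
        (by simp [Fi22Loc.mul_π, Fi22Loc.dg_π, swB]) fun i => by
          simp [Fi22Loc.mul_g, Fi22Loc.mul_π, Fi22Loc.dg_π, Fi22Loc.dg_g, swB, hd]] at e'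
      exact e'
    have qd : Qt d := fun i => by simp [hd, Fi22Loc.ψ_mul, hq' _]
    have hds : ∀ i, d i = 1 ∨ d i = -1 := fun i => by
      have := T_scalar_par d qd fun a => hsq _
      simp only [par, Prod.ext_iff] at this
      fin_cases i
      exacts [cls_zero _ (qd 0) this.1, cls_zero _ (qd 1) this.2.1, cls_zero _ (qd 2) this.2.2]
    have d01 : d 0 = q 1 * q 0 := by simp [hd]
    have d11 : d 1 = q 0 * q 1 := by simp [hd]
    have d22 : d 2 = q 2 * q 2 := by simp [hd, Equiv.swap_apply_def]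
    have deq : d 1 = d 0 := by
      rcases hds 0 with e | e <;> rw [d11, e]
      · rw [d01] at e; exact mul_eq_one_comm.mp e
      · rw [d01] at e
        calc q 0 * q 1 = (q 1)⁻¹ * (q 1 * q 0) * q 1 := by group
          _ = -1 := by rw [e]; simp
    have q2sq : q 2 * q 2 = 1 := by
      rcases hds 2 with e | e
      · rwa [d22] at e
      · exfalso
        have e' : ∀ v, T (dg (Pi.mulSingle 2 (-1))) v = v := fun v => by
          have h := hsq v
          rw [qt_split d, ← Fi22Loc.dg_mul, ← Fi22Loc.dg_mul, T_mul, T_mul, deq, e] at h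
          rcases hds 0 with r | r <;> rw [r] at h <;>
            simpa [Pi.mulSingle_one, Fi22Loc.dg_one, T_one, T_single_neg, T_neg] using h
        have := e' (ev (ix 0 0 0))
        rw [T_single_neg] at this
        exact absurd this (by decide +kernel)
    have k2 : q 2 = 1 ∨ q 2 = -1 := (by decide +kernel : ∀ g : SL23, g * g = 1 → g = 1 ∨ g = -1) _ q2sq
    set r : Fin 3 → SL23 := Pi.mulSingle 0 (q 0)⁻¹ with hr
    have qr : Qt r := fun i => by
      by_cases hi : i = 0
      · subst hi; simp [hr, ψ_inv', hq' 0]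
      · simp [hr, hi, Fi22Loc.ψ_one]
    set c : Fin 3 → SL23 := ![q 0, (q 0)⁻¹, 1] with hc
    have hcc : dg r * swB * (dg r)⁻¹ = swB * dg c := Fi22Loc.Bk.ext'
      (by simp [Fi22Loc.mul_π, Fi22Loc.inv_π, Fi22Loc.dg_π, swB]) fun i => by
      fin_cases i <;> simp [Fi22Loc.mul_g, Fi22Loc.mul_π, Fi22Loc.inv_g, Fi22Loc.dg_π, Fi22Loc.dg_g, swB, hr, hc,
        Equiv.swap_apply_def, Pi.mulSingle]
    have hsig : ∀ i, (c⁻¹ * q) i = 1 ∨ (c⁻¹ * q) i = -1 := fun i => by
      fin_cases i
      · left; simp [hc]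
      · show ((q 0)⁻¹)⁻¹ * q 1 = 1 ∨ ((q 0)⁻¹)⁻¹ * q 1 = -1
        rw [inv_inv, ← d11]
        exact hds 1
      · simpa [hc] using k2
    have hfinal : m⁻¹ * f * m = TN (dg r) * TN swB * (TN (dg r))⁻¹ * TN (dg (c⁻¹ * q)) := by
      rw [eq, ← map_mul, ← map_inv, ← map_mul, ← map_mul, hcc, ← Fi22Loc.dg_mul]
      simp only [← map_mul]
      congr 1
      rw [mul_assoc, ← mul_assoc (dg c), Fi22Loc.dg_mul, mul_inv_cancel, Fi22Loc.dg_one, one_mul]
    rcases T_signs hsig with e | e
    · refine ⟨m * TN (dg r), ?_⟩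
      rw [show TN (dg (c⁻¹ * q)) = 1 from Subtype.ext (Equiv.ext e), mul_one] at hfinal
      calc f = m * (m⁻¹ * f * m) * m⁻¹ := by group
        _ = _ := by rw [hfinal]; group
    · exfalso
      set n := m * TN (dg r) with hn
      have hfn : f = n * (TN swB * TN (dg (c⁻¹ * q))) * n⁻¹ := by
        have comm : Commute (TN (dg (c⁻¹ * q))) (TN (dg r))⁻¹ := by
          refine Subtype.ext (Equiv.ext fun v => ?_)
          simp only [Subgroup.coe_mul, Equiv.Perm.mul_apply, TN_coe]
          rw [e, e, NN_neg]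
        calc f = m * (m⁻¹ * f * m) * m⁻¹ := by group
          _ = m * (TN (dg r) * TN swB * ((TN (dg r))⁻¹ * TN (dg (c⁻¹ * q)))) * m⁻¹ := by rw [hfinal]; group
          _ = m * (TN (dg r) * TN swB * (TN (dg (c⁻¹ * q)) * (TN (dg r))⁻¹)) * m⁻¹ := by rw [comm.eq]
          _ = _ := by rw [hn]; group
      let ψ' : {v : W8 // (f : Equiv.Perm W8) v = v} → ZMod 3 × ZMod 3 := fun v =>
        (((n⁻¹ : NN) : Equiv.Perm W8) v.1 (ix 0 1 0), ((n⁻¹ : NN) : Equiv.Perm W8) v.1 (ix 0 1 1))
      have hinj : Function.Injective ψ' := fun v w h => by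
        apply Subtype.ext
        apply ((n⁻¹ : NN) : Equiv.Perm W8).injective
        have sh : ∀ u : {v : W8 // (f : Equiv.Perm W8) v = v}, ∀ x y z,
            ((n⁻¹ : NN) : Equiv.Perm W8) u.1 (ix x y z) = -((n⁻¹ : NN) : Equiv.Perm W8) u.1 (ix y x z) := by
          intro u x y z
          set u' := ((n⁻¹ : NN) : Equiv.Perm W8) u.1 with hu
          have e1 : T swB (-u') = u' := by
            have hu2 : ((n⁻¹ * f : NN) : Equiv.Perm W8) u.1 = u' := by
              rw [Subgroup.coe_mul, Equiv.Perm.mul_apply, u.2]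
            rw [show n⁻¹ * f = TN swB * TN (dg (c⁻¹ * q)) * n⁻¹ by rw [hfn]; group] at hu2
            simp only [Subgroup.coe_mul, Equiv.Perm.mul_apply, TN_coe, e] at hu2
            exact hu2
          conv_lhs => rw [← e1]
          simp [T, dW, swB, act1_one, permW]
          congr 1
          funext i
          fin_cases i <;> simp [ix, Equiv.swap_apply_def]
        simp only [ψ', Prod.mk.injEq] at h
        funext a
        rw [idx_eta a]
        generalize a 0 = x
        generalize a 1 = y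
        generalize a 2 = z
        have z0 : ∀ k : ZMod 3, k = -k → k = 0 := by decide
        fin_cases x <;> fin_cases y <;> fin_cases z <;>
          simp only [Fin.zero_eta, Fin.mk_one, Fin.isValue] <;>
          first
            | with_reducible exact h.1
            | with_reducible exact h.2
            | (rw [sh v, sh w]; with_reducible exact congrArg Neg.neg h.1)
            | (rw [sh v, sh w]; with_reducible exact congrArg Neg.neg h.2)
            | (rw [z0 _ (sh v _ _ _), z0 _ (sh w _ _ _)])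
      have := Nat.card_le_card_of_injective ψ' hinj
      rw [Nat.card_prod, Nat.card_zmod] at this
      omega

end CfsgLib.Fi23Loc
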