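import Cfsg.Agent.Lib.Fi23Loc.FrameCore
import Cfsg.Agent.Lib.AfterFT.OutSmallRank

/-!
An element of order three central modulo an extraspecial group of order 128 with a top of order 648 acts without
fixed points modulo the centre; the frame.
-/

set_option autoImplicit false
set_option linter.unusedSectionVars false
set_option linter.style.haveILetI false

namespace CfsgLib.Fi23Loc

open Subgroup
open scoped commutatorElement

universe u

/-- Homomorphisms of an elementary abelian group into a group of two elements. -/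
theorem card_hom_le {V : Type u} [Group V] [Finite V] (hc : ∀ a b : V, a * b = b * a) (h2 : ∀ a : V, a * a = 1) :
    Nat.card (V →* Multiplicative (ZMod 2)) ≤ Nat.card V := by
  classical
  haveI : Fact (Nat.Prime 2) := ⟨Nat.prime_two⟩
  letI : CommGroup V := { (inferInstance : Group V) with mul_comm := hc }
  letI : Module (ZMod 2) (Additive V) := AddCommGroup.zmodModule (n := 2) fun x => by rw [two_nsmul]; exact h2 x.toMul
  haveI : Module.Finite (ZMod 2) (Additive V) := Module.Finite.of_finite
  let g : (V →* Multiplicative (ZMod 2)) → Module.Dual (ZMod 2) (Additive V) := fun f =>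
    (MonoidHom.toAdditiveLeft f).toZModLinearMap 2
  have hg : Function.Injective g := fun f f' e => MonoidHom.ext fun v =>
    congrArg Multiplicative.ofAdd (LinearMap.congr_fun e (Additive.ofMul v) :)
  haveI : Finite (Module.Dual (ZMod 2) (Additive V)) := Module.finite_of_finite (ZMod 2)
  refine (Nat.card_le_card_of_injective g hg).trans (le_of_eq ?_)
  rw [Module.natCard_eq_pow_finrank (K := ZMod 2) (V := Module.Dual (ZMod 2) (Additive V)), Subspace.dual_finrank_eq,
    ← Module.natCard_eq_pow_finrank]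
  exact Nat.card_congr Additive.toMul

theorem gl_small : ∀ a : Fin 5, ¬ 81 ∣ (∏ i : Fin (a.val + 1), (2 ^ (a.val + 1) - 2 ^ (i : ℕ))) *
    ∏ i : Fin (5 - a.val), (2 ^ (5 - a.val) - 2 ^ (i : ℕ)) := by decide +kernel

/-- An automorphism of order three commuting with a large group fixes no point of an elementary group of order 64. -/
theorem no_fixed {K V : Type*} [Group K] [Group V] [Finite K] [Finite V] (hc : ∀ a b : V, a * b = b * a)
    (h2 : ∀ a : V, a * a = 1) (hV : Nat.card V = 64) (α : K →* MulAut V) (h81 : 81 ∣ α.ker.index)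
    (γ : MulAut V) (hγ : γ ^ 3 = 1) (hne : γ ≠ 1) (hcomm : ∀ k, Commute (α k) γ) (v : V) :
    v * γ v * γ (γ v) = 1 := by
  classical
  have g3 : ∀ x, γ (γ (γ x)) = x := fun x => by
    simpa [pow_succ, MulAut.mul_apply] using DFunLike.congr_fun hγ x
  let V0 : Subgroup V :=
    { carrier := {v | γ v = v}
      one_mem' := map_one γ
      mul_mem' := fun {a b} (ha : γ a = a) (hb : γ b = b) => show γ (a * b) = a * b by rw [map_mul, ha, hb]
      inv_mem' := fun {a} (ha : γ a = a) => show γ a⁻¹ = a⁻¹ by rw [map_inv, ha] }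
  let tr : V →* V :=
    { toFun := fun v => v * γ v * γ (γ v)
      map_one' := by simp
      map_mul' := fun a b => by
        letI : CommGroup V := { (inferInstance : Group V) with mul_comm := hc }
        simp only [map_mul]
        ac_rfl }
  have htr : ∀ v, tr v = v * γ v * γ (γ v) := fun v => rfl
  have tr0 : ∀ v, tr v ∈ V0 := fun v => by
    show γ (tr v) = tr v
    rw [htr, map_mul, map_mul, g3]
    exact hc _ _ |>.trans (by rw [mul_assoc])
  let V1 : Subgroup V := tr.ker
  have fix1 : ∀ v ∈ V0, tr v = v := fun v (hv : γ v = v) => by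
    rw [htr, hv, hv, h2, one_mul]
  have hdisj : ∀ v, v ∈ V0 → v ∈ V1 → v = 1 := fun v h0 h1 => (fix1 v h0).symm.trans h1
  have hdec : ∀ v, tr v * v ∈ V1 := fun v => by
    show tr (tr v * v) = 1
    rw [map_mul, fix1 _ (tr0 v), h2]
  have inv0 : ∀ k x, x ∈ V0 → α k x ∈ V0 := fun k x (hx : γ x = x) => by
    show γ (α k x) = α k x
    have := DFunLike.congr_fun (hcomm k).eq x
    simp only [MulAut.mul_apply] at this
    rw [← this, hx]
  have inv1 : ∀ k x, x ∈ V1 → α k x ∈ V1 := fun k x (hx : tr x = 1) => by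
    show tr (α k x) = 1
    have e : ∀ y, γ (α k y) = α k (γ y) := fun y => by
      have := DFunLike.congr_fun (hcomm k).eq y
      simpa only [MulAut.mul_apply] using this.symm
    rw [htr, e, e, ← map_mul, ← map_mul, ← htr, hx, map_one]
  let res : ∀ W : Subgroup V, (∀ k x, x ∈ W → α k x ∈ W) → (K →* MulAut W) := fun W hW =>
    MonoidHom.mk' (fun k =>
      { toFun := fun x => ⟨α k x, hW k x x.2⟩
        invFun := fun x => ⟨α k⁻¹ x, hW k⁻¹ x x.2⟩
        left_inv := fun x => Subtype.ext (by simp)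
        right_inv := fun x => Subtype.ext (by simp)
        map_mul' := fun x y => Subtype.ext (map_mul (α k) (x : V) y) })
      fun k l => MulEquiv.ext fun x => Subtype.ext (by
        show α (k * l) x = α k (α l x)
        rw [map_mul]; rfl)
  let β := (res V0 inv0).prod (res V1 inv1)
  have hker : β.ker ≤ α.ker := fun k hk => by
    rw [MonoidHom.mem_ker] at hk ⊢
    refine MulEquiv.ext fun x => ?_
    have e0 : α k (tr x) = tr x :=
      congrArg Subtype.val (DFunLike.congr_fun (congrArg Prod.fst hk) (⟨tr x, tr0 x⟩ : V0))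
    have e1 : α k (tr x * x) = tr x * x :=
      congrArg Subtype.val (DFunLike.congr_fun (congrArg Prod.snd hk) (⟨tr x * x, hdec x⟩ : V1))
    rw [map_mul, e0] at e1
    exact mul_left_cancel e1
  have hdvd : 81 ∣ Nat.card (MulAut V0) * Nat.card (MulAut V1) := by
    rw [← Nat.card_prod]
    refine (h81.trans (Subgroup.index_dvd_of_le hker)).trans ?_
    rw [Subgroup.index_ker]
    exact Subgroup.card_subgroup_dvd_card _
  have hprod : Nat.card V0 * Nat.card V1 = 64 := by
    rw [← hV, ← Nat.card_prod]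
    refine Nat.card_congr (Equiv.ofBijective (fun p : V0 × V1 => (p.1 : V) * p.2) ⟨fun p p' e => ?_, fun x => ?_⟩)
    · have h' := congrArg tr e
      rw [map_mul, map_mul, fix1 _ p.1.2, fix1 _ p'.1.2, show tr (p.2 : V) = 1 from p.2.2,
        show tr (p'.2 : V) = 1 from p'.2.2, mul_one, mul_one] at h'
      simp only [h'] at e
      exact Prod.ext (Subtype.ext h') (Subtype.ext (mul_left_cancel e))
    · exact ⟨(⟨tr x, tr0 x⟩, ⟨tr x * x, hdec x⟩), by
        show tr x * (tr x * x) = x
        rw [← mul_assoc, h2, one_mul]⟩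
  obtain ⟨a, ha, hd0⟩ := CfsgLib.AfterFT.OutSolvable.card_mulAut_dvd (F := V0)
    (fun x y => Subtype.ext (hc x y)) (fun x => Subtype.ext (by rw [SubmonoidClass.coe_pow, pow_two]; exact h2 _))
  obtain ⟨b, hb, hd1⟩ := CfsgLib.AfterFT.OutSolvable.card_mulAut_dvd (F := V1)
    (fun x y => Subtype.ext (hc x y)) (fun x => Subtype.ext (by rw [SubmonoidClass.coe_pow, pow_two]; exact h2 _))
  have hab : a + b = 6 := by
    rw [ha, hb, ← pow_add] at hprod
    exact Nat.pow_right_injective le_rfl hprod
  rcases Nat.eq_zero_or_pos a with rfl | hapos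
  · rw [pow_zero] at ha
    haveI : Subsingleton V0 := (Nat.card_eq_one_iff_unique.mp ha).1
    exact congrArg Subtype.val (Subsingleton.elim (⟨tr v, tr0 v⟩ : V0) 1)
  rcases Nat.eq_zero_or_pos b with rfl | hbpos
  · exfalso
    rw [pow_zero] at hb
    haveI : Subsingleton V1 := (Nat.card_eq_one_iff_unique.mp hb).1
    refine hne (MulEquiv.ext fun x => ?_)
    have h1 : tr x * x = 1 := congrArg Subtype.val (Subsingleton.elim (⟨tr x * x, hdec x⟩ : V1) 1)
    have hx : x ∈ V0 := by
      rw [← inv_eq_of_mul_eq_one_right h1]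
      exact inv_mem (tr0 x)
    exact hx
  exfalso
  obtain ⟨a', rfl⟩ : ∃ a', a = a' + 1 := ⟨a - 1, by omega⟩
  obtain rfl : b = 5 - a' := by omega
  exact gl_small ⟨a', by omega⟩ (hdvd.trans (mul_dvd_mul hd0 hd1))

/-- A frame of three quaternion pairs moved by `c`. -/
theorem exists_frame {K : Type u} [Group K] [Finite K] (R : Subgroup K) [R.Normal] (hR : Cfsg.IsExtraspecial 2 R)
    (hcard : Nat.card R = 2 ^ 7) (hcent : Subgroup.centralizer (R : Set K) ≤ R) (hidx : R.index = 648)
    (c : K) (hc : c ∉ R) (hc3 : c ^ 3 ∈ R) (hcc : ∀ k : K, k * c * k⁻¹ * c⁻¹ ∈ R) :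
    ∃ (e : K) (a b : Fin 3 → K), e ∈ R ∧ e ≠ 1 ∧ e * e = 1 ∧ (∀ k, Commute k e) ∧ (∀ i, a i ∈ R ∧ b i ∈ R) ∧
      (∀ i, a i * a i = e) ∧ (∀ i, b i * b i = e) ∧ (∀ i, b i * a i = e * (a i * b i)) ∧
      (∀ i k, i ≠ k → Commute (a i) (a k) ∧ Commute (a i) (b k) ∧ Commute (b i) (b k)) ∧
      (∀ i, c * a i * c⁻¹ = b i ∧ (c * b i * c⁻¹ = a i * b i ∨ c * b i * c⁻¹ = e * (a i * b i))) ∧
      R ≤ Subgroup.closure (Set.range a ∪ Set.range b) := by
  classical
  obtain ⟨z, h⟩ := CfsgLib.ExtraTwo.ofExtraspecial hR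
  set ψ : K →* MulAut R := MulAut.conjNormal with hψ
  have ψval : ∀ (k : K) (x : R), ((ψ k x : R) : K) = k * x * k⁻¹ := fun k x => MulAut.conjNormal_apply k x
  have ψz : ∀ k, ψ k z = z := fun k => FrameCore.aut_z h (ψ k)
  have hze : ∀ k : K, Commute k (z : K) := fun k => by
    have := congrArg Subtype.val (ψz k)
    rw [ψval] at this
    exact mul_inv_eq_iff_eq_mul.mp this
  -- the action modulo the centre
  set Z := Subgroup.center R with hZ
  have zmem : z ∈ Z := (h.center_iff z).mpr (Or.inr rfl)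
  have hZmap : ∀ (k : K), Z.map (ψ k).toMonoidHom = Z := fun k => Subgroup.characteristic_iff_map_eq.mp inferInstance _
  let α : K →* MulAut (R ⧸ Z) := MonoidHom.mk' (fun k => QuotientGroup.congr Z Z (ψ k) (hZmap k)) fun k l =>
    MulEquiv.ext fun q => by
      induction q using QuotientGroup.induction_on with
      | _ x => show ((ψ (k * l) x : R) : R ⧸ Z) = ((ψ k (ψ l x) : R) : R ⧸ Z); rw [map_mul]; rfl
  have hα : ∀ k (x : R), α k (x : R ⧸ Z) = ((ψ k x : R) : R ⧸ Z) := fun k x => rfl
  have qsq : ∀ q : R ⧸ Z, q * q = 1 := fun q => by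
    induction q using QuotientGroup.induction_on with
    | _ x => rw [← QuotientGroup.mk_mul]; exact (QuotientGroup.eq_one_iff _).mpr (h.sq_central x)
  have qcomm : ∀ a b : R ⧸ Z, a * b = b * a := fun a b => by
    calc a * b = (a * b)⁻¹ := eq_inv_of_mul_eq_one_left (qsq _)
      _ = b * a := by rw [_root_.mul_inv_rev, inv_eq_of_mul_eq_one_right (qsq a), inv_eq_of_mul_eq_one_right (qsq b)]
  have hV : Nat.card (R ⧸ Z) = 64 := by
    have := Subgroup.card_eq_card_quotient_mul_card_subgroup Z
    rw [hcard, h.card_center] at this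
    omega
  -- the kernel
  have hRker : R ≤ α.ker := fun k hk => by
    rw [MonoidHom.mem_ker]
    refine MulEquiv.ext fun q => ?_
    induction q using QuotientGroup.induction_on with
    | _ x =>
      rw [hα, MulAut.one_apply, QuotientGroup.eq]
      have e : ψ k x = ⟨k, hk⟩ * x * ⟨k, hk⟩⁻¹ := Subtype.ext (by rw [ψval]; rfl)
      rw [e, show (⟨k, hk⟩ * x * ⟨k, hk⟩⁻¹ : R)⁻¹ * x = ⁅(⟨k, hk⟩ : R), x⁻¹⁆ by
        rw [commutatorElement_def, inv_inv]; group]
      rcases h.comm_cases ⟨k, hk⟩ x⁻¹ with e1 | e1 <;> rw [e1]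
      exacts [one_mem _, zmem]
  have hker : α.ker = R := by
    refine (Subgroup.eq_of_le_of_card_ge hRker ?_).symm
    have hd : ∀ k ∈ α.ker, ∀ x : R, ψ k x = x ∨ ψ k x = z * x := fun k hk x => by
      have e := DFunLike.congr_fun (MonoidHom.mem_ker.mp hk) (x : R ⧸ Z)
      rw [hα, MulAut.one_apply, eq_comm, QuotientGroup.eq] at e
      rcases (h.center_iff _).mp e with e1 | e1
      · exact Or.inl (inv_mul_eq_one.mp e1).symm
      · exact Or.inr (by rw [inv_mul_eq_iff_eq_mul.mp e1, (h.z_comm x).eq])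
    let s : K → R → Multiplicative (ZMod 2) := fun k x => if ψ k x = x then 1 else Multiplicative.ofAdd 1
    have hs : ∀ k ∈ α.ker, ∀ x y : R, s k (x * y) = s k x * s k y := by
      intro k hk x y
      have hzxy : ∀ w : R, z * w ≠ w := fun w e => h.ne (mul_eq_right.mp e)
      simp only [s, map_mul]
      rcases hd k hk x with ex | ex <;> rcases hd k hk y with ey | ey <;> rw [ex, ey]
      · simp
      · rw [← mul_assoc x, (h.z_comm x).eq, mul_assoc z]; simp [hzxy]
      · rw [mul_assoc z]; simp [hzxy]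
      · rw [mul_assoc z, ← mul_assoc x z, (h.z_comm x).eq, mul_assoc z x, ← mul_assoc z z, h.zz, one_mul]
        simp [hzxy]
        decide
    have hsZ : ∀ k, ∀ w ∈ Z, s k w = 1 := fun k w hw => by
      rcases (h.center_iff w).mp hw with rfl | rfl <;> simp [s, ψz]
    let H : α.ker → ((R ⧸ Z) →* Multiplicative (ZMod 2)) := fun k =>
      QuotientGroup.lift Z (MonoidHom.mk' (s k) (hs k k.2)) fun w hw => hsZ k w hw
    have hfib : ∀ f, Nat.card {k : α.ker // H k = f} ≤ 2 := by
      intro f
      by_cases hf : ∃ k, H k = f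
      · obtain ⟨k₀, hk₀⟩ := hf
        have key : ∀ k : {k : α.ker // H k = f}, ∃ w : Z, (k.1 : K) = k₀ * (w : R) := by
          intro k
          have hx : ∀ x : R, ψ k.1 x = ψ k₀ x := fun x => by
            have e := DFunLike.congr_fun (k.2.trans hk₀.symm) (x : R ⧸ Z)
            change s k.1 x = s k₀ x at e
            simp only [s] at e
            rcases hd _ k.1.2 x with a1 | a1 <;> rcases hd _ k₀.2 x with a2 | a2 <;> rw [a1, a2]
            · rw [a1, a2, if_pos rfl, if_neg (fun e => h.ne (mul_eq_right.mp e))] at e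
              exact absurd e (by decide)
            · rw [a1, a2, if_pos rfl, if_neg (fun e => h.ne (mul_eq_right.mp e))] at e
              exact absurd e (by decide)
          set d := (k₀ : K)⁻¹ * k.1 with hd'
          have hdc : d ∈ Subgroup.centralizer (R : Set K) := Subgroup.mem_centralizer_iff.mpr fun y hy => by
            have e := congrArg Subtype.val (hx ⟨y, hy⟩)
            rw [ψval, ψval] at e
            simp only [hd']
            calc y * ((k₀ : K)⁻¹ * k.1) = (k₀ : K)⁻¹ * ((k₀ : K) * y * (k₀ : K)⁻¹) * k.1 := by group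
              _ = (k₀ : K)⁻¹ * ((k.1 : K) * y * (k.1 : K)⁻¹) * k.1 := by rw [e]
              _ = _ := by group
          have hdR := hcent hdc
          refine ⟨⟨⟨d, hdR⟩, Subgroup.mem_center_iff.mpr fun g => Subtype.ext
            (Subgroup.mem_centralizer_iff.mp hdc g g.2)⟩, ?_⟩
          simp [hd']
        choose w hw using key
        refine (Nat.card_le_card_of_injective w fun k k' e => Subtype.ext (Subtype.ext ?_)).trans h.card_center.le
        rw [hw, hw, e]
      · haveI : IsEmpty {k : α.ker // H k = f} := ⟨fun k => hf ⟨_, k.2⟩⟩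
        simp
    rw [← Nat.card_congr (Equiv.sigmaFiberEquiv H), hcard]
    haveI : Finite ((R ⧸ Z) →* Multiplicative (ZMod 2)) := Finite.of_injective _ DFunLike.coe_injective
    haveI := Fintype.ofFinite ((R ⧸ Z) →* Multiplicative (ZMod 2))
    rw [Nat.card_sigma]
    calc ∑ f, Nat.card {k : α.ker // H k = f} ≤ ∑ f : (R ⧸ Z) →* Multiplicative (ZMod 2), 2 :=
          Finset.sum_le_sum fun f _ => hfib f
      _ = Nat.card ((R ⧸ Z) →* Multiplicative (ZMod 2)) * 2 := by simp [Nat.card_eq_fintype_card]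
      _ ≤ 64 * 2 := Nat.mul_le_mul_right 2 (hV ▸ card_hom_le qcomm qsq)
      _ = _ := by norm_num
  have hγ3 : α c ^ 3 = 1 := by rw [← map_pow]; exact hRker hc3
  have hγne : α c ≠ 1 := fun e => hc (hker ▸ MonoidHom.mem_ker.mpr e)
  have hγc : ∀ k, Commute (α k) (α c) := fun k => by
    have e := MonoidHom.mem_ker.mp (hRker (hcc k))
    rw [map_mul, map_mul, map_mul, map_inv, map_inv] at e
    exact mul_inv_eq_iff_eq_mul.mp (mul_inv_eq_one.mp e)
  have h3 : ∀ x : R, x * ψ c x * ψ c (ψ c x) ∈ Subgroup.center R := fun x => (QuotientGroup.eq_one_iff _).mp (by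
    have := no_fixed qcomm qsq hV α (by rw [hker, hidx]; norm_num) (α c) hγ3 hγne hγc (x : R ⧸ Z)
    simpa only [hα, ← QuotientGroup.mk_mul] using this)
  obtain ⟨a, hG, hO, htop⟩ := FrameCore.exists_frame_core h (by rw [hcard]; norm_num) (ψ c) h3
  refine ⟨z, fun i => (a i : K), fun i => (ψ c (a i) : K), z.2, fun e => h.ne (Subtype.ext e),
    congrArg Subtype.val h.zz, hze, fun i => ⟨(a i).2, (ψ c (a i)).2⟩, fun i => congrArg Subtype.val (hG i).1,
    fun i => congrArg Subtype.val (hG i).2.1, fun i => ?_, fun i k hik => ?_, fun i => ⟨(ψval c _).symm, ?_⟩, ?_⟩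
  · obtain ⟨-, -, hne, -⟩ := hG i
    have e : ψ c (a i) * a i = z * (a i * ψ c (a i)) := by
      rcases h.comm_cases (ψ c (a i)) (a i) with e1 | e1
      · exact absurd (commutatorElement_eq_one_iff_mul_comm.mp e1).symm hne
      · calc ψ c (a i) * a i = ⁅ψ c (a i), a i⁆ * (a i * ψ c (a i)) := by rw [commutatorElement_def]; group
          _ = _ := by rw [e1]
    exact congrArg Subtype.val e
  · obtain ⟨h1, h2⟩ := hO i k hik
    have h4 := (hO k i (Ne.symm hik)).1
    exact ⟨(h1.1.symm.map R.subtype), h4.2.map R.subtype, h2.map R.subtype⟩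
  · rw [← ψval]
    rcases (hG i).2.2.2 with e | e
    · exact Or.inl (congrArg Subtype.val e)
    · exact Or.inr (congrArg Subtype.val e)
  · have := congrArg (Subgroup.map R.subtype) htop
    rw [MonoidHom.map_closure, Set.image_union, ← Set.range_comp, ← Set.range_comp, ← MonoidHom.range_eq_map,
      Subgroup.range_subtype] at this
    exact this.ge

end CfsgLib.Fi23Loc
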