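import Cfsg.Agent.Lib.ExtraspecialTwo

/-!
An extraspecial group of order 128 with an automorphism of order three without fixed points modulo the centre has a
frame of three quaternion pairs permuted cyclically inside each pair.
-/

set_option autoImplicit false
set_option linter.unusedSectionVars false

namespace CfsgLib.Fi23Loc.FrameCore

open CfsgLib.ExtraTwo
open scoped commutatorElement

universe u

variable {E : Type u} [Group E] {z : E}

/-- A pair moved cyclically. -/
def Good (z : E) (σ : MulAut E) (a : E) : Prop :=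
  a * a = z ∧ σ a * σ a = z ∧ ¬ Commute a (σ a) ∧ (σ (σ a) = a * σ a ∨ σ (σ a) = z * (a * σ a))

/-- Two pairs commute elementwise. -/
def Orth (σ : MulAut E) (a g : E) : Prop := Commute g a ∧ Commute g (σ a)

variable (h : Ext2 E z)

include h in
theorem cmul {x y a : E} : Commute (x * y) a ↔ (Commute x a ↔ Commute y a) := h.mul_comm_iff

include h in
theorem cmul' {x y a : E} : Commute a (x * y) ↔ (Commute a x ↔ Commute a y) := by
  have c : ∀ p q : E, Commute p q ↔ Commute q p := fun p q => ⟨Commute.symm, Commute.symm⟩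
  rw [c a (x * y), c a x, c a y]
  exact cmul h

include h in
theorem aut_z (σ : MulAut E) : σ z = z := by
  have hm : σ z ∈ Subgroup.center E := by
    rw [Subgroup.mem_center_iff]
    intro g
    obtain ⟨g, rfl⟩ := σ.surjective g
    rw [← map_mul, ← map_mul, (h.z_comm g).eq]
  exact ((h.center_iff _).mp hm).resolve_left fun e => h.ne ((map_eq_one_iff σ σ.injective).mp e)

include h in
theorem good_of_sq {σ : MulAut E} (h3 : ∀ x, x * σ x * σ (σ x) ∈ Subgroup.center E) {a : E} (ha : a * a = z) :
    Good z σ a := by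
  have hz := aut_z h σ
  have hb : σ a * σ a = z := by rw [← map_mul, ha, hz]
  have hc : σ (σ a) * σ (σ a) = z := by rw [← map_mul, hb, hz]
  have inv : ∀ x : E, x * x = z → x⁻¹ = z * x := fun x hx =>
    inv_eq_of_mul_eq_one_right (by rw [← mul_assoc, (h.z_comm x).eq, mul_assoc, hx, h.zz])
  have hw : σ (σ a) = (a * σ a)⁻¹ ∨ σ (σ a) = z * (a * σ a)⁻¹ := by
    rcases (h.center_iff _).mp (h3 a) with e | e
    · exact Or.inl (eq_inv_of_mul_eq_one_right e)
    · refine Or.inr ?_
      rw [← ((h.z_comm (a * σ a)).inv_left).eq]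
      exact eq_inv_mul_iff_mul_eq.mpr e
  have hne : ¬ Commute a (σ a) := fun hcm => h.ne (by
    have h1 : a * σ a * (a * σ a) = 1 := by
      rw [mul_assoc, ← mul_assoc (σ a), ← hcm.eq, mul_assoc a, hb, ← mul_assoc, ha, h.zz]
    rcases hw with e | e <;> rw [e] at hc
    · rw [inv_eq_of_mul_eq_one_right h1, h1] at hc
      exact hc.symm
    · rw [inv_eq_of_mul_eq_one_right h1, mul_assoc, ← mul_assoc (a * σ a), (h.z_comm _).eq,
        mul_assoc z (a * σ a), h1, mul_one, h.zz] at hc
      exact hc.symm)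
  refine ⟨ha, hb, hne, ?_⟩
  have e1 : (a * σ a)⁻¹ = σ a * a := by
    rw [mul_inv_rev, inv _ hb, inv _ ha, mul_assoc, ← mul_assoc (σ a), (h.z_comm (σ a)).eq, mul_assoc z (σ a),
      ← mul_assoc, h.zz, one_mul]
  rcases (h.comm_cases (σ a) a) with e | e
  · exact absurd ((commutatorElement_eq_one_iff_mul_comm.mp e).symm) hne
  · have e2 : σ a * a = z * (a * σ a) := by
      calc σ a * a = ⁅σ a, a⁆ * (a * σ a) := by rw [commutatorElement_def]; group
        _ = _ := by rw [e]
    rcases hw with w | w <;> rw [w, e1, e2]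
    · exact Or.inr rfl
    · left; rw [← mul_assoc, h.zz, one_mul]

include h in
theorem orth_map {σ : MulAut E} {a g : E} (ha : Good z σ a) (hg : Orth σ a g) : Orth σ a (σ g) := by
  have h1 : Commute (σ g) (σ a) := hg.1.map σ.toMonoidHom
  have h2 : Commute (σ g) (σ (σ a)) := hg.2.map σ.toMonoidHom
  refine ⟨?_, h1⟩
  have h2' : Commute (σ g) (a * σ a) := by
    rcases ha.2.2.2 with e | e <;> rw [e] at h2
    · exact h2
    · exact ((cmul' h).mp h2).mp (h.z_comm _)
  exact ((cmul' h).mp h2').mpr h1

include h in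
/-- Correction by the pairs. -/
theorem decomp {σ : MulAut E} : ∀ (L : List E), (∀ a ∈ L, Good z σ a) → L.Pairwise (Orth σ) → ∀ x : E,
    ∃ y, (∀ a ∈ L, Orth σ a y) ∧ ∀ g, (∀ a ∈ L, Orth σ a g) → (Commute g y ↔ Commute g x)
  | [], _, _, x => ⟨x, fun a ha => absurd ha List.not_mem_nil, fun _ _ => Iff.rfl⟩
  | a :: L, hG, hP, x => by
    obtain ⟨hhead, htail⟩ := List.pairwise_cons.mp hP
    have hGL : ∀ b ∈ L, Good z σ b := fun b hb => hG b (List.mem_cons_of_mem _ hb)
    obtain ⟨y, hy, hyg⟩ := decomp L hGL htail x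
    obtain ⟨-, -, hne, -⟩ := hG a List.mem_cons_self
    have hne' : ¬ Commute (σ a) a := fun e => hne e.symm
    obtain ⟨p, hp, hpy⟩ : ∃ p, (p = 1 ∨ p = a ∨ p = σ a ∨ p = a * σ a) ∧ Orth σ a (y * p) := by
      by_cases h1 : Commute y a <;> by_cases h2 : Commute y (σ a)
      · exact ⟨1, Or.inl rfl, by rw [mul_one]; exact ⟨h1, h2⟩⟩
      · exact ⟨a, Or.inr (Or.inl rfl), ((cmul h).mpr (iff_of_true h1 (Commute.refl a))),
          ((cmul h).mpr (iff_of_false h2 hne))⟩
      · exact ⟨σ a, Or.inr (Or.inr (Or.inl rfl)), ((cmul h).mpr (iff_of_false h1 hne')),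
          ((cmul h).mpr (iff_of_true h2 (Commute.refl _)))⟩
      · exact ⟨a * σ a, Or.inr (Or.inr (Or.inr rfl)),
          (cmul h).mpr (iff_of_false h1 fun e => hne' (((cmul h).mp e).mp (Commute.refl a))),
          (cmul h).mpr (iff_of_false h2 fun e => hne (((cmul h).mp e).mpr (Commute.refl _)))⟩
    have pc : ∀ g, Orth σ a g → Commute g p := by
      intro g hg
      rcases hp with rfl | rfl | rfl | rfl
      exacts [Commute.one_right g, hg.1, hg.2, hg.1.mul_right hg.2]
    refine ⟨y * p, fun b hb => ?_, fun g hg => ?_⟩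
    · rcases List.mem_cons.mp hb with rfl | hb
      · exact hpy
      · have hab := hhead b hb
        have p1 : Commute p b := (pc b hab).symm
        have p2 : Commute p (σ b) := (pc _ (orth_map h (hG a List.mem_cons_self) hab)).symm
        exact ⟨(hy b hb).1.mul_left p1, (hy b hb).2.mul_left p2⟩
    · have gp := pc g (hg a List.mem_cons_self)
      refine Iff.trans ?_ (hyg g fun b hb => hg b (List.mem_cons_of_mem _ hb))
      rw [cmul' h]
      exact ⟨fun e => e.mpr gp, fun e => iff_of_true e gp⟩

include h in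
/-- Elements are determined by their signs up to the centraliser of the pairs. -/
theorem card_le [Finite E] {σ : MulAut E} (L : List E) (hL : ∀ g, (∀ a ∈ L, Orth σ a g) → g = 1 ∨ g = z) :
    Nat.card E ≤ 2 * 4 ^ L.length := by
  classical
  let pat : E → Fin L.length → Bool × Bool := fun x i => (decide (Commute x (L.get i)), decide (Commute x (σ (L.get i))))
  have hpat : ∀ x y, pat x = pat y → x = y ∨ x = y * z := by
    intro x y e
    have hinv : ∀ b, (Commute y⁻¹ b ↔ Commute y b) := fun b => Commute.inv_left_iff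
    have horth : ∀ a ∈ L, Orth σ a (y⁻¹ * x) := by
      intro a ha
      obtain ⟨i, rfl⟩ := List.get_of_mem ha
      have ei := congrFun e i
      simp only [pat, Prod.mk.injEq, decide_eq_decide] at ei
      exact ⟨(cmul h).mpr ((hinv _).trans ei.1.symm), (cmul h).mpr ((hinv _).trans ei.2.symm)⟩
    rcases hL _ horth with e | e
    · exact Or.inl (inv_mul_eq_one.mp e).symm
    · exact Or.inr (inv_mul_eq_iff_eq_mul.mp e)
  haveI : Fintype E := Fintype.ofFinite E
  have hfib : ∀ v, (Finset.univ.filter fun x => pat x = v).card ≤ 2 := by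
    intro v
    by_cases hv : ∃ y, pat y = v
    · obtain ⟨y, hy⟩ := hv
      refine le_trans (Finset.card_le_card (t := {y, y * z}) fun x hx => ?_) Finset.card_le_two
      rcases hpat x y ((Finset.mem_filter.mp hx).2.trans hy.symm) with e | e <;> simp [e]
    · rw [Finset.filter_eq_empty_iff.mpr fun x _ hx => hv ⟨x, hx⟩]
      simp
  rw [Nat.card_eq_fintype_card, ← Finset.card_univ]
  refine (Finset.card_le_mul_card_image (f := pat) Finset.univ 2 fun v _ => hfib v).trans ?_
  refine Nat.mul_le_mul_left 2 ((Finset.card_le_univ _).trans (le_of_eq ?_))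
  simp

include h in
/-- A further pair. -/
theorem exists_next [Finite E] {σ : MulAut E} (h3 : ∀ x, x * σ x * σ (σ x) ∈ Subgroup.center E) (L : List E)
    (hG : ∀ a ∈ L, Good z σ a) (hP : L.Pairwise (Orth σ)) (hcard : 2 * 4 ^ L.length < Nat.card E) :
    ∃ a, Good z σ a ∧ ∀ b ∈ L, Orth σ b a := by
  by_contra hne
  push Not at hne
  have hsq : ∀ g, (∀ a ∈ L, Orth σ a g) → g * g = 1 := fun g hg =>
    (h.sq g).resolve_right fun e => by
      obtain ⟨b, hb, hb'⟩ := hne g (good_of_sq h h3 e)
      exact hb' (hg b hb)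
  refine absurd (card_le (σ := σ) h L fun g hg => ?_) (not_le.mpr hcard)
  refine (h.center_iff g).mp (Subgroup.mem_center_iff.mpr fun x => ?_)
  obtain ⟨y, hy, hyg⟩ := decomp h L hG hP x
  have hgy : ∀ a ∈ L, Orth σ a (g * y) := fun a ha => ⟨(hg a ha).1.mul_left (hy a ha).1, (hg a ha).2.mul_left (hy a ha).2⟩
  have i1 := inv_eq_of_mul_eq_one_right (hsq g hg)
  have i2 := inv_eq_of_mul_eq_one_right (hsq y hy)
  have c : Commute g y := by
    have := inv_eq_of_mul_eq_one_right (hsq _ hgy)
    rw [mul_inv_rev, i1, i2] at this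
    exact this.symm
  exact (((hyg g hg).mp c).symm).eq

include h in
/-- The frame. -/
theorem exists_frame_core [Finite E] (hcard : Nat.card E = 128) (σ : MulAut E)
    (h3 : ∀ x, x * σ x * σ (σ x) ∈ Subgroup.center E) :
    ∃ a : Fin 3 → E, (∀ i, Good z σ (a i)) ∧ (∀ i k, i ≠ k → Orth σ (a i) (a k) ∧ Commute (σ (a i)) (σ (a k))) ∧
      Subgroup.closure (Set.range a ∪ Set.range fun i => σ (a i)) = ⊤ := by
  classical
  obtain ⟨x, gx, -⟩ := exists_next h h3 [] (fun a ha => absurd ha List.not_mem_nil) List.Pairwise.nil (by simp [hcard])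
  obtain ⟨y, gy, oy⟩ := exists_next h h3 [x] (by simpa using gx) (List.pairwise_singleton _ _) (by simp [hcard])
  have oxy := oy x List.mem_cons_self
  have hsymm : ∀ {u v : E}, Good z σ u → Orth σ u v → Orth σ v u := fun {u v} gu o =>
    ⟨o.1.symm, (orth_map h gu o).1.symm⟩
  obtain ⟨w, gw, ow⟩ := exists_next h h3 [y, x] (by simp [gx, gy]) (List.pairwise_pair.mpr (hsymm gx oxy))
    (by simp [hcard])
  have oyw := ow y (by simp)
  have oxw := ow x (by simp)
  set a : Fin 3 → E := ![x, y, w]
  have hG : ∀ i, Good z σ (a i) := fun i => by fin_cases i <;> assumption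
  have hO : ∀ i k, i ≠ k → Orth σ (a i) (a k) := by
    intro i k hik
    fin_cases i <;> fin_cases k <;> first
      | exact absurd rfl hik
      | exact oxy
      | exact oxw
      | exact oyw
      | exact hsymm gx oxy
      | exact hsymm gx oxw
      | exact hsymm gy oyw
  refine ⟨a, hG, fun i k hik => ⟨hO i k hik, (orth_map h (hG i) (hO i k hik)).2.symm⟩, ?_⟩
  set H := Subgroup.closure (Set.range a ∪ Set.range fun i => σ (a i)) with hH
  have ma : ∀ i, a i ∈ H := fun i => Subgroup.subset_closure (Or.inl ⟨i, rfl⟩)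
  have mb : ∀ i, σ (a i) ∈ H := fun i => Subgroup.subset_closure (Or.inr ⟨i, rfl⟩)
  have mz : z ∈ H := by rw [← (hG 0).1]; exact mul_mem (ma 0) (ma 0)
  let p : Fin 3 → Bool × Bool → E := fun i st => (if st.1 then a i else 1) * (if st.2 then σ (a i) else 1)
  let word : (Fin 3 → Bool × Bool) × Bool → H := fun v =>
    ⟨p 0 (v.1 0) * p 1 (v.1 1) * p 2 (v.1 2) * (if v.2 then z else 1), by
      have hp : ∀ i st, p i st ∈ H := fun i st => mul_mem (by split <;> simp [ma]) (by split <;> simp [mb])
      exact mul_mem (mul_mem (mul_mem (hp _ _) (hp _ _)) (hp _ _)) (by split <;> simp [mz])⟩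
  have pcomm : ∀ i k, i ≠ k → ∀ st, Commute (p k st) (a i) ∧ Commute (p k st) (σ (a i)) := by
    intro i k hik st
    have o := hO i k hik
    have o2 := orth_map h (hG i) o
    refine ⟨Commute.mul_left ?_ ?_, Commute.mul_left ?_ ?_⟩ <;> split <;>
      first | exact Commute.one_left _ | exact o.1 | exact o.2 | exact o2.1 | exact o2.2
  have pself : ∀ i st, (Commute (p i st) (a i) ↔ st.2 = false) ∧ (Commute (p i st) (σ (a i)) ↔ st.1 = false) := by
    intro i st
    obtain ⟨-, -, hne, -⟩ := hG i
    have hne' : ¬ Commute (σ (a i)) (a i) := fun e => hne e.symm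
    obtain ⟨s, t⟩ := st
    cases s <;> cases t <;>
      simp [p, cmul h, hne, hne', Commute.refl, Commute.one_left]
  have key : ∀ (v : (Fin 3 → Bool × Bool) × Bool) i,
      (Commute (word v).1 (a i) ↔ (v.1 i).2 = false) ∧ (Commute (word v).1 (σ (a i)) ↔ (v.1 i).1 = false) := by
    intro v i
    have hzc : ∀ b, Commute (if v.2 then z else 1) b := fun b => by
      split
      · exact (h.z_comm b).symm
      · exact Commute.one_left b
    rw [← (pself i (v.1 i)).1, ← (pself i (v.1 i)).2]
    simp only [word]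
    fin_cases i
    · have := pcomm 0 1 (by decide) (v.1 1); have := pcomm 0 2 (by decide) (v.1 2)
      constructor <;> simp only [Fin.zero_eta, Fin.isValue, cmul h] <;> tauto
    · have := pcomm 1 0 (by decide) (v.1 0); have := pcomm 1 2 (by decide) (v.1 2)
      constructor <;> simp only [Fin.mk_one, Fin.isValue, cmul h] <;> tauto
    · have := pcomm 2 0 (by decide) (v.1 0); have := pcomm 2 1 (by decide) (v.1 1)
      constructor <;> simp only [Fin.reduceFinMk, Fin.isValue, cmul h] <;> tauto
  have hinj : Function.Injective word := by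
    intro v v' e
    have h1 : v.1 = v'.1 := funext fun i => by
      have k1 := key v i
      have k2 := key v' i
      rw [e] at k1
      refine Prod.ext ?_ ?_
      · have := k1.2.symm.trans k2.2
        cases hv : (v.1 i).1 <;> cases hv' : (v'.1 i).1 <;> simp [hv, hv'] at this ⊢
      · have := k1.1.symm.trans k2.1
        cases hv : (v.1 i).2 <;> cases hv' : (v'.1 i).2 <;> simp [hv, hv'] at this ⊢
    refine Prod.ext h1 ?_
    have e' := congrArg Subtype.val e
    simp only [word, h1] at e'
    have := mul_left_cancel e'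
    cases hv : v.2 <;> cases hv' : v'.2 <;> simp [hv, hv', h.ne, h.ne.symm] at this ⊢
  refine Subgroup.eq_top_of_le_card _ ?_
  calc Nat.card E = Nat.card ((Fin 3 → Bool × Bool) × Bool) := by
        rw [hcard]; simp [Nat.card_eq_fintype_card]
    _ ≤ _ := Nat.card_le_card_of_injective word hinj

end CfsgLib.Fi23Loc.FrameCore
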