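import Cfsg.Agent.Lib.Heis43.Model
import Cfsg.Agent.Lib.SpecU42.PSp
import Mathlib.GroupTheory.Sylow

/-!
The centraliser of a three-central element of order three in PSp(4,3) has order 648.
-/

set_option autoImplicit false
set_option maxRecDepth 100000

namespace CfsgLib.Fi23Loc

open CfsgLib.Heis43

/-- The neutral coordinates. -/
def p1 : P := ((((0 : K3), (0 : K3)), (0 : K3)), (1 : S2))

/-- The inverse in coordinates. -/
def pinv (q : P) : P := ((-act q.2⁻¹ q.1.1, -q.1.2), q.2⁻¹)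

/-- Commuting in coordinates. -/
def commP (p e : P) : Bool := decide (pmul (pmul p e) (pinv (pmul e p)) = p1)

theorem pinv_ok : ∀ q : P, pmul q (pinv q) = p1 := by decide +kernel

theorem cent_heis : ∀ p : P, commP p ((((1 : K3), (0 : K3)), (0 : K3)), (1 : S2)) = true →
    commP p ((((0 : K3), (1 : K3)), (0 : K3)), (1 : S2)) = true → pmul p (pmul p p) = p1 →
    p = p1 ∨ p = tauP ∨ p = pmul tauP tauP := by decide +kernel

theorem heis_cube : ∀ v : V × K3, pmul (v, (1 : S2)) (pmul (v, 1) (v, 1)) = p1 := by decide +kernel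

theorem heis_mul : ∀ v w : V × K3, (pmul (v, (1 : S2)) (w, 1)).2 = 1 ∧ (pinv (v, (1 : S2))).2 = 1 := by
  decide +kernel

theorem phiP_one : phiP p1 = 1 := by
  have h := phiP_mul p1 p1
  rw [show pmul p1 p1 = p1 by decide +kernel] at h
  exact (mul_eq_left.mp h.symm)

theorem phiP_inv (q : P) : phiP (pinv q) = (phiP q)⁻¹ :=
  eq_inv_of_mul_eq_one_right (by rw [← phiP_mul, pinv_ok, phiP_one])

theorem phiP_inj {p q : P} (h : phiP p = phiP q) : p = q := by
  have e : pmul p (pinv q) = p1 := phiP_eq_one (by rw [phiP_mul, phiP_inv, h, mul_inv_cancel])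
  obtain ⟨⟨w, t⟩, A⟩ := p
  obtain ⟨⟨w', t'⟩, B⟩ := q
  simp only [pmul, pinv, p1, Prod.mk.injEq] at e
  obtain ⟨⟨ew, et⟩, eA⟩ := e
  have hAB : A = B := mul_inv_eq_one.mp eA
  subst hAB
  have h1 : act A (-act A⁻¹ w') = -w' := by
    have hn : ∀ (C : S2) (x : V), act C (-x) = -act C x := fun C x => by
      simp only [act, Prod.fst_neg, Prod.snd_neg, Prod.neg_mk]
      exact Prod.ext (by ring) (by ring)
    rw [hn, act_act, mul_inv_cancel, act_one]
  rw [h1] at ew et
  have hw : w = w' := by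
    have : w + -w' = (0 : V) := ew
    rwa [← sub_eq_add_neg, sub_eq_zero] at this
  subst hw
  rw [(om_self_neg w).1, add_zero, ← sub_eq_add_neg, sub_eq_zero] at et
  subst et
  rfl

/-- The Heisenberg part. -/
def heis : Subgroup (Cfsg.PSp 2 K3) where
  carrier := {g | ∃ v : V × K3, g = phiP (v, 1)}
  one_mem' := ⟨((0, 0), 0), phiP_one.symm⟩
  mul_mem' := by
    rintro _ _ ⟨v, rfl⟩ ⟨w, rfl⟩
    exact ⟨(pmul (v, 1) (w, 1)).1, by rw [← phiP_mul]; exact congrArg phiP (Prod.ext rfl (heis_mul v w).1)⟩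
  inv_mem' := by
    rintro _ ⟨v, rfl⟩
    exact ⟨(pinv (v, 1)).1, by rw [← phiP_inv]; exact congrArg phiP (Prod.ext rfl (heis_mul v v).2)⟩

theorem heis_pgroup : IsPGroup 3 heis := by
  rintro ⟨_, v, rfl⟩
  refine ⟨1, Subtype.ext ?_⟩
  rw [pow_one, SubmonoidClass.coe_pow, pow_succ, pow_two, Subgroup.coe_one, mul_assoc]
  show phiP (v, 1) * (phiP (v, 1) * phiP (v, 1)) = 1
  rw [← phiP_mul, ← phiP_mul, heis_cube, phiP_one]

theorem card_cent_tau : Nat.card (Subgroup.centralizer ({tau} : Set (Cfsg.PSp 2 K3))) = 648 := by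
  have hc : ∀ p : P, pmul p tauP = pmul tauP p := by decide +kernel
  let f : P → Subgroup.centralizer ({tau} : Set (Cfsg.PSp 2 K3)) := fun p =>
    ⟨phiP p, Subgroup.mem_centralizer_singleton_iff.mpr (by rw [tau, ← phiP_mul, ← phiP_mul, hc])⟩
  have hf : Function.Bijective f := ⟨fun p q e => phiP_inj (congrArg Subtype.val e), fun ⟨g, hg⟩ => by
    obtain ⟨p, hp⟩ := mem_range_of_commute (Subgroup.mem_centralizer_singleton_iff.mp hg)
    exact ⟨p, Subtype.ext hp.symm⟩⟩
  rw [← Nat.card_congr (Equiv.ofBijective f hf), Nat.card_eq_fintype_card]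
  rfl

/-- The order of the centraliser. -/
theorem card_cent_three {F : Type*} [Field F] [Fintype F] (hF : Fintype.card F = 3) (x : Cfsg.PSp 2 F)
    (hx : orderOf x = 3) (hP : ∃ S : Sylow 3 (Cfsg.PSp 2 F),
      (S : Subgroup (Cfsg.PSp 2 F)) ≤ Subgroup.centralizer ({x} : Set (Cfsg.PSp 2 F))) :
    Nat.card (Subgroup.centralizer ({x} : Set (Cfsg.PSp 2 F))) = 648 := by
  haveI : Fact (Nat.Prime 3) := ⟨Nat.prime_three⟩
  obtain ⟨φ⟩ : Nonempty (K3 ≃+* F) := ⟨FiniteField.ringEquivOfCardEq (by rw [hF, ZMod.card])⟩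
  let κ := CfsgLib.SpecU42.pspCongr 2 φ
  obtain ⟨S, hS⟩ := hP
  have xS : x ∈ (S : Subgroup (Cfsg.PSp 2 F)) := by
    have hz : IsPGroup 3 (Subgroup.zpowers x) := IsPGroup.of_card (n := 1) (by rw [Nat.card_zpowers, hx, pow_one])
    have h := hz.to_sup_of_normal_right' S.2 (by
      rw [Subgroup.zpowers_le]
      refine Subgroup.centralizer_le_normalizer _ (Subgroup.mem_centralizer_iff.mpr fun y hy => ?_)
      exact Subgroup.mem_centralizer_singleton_iff.mp (hS hy))
    rw [← S.is_maximal' h le_sup_right]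
    exact Subgroup.mem_sup_left (Subgroup.mem_zpowers x)
  obtain ⟨T, hT⟩ := heis_pgroup.exists_le_sylow
  let S' : Sylow 3 (Cfsg.PSp 2 K3) := S.comapOfInjective κ.toMonoidHom κ.injective (fun y _ => κ.surjective y)
  obtain ⟨g, hg⟩ := MulAction.exists_smul_eq (Cfsg.PSp 2 K3) T S'
  set y := g⁻¹ * κ.symm x * g with hy
  have hmem : ∀ w ∈ (T : Subgroup (Cfsg.PSp 2 K3)), Commute y w := fun w hw => by
    have h1 : g * w * g⁻¹ ∈ (S' : Subgroup (Cfsg.PSp 2 K3)) := by
      rw [← hg, Sylow.coe_subgroup_smul, Subgroup.mem_pointwise_smul_iff_inv_smul_mem]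
      simpa [MulAut.smul_def, mul_assoc] using hw
    have h2 : κ (g * w * g⁻¹) ∈ (S : Subgroup (Cfsg.PSp 2 F)) := h1
    have h3 : Commute x (κ (g * w * g⁻¹)) := (Subgroup.mem_centralizer_singleton_iff.mp (hS h2)).symm
    have h4 := (h3.map κ.symm.toMonoidHom).map (MulAut.conj g⁻¹).toMonoidHom
    simpa [hy, mul_assoc] using h4
  obtain ⟨p, hp⟩ := mem_range_of_commute (g := y) (hmem tau (hT ⟨((0, 0), -1), rfl⟩)).eq
  have hcomm : ∀ e : V × K3, commP p (e, 1) = true := fun e => by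
    refine decide_eq_true (phiP_eq_one ?_)
    rw [phiP_mul, phiP_inv, mul_inv_eq_one, phiP_mul, phiP_mul, ← hp]
    exact (hmem _ (hT ⟨e, rfl⟩)).eq
  have y3 : orderOf y = 3 := by
    refine Eq.trans ?_ hx
    rw [hy, ← orderOf_injective κ.symm.toMonoidHom κ.symm.injective x]
    have := (MulAut.conj g⁻¹).orderOf_eq (κ.symm x)
    simpa using this
  have h3 : pmul p (pmul p p) = p1 := phiP_eq_one (by
    rw [phiP_mul, phiP_mul, ← hp, ← pow_two, ← pow_succ']
    exact orderOf_dvd_iff_pow_eq_one.mp (dvd_of_eq y3))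
  have hce : Subgroup.centralizer ({y} : Set (Cfsg.PSp 2 K3)) = Subgroup.centralizer {tau} := by
    rcases cent_heis p (hcomm _) (hcomm _) h3 with e | e | e
    · rw [hp, e, phiP_one, orderOf_one] at y3; omega
    · rw [hp, e]; rfl
    · rw [hp, e, phiP_mul]
      ext w
      rw [Subgroup.mem_centralizer_singleton_iff, Subgroup.mem_centralizer_singleton_iff]
      show Commute w (tau * tau) ↔ Commute w tau
      refine ⟨fun h => ?_, fun h => h.mul_right h⟩
      have := h.mul_right h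
      rwa [show tau * tau * (tau * tau) = tau ^ 3 * tau by simp [pow_succ, mul_assoc], tau_cube, one_mul] at this
  rw [← card_cent_tau, ← hce]
  let ε : Cfsg.PSp 2 K3 ≃* Cfsg.PSp 2 F := (MulAut.conj g).trans κ
  have hε : ε y = x := by simp [ε, hy, mul_assoc]
  refine (Nat.card_congr (ε.toEquiv.subtypeEquiv fun w => ?_)).symm
  show w ∈ Subgroup.centralizer {y} ↔ ε w ∈ Subgroup.centralizer {x}
  rw [Subgroup.mem_centralizer_singleton_iff, Subgroup.mem_centralizer_singleton_iff, ← hε, ← map_mul, ← map_mul,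
    ε.injective.eq_iff]

end CfsgLib.Fi23Loc
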