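import Cfsg.Agent.Lib.Fi23Loc.Exists
import Cfsg.Agent.Lib.Fi23Loc.TopPSp
import Cfsg.Agent.Lib.Fi23Loc.Frame
import Cfsg.Agent.Lib.Components
import Cfsg.Prelude.Def_Transfer
import Cfsg.Prelude.Def_Solvable

/-!
The setting from a three-centraliser with an extraspecial core of order 3^9 and the given top.
-/

set_option autoImplicit false
set_option linter.unusedSectionVars false
set_option synthInstance.maxSize 1024

namespace CfsgLib.Fi23Loc

universe u

theorem not_closed {G : Type u} [Group G] [Finite G] (z : G) (hz3 : z ^ 3 = 1) (hz1 : z ≠ 1) (S : Sylow 3 G)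
    (hzS : z ∈ (S : Subgroup G))
    (hwc : ∃ g : G, g * z * g⁻¹ ∈ (S : Subgroup G) ∧ g * z * g⁻¹ ∉ Subgroup.zpowers z) :
    ∃ g, Commute (g * z * g⁻¹) z ∧ ∀ k : ZMod 3, g * z * g⁻¹ ≠ z ^ k.val := by
  classical
  haveI : Fact (Nat.Prime 3) := ⟨Nat.prime_three⟩
  have ho : orderOf z = 3 := orderOf_eq_prime hz3 hz1
  have norm_comm : ∀ y ∈ (S : Subgroup G), y * z * y⁻¹ ∈ Subgroup.zpowers z → Commute y z := fun y hy hn => by
    obtain ⟨k, hk⟩ := mem_powers_iff_mem_zpowers.mpr hn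
    obtain ⟨m, hm⟩ := S.2 ⟨y, hy⟩
    have hm' : y ^ 3 ^ m = 1 := congrArg Subtype.val hm
    have hk' : y * z * y⁻¹ = z ^ k := hk.symm
    have it : ∀ n : ℕ, y ^ n * z * (y ^ n)⁻¹ = z ^ (k ^ n) := by
      intro n
      induction n with
      | zero => simp
      | succ n ih =>
        calc y ^ (n + 1) * z * (y ^ (n + 1))⁻¹ = y * (y ^ n * z * (y ^ n)⁻¹) * y⁻¹ := by
              rw [pow_succ', mul_inv_rev]; simp only [mul_assoc]
          _ = (y * z * y⁻¹) ^ (k ^ n) := by rw [ih, conj_pow]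
          _ = _ := by rw [hk', ← pow_mul, pow_succ']
    have h0 := it (3 ^ m)
    rw [hm', one_mul, inv_one, mul_one] at h0
    have h1 : z ^ 1 = z ^ (k ^ 3 ^ m) := by rw [pow_one]; exact h0
    rw [pow_eq_pow_iff_modEq, ho, ← ZMod.natCast_eq_natCast_iff, Nat.cast_pow, ZMod.pow_card_pow, Nat.cast_one] at h1
    have : y * z * y⁻¹ = z := by
      conv_rhs => rw [← pow_one z]
      rw [hk', pow_eq_pow_iff_modEq, ho, ← ZMod.natCast_eq_natCast_iff, Nat.cast_one]
      exact h1.symm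
    exact mul_inv_eq_iff_eq_mul.mp this
  have out : ∀ g : G, g * z * g⁻¹ ∉ Subgroup.zpowers z → ∀ k : ZMod 3, g * z * g⁻¹ ≠ z ^ k.val :=
    fun g hg k e => hg (e ▸ pow_mem (Subgroup.mem_zpowers z) _)
  set A := Subgroup.normalizer (Subgroup.zpowers z : Set G) ⊓ (S : Subgroup G) with hA
  have hAz : ∀ y ∈ A, Commute y z := fun y hy =>
    norm_comm y hy.2 ((Subgroup.mem_normalizer_iff.mp hy.1 z).mp (Subgroup.mem_zpowers z))
  by_cases hAS : (S : Subgroup G) ≤ A
  · obtain ⟨g, hgS, hgZ⟩ := hwc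
    exact ⟨g, hAz _ (hAS hgS), out g hgZ⟩
  · have hlt : A.subgroupOf (S : Subgroup G) < ⊤ := lt_top_iff_ne_top.mpr fun e =>
      hAS (Subgroup.subgroupOf_eq_top.mp e)
    haveI := S.2.isNilpotent
    obtain ⟨⟨y, hy⟩, hyn, hyA⟩ := SetLike.exists_of_lt (Group.normalizerCondition_of_isNilpotent _ hlt)
    have zA : z ∈ A := ⟨Subgroup.le_normalizer (Subgroup.mem_zpowers z), hzS⟩
    have yzA : y * z * y⁻¹ ∈ A := (Subgroup.mem_normalizer_iff.mp hyn ⟨z, hzS⟩).mp zA
    refine ⟨y, hAz _ yzA, out y fun hin => hyA ⟨?_, hy⟩⟩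
    exact Subgroup.centralizer_le_normalizer _ (Subgroup.mem_centralizer_iff.mpr fun x hx => by
      obtain ⟨n, rfl⟩ := hx
      exact ((norm_comm y hy hin).zpow_right n).eq.symm)

theorem exists_setting {G : Type u} [Group G] [Finite G] (S : Sylow 3 G) (Z : Subgroup G)
    (hZS : Z ≤ (S : Subgroup G)) (hZ : Nat.card ↥Z = 3)
    {M : Subgroup G} (hM : M = Subgroup.centralizer (Z : Set G))
    (Qm : Subgroup ↥M) [Qm.Normal]
    (hQF : Qm = Cfsg.generalizedFittingSubgroup ↥M)
    (hQ : Cfsg.IsExtraspecial 3 ↥Qm) (hQcard : Nat.card ↥Qm = 3 ^ 9) (hexp : ∀ x ∈ Qm, x ^ 3 = 1)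
    (R : Subgroup (↥M ⧸ Qm)) [R.Normal]
    (hFR : Cfsg.generalizedFittingSubgroup (↥M ⧸ Qm) = R)
    (hR : Cfsg.IsExtraspecial 2 ↥R) (hRcard : Nat.card ↥R = 2 ^ 7)
    {F : Type} [Field F] [Fintype F] (x : Cfsg.PSp 2 F) (hF : Fintype.card F = 3) (hx : orderOf x = 3)
    (hP : ∃ P : Sylow 3 (Cfsg.PSp 2 F), (P : Subgroup (Cfsg.PSp 2 F)) ≤ Subgroup.centralizer ({x} : Set (Cfsg.PSp 2 F)))
    (iso : ((↥M ⧸ Qm) ⧸ R) ≃* ↥(Subgroup.centralizer ({x} : Set (Cfsg.PSp 2 F))))
    (hwc : ∃ g : G, (Z.map (MulAut.conj g).toMonoidHom) ≤ (S : Subgroup G) ∧ Z.map (MulAut.conj g).toMonoidHom ≠ Z) :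
    Nonempty (Setting G) := by
  classical
  haveI : Fact (Nat.Prime 3) := ⟨Nat.prime_three⟩
  haveI : Nontrivial Z := Finite.one_lt_card_iff_nontrivial.mp (by rw [hZ]; norm_num)
  obtain ⟨⟨z, hzZ⟩, hz⟩ := exists_ne (1 : Z)
  have z1 : z ≠ 1 := fun e => hz (Subtype.ext e)
  have z3 : z ^ 3 = 1 := by
    have : (⟨z, hzZ⟩ : Z) ^ Nat.card Z = 1 := pow_card_eq_one'
    rw [hZ] at this
    exact congrArg Subtype.val this
  have hZz : Z = Subgroup.zpowers z := (Subgroup.eq_of_le_of_card_ge (Subgroup.zpowers_le.mpr hzZ)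
    (by rw [hZ, Nat.card_zpowers, orderOf_eq_prime z3 z1])).symm
  have hMz : ∀ {g : G}, g ∈ M ↔ Commute g z := fun {g} => by
    rw [hM, hZz]
    refine ⟨fun h => (Subgroup.mem_centralizer_iff.mp h z (Subgroup.mem_zpowers z)).symm, fun h =>
      Subgroup.mem_centralizer_iff.mpr ?_⟩
    rintro _ ⟨n, rfl⟩
    exact (h.zpow_right n).eq.symm
  let zM : M := ⟨z, hMz.mpr (Commute.refl z)⟩
  have cenQ : ∀ {y : M}, (∀ q ∈ Qm, Commute y q) → y ∈ Qm ∧ ∃ k : ℕ, (y : G) = z ^ k := by
    have zQ : zM ∈ Qm := by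
      rw [hQF]
      exact CfsgLib.centralizer_generalizedFitting_le (Subgroup.mem_centralizer_iff.mpr fun q _ =>
        Subtype.ext (hMz.mp q.2).eq)
    intro y hy
    have hyQ : y ∈ Qm := by
      rw [hQF]
      exact CfsgLib.centralizer_generalizedFitting_le (Subgroup.mem_centralizer_iff.mpr fun q hq =>
        (hy q (by rw [hQF]; exact hq)).eq.symm)
    refine ⟨hyQ, ?_⟩
    let zq : Qm := ⟨zM, zQ⟩
    have hzc : zq ∈ Subgroup.center Qm := Subgroup.mem_center_iff.mpr fun q =>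
      Subtype.ext (Subtype.ext (hMz.mp (q : M).2).eq)
    have zq3 : zq ^ 3 = 1 := Subtype.ext (Subtype.ext z3)
    have hgen : Subgroup.zpowers zq = Subgroup.center Qm :=
      Subgroup.eq_of_le_of_card_ge (Subgroup.zpowers_le.mpr hzc) (by
        rw [hQ.2, Nat.card_zpowers, orderOf_eq_prime zq3 fun e => z1 (congrArg (fun w : Qm => ((w : M) : G)) e)])
    have hyc : (⟨y, hyQ⟩ : Qm) ∈ Subgroup.center Qm := Subgroup.mem_center_iff.mpr fun q =>
      Subtype.ext (hy q q.2).eq.symm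
    rw [← hgen] at hyc
    obtain ⟨n, hn⟩ := mem_powers_iff_mem_zpowers.mpr hyc
    exact ⟨n, (congrArg (fun w : Qm => ((w : M) : G)) hn).symm⟩
  have toZ : ∀ {y : G} {n : ℕ}, y = z ^ n → ∃ k : ZMod 3, y = z ^ k.val := fun {y n} e =>
    ⟨n, by rw [e, ZMod.val_natCast, ← pow_eq_pow_mod _ z3]⟩
  let P : Pre G :=
    { z := z
      Q := Qm.map M.subtype
      z_cube := z3
      z_ne := z1
      z_Q := ⟨zM, (cenQ (y := zM) fun q _ => Subtype.ext (hMz.mp q.2).eq.symm).1, rfl⟩
      Q_z := by rintro _ ⟨y, -, rfl⟩; exact hMz.mp y.2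
      card_Q := by rw [Subgroup.card_map_of_injective M.subtype_injective, hQcard]; norm_num
      Q_exp := by rintro _ ⟨y, hy, rfl⟩; exact congrArg Subtype.val (hexp y hy)
      Q_comm := by
        rintro _ ⟨x, hx, rfl⟩ _ ⟨y, hy, rfl⟩
        have h1 : (⟨x, hx⟩ : Qm) * ⟨y, hy⟩ * (⟨x, hx⟩ : Qm)⁻¹ * (⟨y, hy⟩ : Qm)⁻¹ ∈ Subgroup.center Qm := by
          rw [← hQ.1.2.2, commutator_def]
          exact Subgroup.commutator_mem_commutator (Subgroup.mem_top _) (Subgroup.mem_top _)
        obtain ⟨-, n, hn⟩ := cenQ (y := x * y * x⁻¹ * y⁻¹) fun q hq =>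
          (congrArg Subtype.val (Subgroup.mem_center_iff.mp h1 ⟨q, hq⟩)).symm
        exact toZ (n := n) (by simpa using hn)
      self := fun w hw => by
        have hwz : Commute w z := hw z ⟨zM, (cenQ (y := zM) fun q _ => Subtype.ext (hMz.mp q.2).eq.symm).1, rfl⟩
        obtain ⟨-, n, hn⟩ := cenQ (y := ⟨w, hMz.mpr hwz⟩) fun q hq => Subtype.ext (hw _ ⟨q, hq, rfl⟩).eq
        exact toZ hn
      conj_Q := by
        rintro h hh _ ⟨y, hy, rfl⟩
        exact ⟨_, (inferInstance : Qm.Normal).conj_mem y hy ⟨h, hMz.mpr hh⟩, rfl⟩ }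
  set π := QuotientGroup.mk' Qm with hπ
  have hπs : Function.Surjective π := QuotientGroup.mk'_surjective _
  have inQ : ∀ {y : M}, π y = 1 → (y : G) ∈ P.Q := fun {y} h => ⟨y, (QuotientGroup.eq_one_iff y).mp h, rfl⟩
  have hcent : Subgroup.centralizer (R : Set (M ⧸ Qm)) ≤ R := by
    rw [← hFR]; exact CfsgLib.centralizer_generalizedFitting_le
  have hidx : R.index = 648 := (Nat.card_congr iso.toEquiv).trans (card_cent_three hF x hx hP)
  set xc : ↥(Subgroup.centralizer ({x} : Set (Cfsg.PSp 2 F))) := ⟨x, Subgroup.mem_centralizer_singleton_iff.mpr rfl⟩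
  obtain ⟨cK, hcK⟩ := QuotientGroup.mk'_surjective R (iso.symm xc)
  have hc : cK ∉ R := fun h => by
    have e : iso.symm xc = 1 := hcK.symm.trans ((QuotientGroup.eq_one_iff cK).mpr h)
    rw [MulEquiv.map_eq_one_iff] at e
    rw [show x = 1 from congrArg Subtype.val e, orderOf_one] at hx
    omega
  have hc3 : cK ^ 3 ∈ R := by
    refine (QuotientGroup.eq_one_iff (N := R) _).mp ?_
    rw [QuotientGroup.mk_pow, show (QuotientGroup.mk cK : (M ⧸ Qm) ⧸ R) = iso.symm xc from hcK, ← map_pow,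
      show xc ^ 3 = 1 from Subtype.ext (orderOf_dvd_iff_pow_eq_one.mp (dvd_of_eq hx)), map_one]
  have hcc : ∀ k : M ⧸ Qm, k * cK * k⁻¹ * cK⁻¹ ∈ R := fun k => by
    refine (QuotientGroup.eq_one_iff (N := R) _).mp ?_
    show QuotientGroup.mk' R (k * cK * k⁻¹ * cK⁻¹) = 1
    refine iso.injective ?_
    simp only [map_mul, map_inv, hcK, map_one, MulEquiv.apply_symm_apply]
    have : Commute (iso (QuotientGroup.mk' R k)) xc :=
      Subtype.ext (Subgroup.mem_centralizer_singleton_iff.mp (iso (QuotientGroup.mk' R k)).2)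
    rw [this.eq, mul_inv_cancel_right, mul_inv_cancel]
  obtain ⟨e, a, b, heR, he1, hee, hec, hab, haa, hbb, hba, hx', hcab, hgen⟩ :=
    exists_frame R hR hRcard hcent hidx cK hc hc3 hcc
  obtain ⟨xe, hxe⟩ := hπs e
  choose la hla using fun i => hπs (a i)
  choose lb hlb using fun i => hπs (b i)
  obtain ⟨lc, hlc⟩ := hπs cK
  have hxe2 : (xe : G) ^ 2 ∈ P.Q := by
    have := inQ (y := xe ^ 2) (by rw [map_pow, hxe, pow_two, hee])
    simpa using this
  have je : π (xe ^ 3) = e := by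
    rw [map_pow, hxe, pow_succ, pow_two, hee, one_mul]
  set RG : Subgroup G := (R.comap π).map M.subtype with hRG
  have hRGin : ∀ {y : M}, π y ∈ R → (y : G) ∈ RG := fun {y} h => ⟨y, h, rfl⟩
  have hgenG : RG ≤ Subgroup.closure (Set.range (fun i => (la i : G)) ∪ Set.range (fun i => (lb i : G)) ∪ P.Q) := by
    set Hm := (Subgroup.closure (Set.range (fun i => (la i : G)) ∪ Set.range (fun i => (lb i : G)) ∪ P.Q)).comap
      M.subtype with hHm
    have hQH : Qm ≤ Hm := fun y hy => Subgroup.subset_closure (Or.inr ⟨y, hy, rfl⟩)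
    have hRH : R ≤ Hm.map π := hgen.trans ((Subgroup.closure_le _).mpr (by
      rintro _ (⟨i, rfl⟩ | ⟨i, rfl⟩)
      · exact ⟨la i, Subgroup.subset_closure (Or.inl (Or.inl ⟨i, rfl⟩)), hla i⟩
      · exact ⟨lb i, Subgroup.subset_closure (Or.inl (Or.inr ⟨i, rfl⟩)), hlb i⟩))
    rintro _ ⟨y, hy, rfl⟩
    have : y ∈ (Hm.map π).comap π := hRH hy
    rw [Subgroup.comap_map_eq_self (by rw [hπ, QuotientGroup.ker_mk']; exact hQH)] at this
    exact this
  let L : Lift P :=
    { j := ((xe : G) ^ 3)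
      a := fun i => la i
      b := fun i => lb i
      c := lc
      R := RG
      jz := (hMz.mp xe.2).pow_left _
      jj := by
        rw [← pow_add, show 3 + 3 = 2 * 3 by rfl, pow_mul]
        exact P.Q_exp _ hxe2
      jn := fun ⟨y, hy, ey⟩ => he1 (by
        rw [← je, show xe ^ 3 = y from Subtype.ext (by simpa using ey.symm)]
        exact (QuotientGroup.eq_one_iff y).mpr hy)
      az := fun i => hMz.mp (la i).2
      bz := fun i => hMz.mp (lb i).2
      cz := hMz.mp lc.2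
      j_cent := fun h hh => by
        have := inQ (y := ⟨h, hMz.mpr hh⟩ * xe ^ 3 * ⟨h, hMz.mpr hh⟩⁻¹ * (xe ^ 3)⁻¹) (by
          rw [map_mul, map_mul, map_mul, map_inv, map_inv, je, (hec _).eq, mul_inv_cancel_right, mul_inv_cancel])
        simpa using this
      aa := fun i => by
        have := inQ (y := la i * la i * (xe ^ 3)⁻¹) (by rw [map_mul, map_mul, map_inv, je, hla, haa, mul_inv_cancel])
        simpa using this
      bb := fun i => by
        have := inQ (y := lb i * lb i * (xe ^ 3)⁻¹) (by rw [map_mul, map_mul, map_inv, je, hlb, hbb, mul_inv_cancel])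
        simpa using this
      ba := fun i => by
        have := inQ (y := lb i * la i * (xe ^ 3 * (la i * lb i))⁻¹) (by
          rw [map_mul, map_mul, map_inv, map_mul, map_mul, je, hla, hlb, hba, mul_inv_cancel])
        simpa using this
      cross := fun i k h => by
        obtain ⟨h1, h2, h3⟩ := hx' i k h
        refine ⟨?_, ?_, ?_⟩
        · have := inQ (y := la i * la k * (la k * la i)⁻¹) (by
            rw [map_mul, map_inv, map_mul, map_mul, hla, hla, h1.eq, mul_inv_cancel])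
          simpa using this
        · have := inQ (y := la i * lb k * (lb k * la i)⁻¹) (by
            rw [map_mul, map_inv, map_mul, map_mul, hla, hlb, h2.eq, mul_inv_cancel])
          simpa using this
        · have := inQ (y := lb i * lb k * (lb k * lb i)⁻¹) (by
            rw [map_mul, map_inv, map_mul, map_mul, hlb, hlb, h3.eq, mul_inv_cancel])
          simpa using this
      ca := fun i => by
        have := inQ (y := lc * la i * lc⁻¹ * (lb i)⁻¹) (by
          rw [map_mul, map_inv, map_mul, map_mul, map_inv, hlc, hla, hlb, (hcab i).1, mul_inv_cancel])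
        simpa using this
      cb := fun i => by
        rcases (hcab i).2 with h | h
        · left
          have := inQ (y := lc * lb i * lc⁻¹ * (la i * lb i)⁻¹) (by
            rw [map_mul, map_inv, map_mul, map_mul, map_mul, map_inv, hlc, hla, hlb, h, mul_inv_cancel])
          simpa using this
        · right
          have := inQ (y := lc * lb i * lc⁻¹ * (xe ^ 3 * (la i * lb i))⁻¹) (by
            rw [map_mul, map_inv, map_mul, map_mul, map_mul, map_mul, map_inv, je, hlc, hla, hlb, h, mul_inv_cancel])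
          simpa using this
      a_R := fun i => hRGin (by rw [hla]; exact (hab i).1)
      b_R := fun i => hRGin (by rw [hlb]; exact (hab i).2)
      R_z := by rintro _ ⟨y, -, rfl⟩; exact hMz.mp y.2
      R_conj := by
        rintro h hh _ ⟨y, hy, rfl⟩
        refine ⟨⟨h, hMz.mpr hh⟩ * y * ⟨h, hMz.mpr hh⟩⁻¹, ?_, rfl⟩
        show π _ ∈ R
        rw [map_mul, map_mul, map_inv]
        exact (inferInstance : R.Normal).conj_mem _ hy _
      R_gen := hgenG
      R_comm := fun h hh => by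
        have := hRGin (y := ⟨h, hMz.mpr hh⟩ * lc * ⟨h, hMz.mpr hh⟩⁻¹ * lc⁻¹) (by
          rw [map_mul, map_mul, map_mul, map_inv, map_inv, hlc]; exact hcc _)
        simpa using this
      card_CC := by
        have e1 : Subgroup.centralizer ({z} : Set G) = M := Subgroup.ext fun g => by
          rw [hMz]; exact Subgroup.mem_centralizer_singleton_iff
        show Nat.card (Subgroup.centralizer ({z} : Set G)) = _
        rw [e1, Subgroup.card_eq_card_quotient_mul_card_subgroup Qm, hQcard, ← R.card_mul_index, hRcard, hidx]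
        norm_num }
  obtain ⟨C⟩ := Lift.exists_coo L
  refine ⟨C.toSetting (not_closed z z3 z1 S (hZS hzZ) ?_)⟩
  obtain ⟨g, hg, hne⟩ := hwc
  rw [hZz, MonoidHom.map_zpowers] at hg hne
  refine ⟨g, hg (Subgroup.mem_zpowers _), fun hin => hne ?_⟩
  refine Subgroup.eq_of_le_of_card_ge (Subgroup.zpowers_le.mpr hin) (le_of_eq ?_)
  rw [Nat.card_zpowers, Nat.card_zpowers]
  exact ((MulAut.conj g).orderOf_eq z).symm

end CfsgLib.Fi23Loc
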