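import Cfsg.Agent.Lib.Fi22Loc.Model
import Mathlib.Data.Fintype.Pi

/-!
The tensor cube of a plane over three elements: the form, the monomial maps, and the normaliser of the product of
three quaternion groups centralising a diagonal element modulo them.
-/

set_option autoImplicit false

namespace CfsgLib.Fi23Loc

open CfsgLib.U6Three (SL23 V2)
open CfsgLib.Fi22Loc (Bk dg ψ cv)

/-- An index of the tensor cube. -/
abbrev Idx := Fin 3 → Fin 2

/-- The tensor cube. -/
abbrev W8 := Idx → ZMod 3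

/-- A matrix on one factor. -/
def act1 (i : Fin 3) (g : SL23) (v : W8) : W8 := fun a =>
  g.1 (a i) 0 * v (Function.update a i 0) + g.1 (a i) 1 * v (Function.update a i 1)

/-- A permutation of the factors. -/
def permW (π : Equiv.Perm (Fin 3)) (v : W8) : W8 := fun a => v (a ∘ π)

/-- A diagonal map. -/
def dW (g : Fin 3 → SL23) (v : W8) : W8 := act1 0 (g 0) (act1 1 (g 1) (act1 2 (g 2) v))

/-- A monomial map. -/
def T (b : Bk) (v : W8) : W8 := dW b.g (permW b.π v)

theorem act1_mul (i : Fin 3) (g h : SL23) (v : W8) : act1 i (g * h) v = act1 i g (act1 i h v) := funext fun a => by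
  simp only [act1, Function.update_self, Function.update_idem, Matrix.SpecialLinearGroup.coe_mul, Matrix.mul_apply,
    Fin.sum_univ_two]
  ring

theorem act1_one (i : Fin 3) (v : W8) : act1 i 1 v = v := funext fun a => by
  have hu : ∀ x, a i = x → Function.update a i x = a := fun x e => e ▸ Function.update_eq_self i a
  rcases (by decide : ∀ x : Fin 2, x = 0 ∨ x = 1) (a i) with h | h <;>
    simp [act1, h, hu _ h]

theorem act1_comm {i k : Fin 3} (h : i ≠ k) (g g' : SL23) (v : W8) :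
    act1 i g (act1 k g' v) = act1 k g' (act1 i g v) := funext fun a => by
  simp only [act1, Function.update_of_ne h.symm, Function.update_of_ne h, Function.update_comm h]
  ring

theorem act1_add (i : Fin 3) (g : SL23) (v w : W8) : act1 i g (v + w) = act1 i g v + act1 i g w := funext fun a => by
  simp only [act1, Pi.add_apply]; ring

theorem permW_mul (π ρ : Equiv.Perm (Fin 3)) (v : W8) : permW (π * ρ) v = permW π (permW ρ v) := rfl

theorem permW_one (v : W8) : permW 1 v = v := rfl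

theorem permW_act (π : Equiv.Perm (Fin 3)) (i : Fin 3) (g : SL23) (v : W8) :
    permW π (act1 i g v) = act1 (π i) g (permW π v) := funext fun a => by
  have e : ∀ x, Function.update (a ∘ π) i x = Function.update a (π i) x ∘ π := fun x => by
    rw [Function.update_comp_eq_of_injective _ π.injective]
  simp only [permW, act1, e]
  rfl

theorem permW_add (π : Equiv.Perm (Fin 3)) (v w : W8) : permW π (v + w) = permW π v + permW π w := rfl

theorem dW_add (g : Fin 3 → SL23) (v w : W8) : dW g (v + w) = dW g v + dW g w := by simp only [dW, act1_add]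

theorem dW_mul (g h : Fin 3 → SL23) (v : W8) : dW (g * h) v = dW g (dW h v) := by
  simp only [dW, Pi.mul_apply, act1_mul]
  rw [act1_comm (by decide : (2 : Fin 3) ≠ 0), act1_comm (by decide : (1 : Fin 3) ≠ 0),
    act1_comm (by decide : (2 : Fin 3) ≠ 1)]

theorem permW_dW : ∀ (π : Equiv.Perm (Fin 3)) (g : Fin 3 → SL23) (v : W8),
    permW π (dW g v) = dW (fun i => g (π.symm i)) (permW π v) := by
  intro π g v
  have key : ∀ σ : Equiv.Perm (Fin 3), σ = 1 ∨ σ = Equiv.swap 0 1 ∨ σ = Equiv.swap 0 2 ∨ σ = Equiv.swap 1 2 ∨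
      σ = Equiv.swap 0 1 * Equiv.swap 1 2 ∨ σ = Equiv.swap 1 2 * Equiv.swap 0 1 := by decide +kernel
  have c01 := fun a b (x : W8) => act1_comm (by decide : (0 : Fin 3) ≠ 1) a b x
  have c02 := fun a b (x : W8) => act1_comm (by decide : (0 : Fin 3) ≠ 2) a b x
  have c12 := fun a b (x : W8) => act1_comm (by decide : (1 : Fin 3) ≠ 2) a b x
  simp only [dW, permW_act]
  rcases key π with r | r | r | r | r | r <;> subst r <;>
    simp [Equiv.swap_apply_def, Equiv.Perm.mul_def, Equiv.Perm.one_def, c01, c02, c12]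

theorem T_one (v : W8) : T 1 v = v := by
  simp [T, dW, Fi22Loc.one_π, Fi22Loc.one_g, act1_one, permW_one]

theorem T_mul (a b : Bk) (v : W8) : T (a * b) v = T a (T b v) := by
  show dW (a * b).g (permW (a * b).π v) = dW a.g (permW a.π (dW b.g (permW b.π v)))
  rw [permW_dW, ← permW_mul, ← dW_mul]
  rfl

theorem T_add (b : Bk) (v w : W8) : T b (v + w) = T b v + T b w := by
  simp only [T, permW_add, dW_add]

/-- The monomial maps as permutations. -/
def Te : Bk →* Equiv.Perm W8 where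
  toFun b := ⟨T b, T b⁻¹, fun v => by rw [← T_mul, inv_mul_cancel, T_one],
    fun v => by rw [← T_mul, mul_inv_cancel, T_one]⟩
  map_one' := Equiv.ext T_one
  map_mul' a b := Equiv.ext (T_mul a b)

theorem Te_apply (b : Bk) (v : W8) : Te b v = T b v := rfl

/-- An index. -/
def ix (x y z : Fin 2) : Idx := ![x, y, z]

/-- The form. -/
def Om (v w : W8) : ZMod 3 :=
  v (ix 0 0 0) * w (ix 1 1 1) - v (ix 0 0 1) * w (ix 1 1 0) - v (ix 0 1 0) * w (ix 1 0 1) +
    v (ix 0 1 1) * w (ix 1 0 0) - v (ix 1 0 0) * w (ix 0 1 1) + v (ix 1 0 1) * w (ix 0 1 0) +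
    v (ix 1 1 0) * w (ix 0 0 1) - v (ix 1 1 1) * w (ix 0 0 0)

theorem upd_ix0 (x y z t : Fin 2) : Function.update (ix x y z) 0 t = ix t y z := by
  funext i; fin_cases i <;> simp [ix]

theorem upd_ix1 (x y z t : Fin 2) : Function.update (ix x y z) 1 t = ix x t z := by
  funext i; fin_cases i <;> simp [ix]

theorem upd_ix2 (x y z t : Fin 2) : Function.update (ix x y z) 2 t = ix x y t := by
  funext i; fin_cases i <;> simp [ix]

theorem det_eq (g : SL23) : g.1 0 0 * g.1 1 1 - g.1 0 1 * g.1 1 0 = 1 := by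
  have := g.2
  rwa [Matrix.det_fin_two] at this

theorem ix0 (x y z : Fin 2) : ix x y z 0 = x := rfl
theorem ix1 (x y z : Fin 2) : ix x y z 1 = y := rfl
theorem ix2 (x y z : Fin 2) : ix x y z 2 = z := rfl

theorem Om_act (i : Fin 3) (g : SL23) (v w : W8) : Om (act1 i g v) (act1 i g w) = Om v w := by
  have d := det_eq g
  fin_cases i <;> simp only [Om, act1, Fin.isValue, Fin.zero_eta, Fin.mk_one, Fin.reduceFinMk, ix0, ix1, ix2,
    upd_ix0, upd_ix1, upd_ix2] <;> linear_combination (norm := (simp only [Om, Fin.isValue]; ring1)) (Om v w) * d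

theorem Om_perm : ∀ (π : Equiv.Perm (Fin 3)) (v w : W8), Om (permW π v) (permW π w) = Om v w := by
  intro π v w
  have key : ∀ σ : Equiv.Perm (Fin 3), ∀ x y z : Fin 2, ix x y z ∘ σ =
      ix (ix x y z (σ 0)) (ix x y z (σ 1)) (ix x y z (σ 2)) := fun σ x y z => by
    funext i; fin_cases i <;> rfl
  have k6 : ∀ σ : Equiv.Perm (Fin 3), σ = 1 ∨ σ = Equiv.swap 0 1 ∨ σ = Equiv.swap 0 2 ∨ σ = Equiv.swap 1 2 ∨
      σ = Equiv.swap 0 1 * Equiv.swap 1 2 ∨ σ = Equiv.swap 1 2 * Equiv.swap 0 1 := by decide +kernel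
  simp only [Om, permW, key]
  rcases k6 π with r | r | r | r | r | r <;> subst r <;>
    simp [Equiv.swap_apply_def, Equiv.Perm.mul_def, ix0, ix1, ix2] <;> ring

theorem Om_T (b : Bk) (v w : W8) : Om (T b v) (T b w) = Om v w := by
  simp only [T, dW, Om_act, Om_perm]

theorem Om_add_left (u v w : W8) : Om (u + v) w = Om u w + Om v w := by
  simp only [Om, Pi.add_apply]; ring

theorem Om_add_right (u v w : W8) : Om u (v + w) = Om u v + Om u w := by
  simp only [Om, Pi.add_apply]; ring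

theorem Om_neg_left (u w : W8) : Om (-u) w = -Om u w := by simp only [Om, Pi.neg_apply]; ring

theorem Om_neg_right (u w : W8) : Om u (-w) = -Om u w := by simp only [Om, Pi.neg_apply]; ring

theorem Om_zero_left (w : W8) : Om 0 w = 0 := by simp [Om]

theorem Om_zero_right (w : W8) : Om w 0 = 0 := by simp [Om]

theorem Om_swap (u v : W8) : Om v u = -Om u v := by simp only [Om]; ring

theorem Om_self (u : W8) : Om u u = 0 := by simp only [Om]; ring

/-- A quaternion generator. -/
def qA : SL23 := ⟨!![0, -1; 1, 0], by decide⟩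

/-- The other generator. -/
def qB : SL23 := ⟨!![1, 1; 1, -1], by decide⟩

/-- The generators of the product of the quaternion groups. -/
def rA (i : Fin 3) : Fin 3 → SL23 := Pi.mulSingle i qA

/-- The second generators. -/
def rB (i : Fin 3) : Fin 3 → SL23 := Pi.mulSingle i qB

/-- The diagonal element of order three. -/
def uU : Fin 3 → SL23 := fun _ => CfsgLib.U6Three.mU

/-- In the product of the quaternion groups. -/
def Qt (q : Fin 3 → SL23) : Prop := ∀ i, ψ (q i) = 0

theorem Qt.mul {q q' : Fin 3 → SL23} (h : Qt q) (h' : Qt q') : Qt (q * q') := fun i => by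
  rw [Pi.mul_apply, Fi22Loc.ψ_mul, h i, h' i, add_zero]

theorem ψ_inv' : ∀ g : SL23, ψ g⁻¹ = -ψ g := by decide +kernel

theorem Qt.inv {q : Fin 3 → SL23} (h : Qt q) : Qt q⁻¹ := fun i => by rw [Pi.inv_apply, ψ_inv', h i, neg_zero]

theorem qt_one : Qt 1 := fun _ => Fi22Loc.ψ_one

theorem qt_rA : ∀ i, Qt (rA i) := by unfold Qt; decide +kernel

theorem qt_rB : ∀ i, Qt (rB i) := by unfold Qt; decide +kernel

/-- Carried into the product of the quaternion groups. -/
def Carries (f : Equiv.Perm W8) (q : Fin 3 → SL23) : Prop :=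
  ∃ q', Qt q' ∧ ∀ v, f (T (dg q) v) = T (dg q') (f v)

theorem Carries.mul {f : Equiv.Perm W8} {q r : Fin 3 → SL23} (h : Carries f q) (h' : Carries f r) :
    Carries f (q * r) := by
  obtain ⟨q', hq, e⟩ := h
  obtain ⟨r', hr, e'⟩ := h'
  exact ⟨q' * r', hq.mul hr, fun v => by rw [← Fi22Loc.dg_mul, T_mul, e, e', ← T_mul, Fi22Loc.dg_mul]⟩

theorem carries_one (f : Equiv.Perm W8) : Carries f 1 :=
  ⟨1, qt_one, fun v => by rw [Fi22Loc.dg_one, T_one, T_one]⟩

theorem q8_word : ∀ g : SL23, ψ g = 0 → ∃ a b : Fin 4, g = qA ^ (a : ℕ) * qB ^ (b : ℕ) := by decide +kernel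

theorem qt_split (q : Fin 3 → SL23) : q = Pi.mulSingle 0 (q 0) * Pi.mulSingle 1 (q 1) * Pi.mulSingle 2 (q 2) := by
  funext i; fin_cases i <;> simp [Pi.mulSingle]

theorem carries_all {f : Equiv.Perm W8} (hA : ∀ i, Carries f (rA i)) (hB : ∀ i, Carries f (rB i))
    {q : Fin 3 → SL23} (h : Qt q) : Carries f q := by
  have hp : ∀ {r : Fin 3 → SL23}, Carries f r → ∀ n : ℕ, Carries f (r ^ n) := fun {r} hr n => by
    induction n with
    | zero => rw [pow_zero]; exact carries_one f
    | succ n ih => rw [pow_succ]; exact ih.mul hr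
  have hs : ∀ i, Carries f (Pi.mulSingle i (q i)) := fun i => by
    obtain ⟨a, b, e⟩ := q8_word _ (h i)
    rw [e, Pi.mulSingle_mul, Pi.mulSingle_pow, Pi.mulSingle_pow]
    exact (hp (hA i) a).mul (hp (hB i) b)
  rw [qt_split q]
  exact ((hs 0).mul (hs 1)).mul (hs 2)

/-- The group of the model. -/
structure InN (f : Equiv.Perm W8) : Prop where
  add : ∀ v w, f (v + w) = f v + f w
  iso : ∀ v w, Om (f v) (f w) = Om v w
  nA : ∀ i, Carries f (rA i)
  nB : ∀ i, Carries f (rB i)
  cU : ∃ q, Qt q ∧ ∀ v, f (T (dg uU) v) = T (dg q) (T (dg uU) (f v))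

theorem InN.one : InN 1 where
  add _ _ := rfl
  iso _ _ := rfl
  nA i := ⟨rA i, qt_rA i, fun _ => rfl⟩
  nB i := ⟨rB i, qt_rB i, fun _ => rfl⟩
  cU := ⟨1, qt_one, fun v => by rw [Fi22Loc.dg_one, T_one]; rfl⟩

theorem InN.carries {f : Equiv.Perm W8} (h : InN f) {q : Fin 3 → SL23} (hq : Qt q) : Carries f q :=
  carries_all h.nA h.nB hq

theorem InN.mul {f g : Equiv.Perm W8} (h : InN f) (h' : InN g) : InN (f * g) where
  add v w := by simp only [Equiv.Perm.mul_apply, h'.add, h.add]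
  iso v w := by simp only [Equiv.Perm.mul_apply, h.iso, h'.iso]
  nA i := by
    obtain ⟨q, hq, e⟩ := h'.nA i
    obtain ⟨q', hq', e'⟩ := h.carries hq
    exact ⟨q', hq', fun v => by simp only [Equiv.Perm.mul_apply, e, e']⟩
  nB i := by
    obtain ⟨q, hq, e⟩ := h'.nB i
    obtain ⟨q', hq', e'⟩ := h.carries hq
    exact ⟨q', hq', fun v => by simp only [Equiv.Perm.mul_apply, e, e']⟩
  cU := by
    obtain ⟨q, hq, e⟩ := h'.cU
    obtain ⟨q', hq', e'⟩ := h.carries hq
    obtain ⟨r, hr, er⟩ := h.cU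
    exact ⟨q' * r, hq'.mul hr, fun v => by
      rw [Equiv.Perm.mul_apply, Equiv.Perm.mul_apply, e, e', er, ← Fi22Loc.dg_mul q' r, T_mul]⟩

theorem inN_inv {f : Equiv.Perm W8} (h : InN f) : InN f⁻¹ := by
  have hp : ∀ n : ℕ, InN (f ^ n) := fun n => by
    induction n with
    | zero => rw [pow_zero]; exact InN.one
    | succ n ih => rw [pow_succ]; exact ih.mul h
  have he : f⁻¹ = f ^ (orderOf f - 1) := by
    rw [inv_eq_iff_mul_eq_one, ← pow_succ', Nat.sub_add_cancel (orderOf_pos f), pow_orderOf_eq_one]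
  exact he ▸ hp _

/-- The model group. -/
def NN : Subgroup (Equiv.Perm W8) where
  carrier := {f | InN f}
  one_mem' := InN.one
  mul_mem' := InN.mul
  inv_mem' := inN_inv

theorem mem_NN {f : Equiv.Perm W8} : f ∈ NN ↔ InN f := Iff.rfl

theorem dg_conj (b : Bk) {q : Fin 3 → SL23} (hq : Qt q) : ∃ q', Qt q' ∧ b * dg q * b⁻¹ = dg q' := by
  refine ⟨(b * dg q * b⁻¹).g, fun i => ?_, Fi22Loc.eq_dg (by
    rw [Fi22Loc.mul_π, Fi22Loc.mul_π, Fi22Loc.dg_π, mul_one, Fi22Loc.inv_π, mul_inv_cancel])⟩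
  simp only [Fi22Loc.mul_g, Fi22Loc.mul_π, Fi22Loc.dg_π, mul_one, Fi22Loc.ψ_mul, Fi22Loc.dg_g, Fi22Loc.inv_g,
    hq _, ψ_inv', Equiv.apply_symm_apply, add_zero, add_neg_cancel]

theorem inN_T (b : Bk) : InN (Te b) where
  add := T_add b
  iso := Om_T b
  nA i := by
    obtain ⟨q, hq, e⟩ := dg_conj b (qt_rA i)
    exact ⟨q, hq, fun v => by rw [Te_apply, Te_apply, ← T_mul, ← T_mul, ← e, inv_mul_cancel_right]⟩
  nB i := by
    obtain ⟨q, hq, e⟩ := dg_conj b (qt_rB i)
    exact ⟨q, hq, fun v => by rw [Te_apply, Te_apply, ← T_mul, ← T_mul, ← e, inv_mul_cancel_right]⟩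
  cU := by
    refine ⟨(b * dg uU * b⁻¹ * (dg uU)⁻¹).g, fun i => ?_, fun v => ?_⟩
    · simp only [Fi22Loc.mul_g, Fi22Loc.mul_π, Fi22Loc.dg_π, mul_one, Fi22Loc.ψ_mul, Fi22Loc.dg_g, Fi22Loc.inv_g,
        ψ_inv', uU, Fi22Loc.inv_π, mul_inv_cancel, Equiv.Perm.one_symm, Equiv.Perm.one_apply, Equiv.apply_symm_apply]
      ring
    · rw [Te_apply, Te_apply, ← T_mul, ← T_mul, ← T_mul, ← Fi22Loc.eq_dg (by
        simp [Fi22Loc.mul_π, Fi22Loc.inv_π, Fi22Loc.dg_π]), inv_mul_cancel_right, inv_mul_cancel_right]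

end CfsgLib.Fi23Loc
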