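import Cfsg.Agent.Lib.Fi23Loc.Facts
import Cfsg.Agent.Lib.Fi23Loc.Planes

/-!
The witnesses read as statements.
-/

set_option autoImplicit false
set_option maxRecDepth 100000
set_option synthInstance.maxSize 1024

namespace CfsgLib.Fi23Loc

open CfsgLib.Fi22Loc (Bk dg)

theorem combL_mem (S : AddSubgroup W8) : ∀ (vs : List W8) (cs : List (ZMod 3)), (∀ v ∈ vs, v ∈ S) → combL vs cs ∈ S
  | [], _, _ => zero_mem S
  | _ :: _, [], _ => zero_mem S
  | v :: vs, c :: cs, h => by
    refine add_mem ?_ (combL_mem S vs cs fun w hw => h w (List.mem_cons_of_mem _ hw))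
    have hv := h v (List.mem_cons_self ..)
    rcases z_cases c with rfl | rfl | rfl
    exacts [zero_mem S, hv, neg_mem hv]

theorem combL_add : ∀ (vs : List W8) (n : ℕ) (c d : Fin n → ZMod 3),
    combL vs (List.ofFn (c + d)) = combL vs (List.ofFn c) + combL vs (List.ofFn d)
  | [], _, _, _ => by simp [combL]
  | v :: vs, 0, _, _ => by simp [combL]
  | v :: vs, n + 1, c, d => by
    simp only [List.ofFn_succ, combL, Pi.add_apply, rep8.sm_add]
    have := combL_add vs n (fun i => c i.succ) fun i => d i.succ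
    rw [show (fun i : Fin n => c i.succ + d i.succ) = (fun i => c i.succ) + fun i => d i.succ from rfl, this]
    abel

theorem coefs_mem : ∀ (n : ℕ) (c : Fin n → ZMod 3), List.ofFn c ∈ coefs n
  | 0, c => by simp [coefs]
  | n + 1, c => by
    rw [List.ofFn_succ]
    refine List.mem_flatMap.mpr ⟨_, coefs_mem n fun i => c i.succ, ?_⟩
    rcases (by decide : ∀ k : ZMod 3, k = 0 ∨ k = 1 ∨ k = 2) (c 0) with h | h | h <;> simp [h]

theorem combL_map_add : ∀ (xs : List (ℕ × ℕ)) (u v : W8),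
    combL (xs.map fun f => vn f.2) (xs.map fun f => Om (u + v) (vn f.1)) =
      combL (xs.map fun f => vn f.2) (xs.map fun f => Om u (vn f.1)) +
        combL (xs.map fun f => vn f.2) (xs.map fun f => Om v (vn f.1))
  | [], _, _ => by simp [combL]
  | x :: xs, u, v => by
    simp only [List.map_cons, combL, Om_add_left, rep8.sm_add]
    have h := combL_map_add xs u v
    simp only [Om_add_left] at h
    rw [h]; abel

theorem combL_zero : ∀ (vs : List W8) (cs : List (ZMod 3)), (∀ c ∈ cs, c = 0) → combL vs cs = 0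
  | [], _, _ => rfl
  | _ :: _, [], _ => rfl
  | v :: vs, c :: cs, h => by
    rw [combL, h c (List.mem_cons_self ..), Rep.sm_zero, zero_add,
      combL_zero vs cs fun x hx => h x (List.mem_cons_of_mem _ hx)]

/-- An element of order three of the monomial Sylow subgroup has its witnesses. -/
theorem wit_get {x : Fin 3 × Fin 3 × Fin 3 × Fin 3} (h3 : eqB (pel x * pel x * pel x) 1 = true)
    (h0 : x ≠ (0, 0, 0, 0)) : ∃ w ∈ witList, w.p = x ∧ chkL (pel x) (vn w.v1) (vn w.v2) = true ∧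
      chkS (pel x) w.S w.fs = true ∧ chkW x (pel x) w.ws = true := by
  obtain ⟨w, hw, e⟩ := List.any_eq_true.mp (wit_cover x h3 h0)
  obtain rfl : w.p = x := of_decide_eq_true e
  have h := List.all_eq_true.mp wit_ok w hw
  simp only [chkWit, Bool.and_eq_true] at h
  exact ⟨w, hw, rfl, h.1.1, h.1.2, h.2⟩

/-- Two vectors spanning fixed differences with vanishing form values. -/
theorem wit_L {x : Fin 3 × Fin 3 × Fin 3 × Fin 3} (h3 : eqB (pel x * pel x * pel x) 1 = true)
    (h0 : x ≠ (0, 0, 0, 0)) : ∃ v1 v2 : W8,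
      Om (v1 - T (pel x) v1) (v2 - T (pel x) v2) = 0 ∧ ∀ s t : ZMod 3, ∀ v, v = Rep.sm s v1 + Rep.sm t v2 →
        T (pel x) (v - T (pel x) v) = v - T (pel x) v ∧ Om v (T (pel x) v) = 0 ∧
          (v - T (pel x) v = 0 → s = 0 ∧ t = 0) := by
  obtain ⟨w, -, -, hL, -, -⟩ := wit_get h3 h0
  set b := pel x
  set v1 := vn w.v1
  set v2 := vn w.v2
  simp only [chkL, Bool.and_eq_true, Bool.not_eq_true', eqW_iff, decide_eq_true_eq, Bool.eq_false_iff, ne_eq,
    and_assoc] at hL
  obtain ⟨f1, f2, iso, q1, q2, q12, n1, n2, n3, n4⟩ := hL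
  refine ⟨v1, v2, iso, fun s t v hv => ?_⟩
  have Tsm : ∀ k y, T b (Rep.sm k y) = Rep.sm k (T b y) := fun k y =>
    Rep.map_sm (AddMonoidHom.mk' _ (T_add b)) k y
  have hd : v - T b v = Rep.sm s (v1 - T b v1) + Rep.sm t (v2 - T b v2) := by
    rw [hv, T_add, Tsm, Tsm, sub_eq_add_neg v1, sub_eq_add_neg v2, Rep.sm_addx, Rep.sm_addx, Rep.sm_negx, Rep.sm_negx]
    abel
  refine ⟨?_, ?_, ?_⟩
  · rw [hd, T_add, Tsm, Tsm, f1, f2]
  · rw [hv, T_add, Tsm, Tsm, Om_add_left, Om_add_right, Om_add_right, Om_sm_left, Om_sm_right, Om_sm_left,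
      Om_sm_right, Om_sm_left, Om_sm_right, Om_sm_left, Om_sm_right, q1, q2]
    linear_combination s * t * q12
  · rw [hd]
    intro e
    rcases z_cases s with rfl | rfl | rfl <;> rcases z_cases t with rfl | rfl | rfl <;>
      simp only [Rep.sm_zero, Rep.sm_one, Rep.sm_neg_one, add_zero, zero_add, neg_eq_zero, and_self] at e ⊢
    all_goals first
      | exact absurd e n1
      | exact absurd e n2
      | exact absurd (eq_neg_of_add_eq_zero_left e) n4
      | exact absurd (add_neg_eq_zero.mp e) n3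
      | exact absurd (neg_add_eq_zero.mp e) n3
      | exact absurd (neg_injective (eq_neg_of_add_eq_zero_left e)) n4

/-- A vector orthogonal to the fixed vectors is a difference. -/
theorem wit_S {x : Fin 3 × Fin 3 × Fin 3 × Fin 3} (h3 : eqB (pel x * pel x * pel x) 1 = true)
    (h0 : x ≠ (0, 0, 0, 0)) {u : W8} (hu : ∀ y, T (pel x) y = y → Om u y = 0) :
    ∃ s, u = s - T (pel x) s := by
  obtain ⟨w, -, -, -, hS, -⟩ := wit_get h3 h0
  simp only [chkS, Bool.and_eq_true, List.all_eq_true, List.mem_range, eqW_iff] at hS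
  obtain ⟨hf, hS⟩ := hS
  set b := pel x
  let col : Idx → W8 := fun a => vn (w.S.getD (4 * (a 0 : ℕ) + 2 * (a 1 : ℕ) + (a 2 : ℕ)) 0)
  let σ : W8 → W8 := fun y =>
    Rep.sm (y (ix 0 0 0)) (col (ix 0 0 0)) + Rep.sm (y (ix 0 0 1)) (col (ix 0 0 1)) +
      Rep.sm (y (ix 0 1 0)) (col (ix 0 1 0)) + Rep.sm (y (ix 0 1 1)) (col (ix 0 1 1)) +
      Rep.sm (y (ix 1 0 0)) (col (ix 1 0 0)) + Rep.sm (y (ix 1 0 1)) (col (ix 1 0 1)) +
      Rep.sm (y (ix 1 1 0)) (col (ix 1 1 0)) + Rep.sm (y (ix 1 1 1)) (col (ix 1 1 1))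
  have σ_add : ∀ y z, σ (y + z) = σ y + σ z := fun y z => by
    simp only [σ, Pi.add_apply, rep8.sm_add]; abel
  have hcode : ∀ k : Fin 8, ∀ a : Idx, vn (3 ^ (k : ℕ)) a =
      if 4 * (a 0 : ℕ) + 2 * (a 1 : ℕ) + (a 2 : ℕ) = k then 1 else 0 := by decide +kernel
  have σ_unit : ∀ k : Fin 8, σ (vn (3 ^ (k : ℕ))) = vn (w.S.getD k 0) := fun k => by
    simp only [σ, col, hcode, ix0, ix1, ix2]
    fin_cases k <;> simp [Rep.sm_zero, Rep.sm_one]
  have key := ext_units (f := fun y : W8 => y)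
    (g := fun y => σ y - T b (σ y) + combL (w.fs.map fun f => vn f.2) (w.fs.map fun f => Om y (vn f.1)))
    (fun _ _ => rfl) (fun y z => by simp only [σ_add, T_add, combL_map_add]; abel)
    (fun k => by show _ = _; rw [σ_unit]; exact hS k k.2) u
  refine ⟨σ u, key.trans ?_⟩
  show _ + combL _ _ = _
  rw [combL_zero _ _ fun c hc => by
    obtain ⟨f, hf', rfl⟩ := List.mem_map.mp hc
    exact hu _ (hf f hf'), add_zero]

/-- The fixed differences orthogonal to a translation. -/
theorem wit_W {x : Fin 3 × Fin 3 × Fin 3 × Fin 3} (h3 : eqB (pel x * pel x * pel x) 1 = true)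
    (h0 : x ≠ (0, 0, 0, 0)) {u : W8} (hu : tr3 (pel x) u = 0) :
    ∃ L : AddSubgroup W8, (if singleB x then 27 else 9) ≤ Nat.card L ∧
      (∀ y ∈ L, T (pel x) y = y ∧ Om u y = 0 ∧ ∃ v, y = v - T (pel x) v) ∧
      ∀ y ∈ L, ∀ z ∈ L, Om y z = 0 := by
  obtain ⟨w, -, -, -, -, hW⟩ := wit_get h3 h0
  set b := pel x
  set ds := w.ws.map fun p => vn p.1 - T b (vn p.1) with hds
  simp only [chkW, Bool.and_eq_true, List.all_eq_true, eqW_iff, decide_eq_true_eq, Bool.or_eq_true,
    Bool.not_eq_true', Bool.eq_false_iff, ne_eq] at hW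
  obtain ⟨⟨hd, hinj⟩, hlen⟩ := hW
  let G : AddSubgroup W8 :=
    { carrier := {y | T b y = y ∧ ∃ v, y = v - T b v}
      zero_mem' := ⟨T_zero b, 0, by rw [T_zero, sub_zero]⟩
      add_mem' := fun {y z} hy hz => ⟨by rw [T_add, hy.1, hz.1], by
        obtain ⟨v, rfl⟩ := hy.2; obtain ⟨v', rfl⟩ := hz.2
        exact ⟨v + v', by rw [T_add]; abel⟩⟩
      neg_mem' := fun {y} hy => ⟨by rw [T_neg, hy.1], by
        obtain ⟨v, rfl⟩ := hy.2
        exact ⟨-v, by rw [T_neg]; abel⟩⟩ }
  let O : W8 → AddSubgroup W8 := fun z =>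
    { carrier := {y | Om z y = 0}
      zero_mem' := Om_zero_right z
      add_mem' := fun {a c} ha hc => by
        simp only [Set.mem_setOf_eq] at ha hc ⊢; rw [Om_add_right, ha, hc, add_zero]
      neg_mem' := fun {a} ha => by simp only [Set.mem_setOf_eq] at ha ⊢; rw [Om_neg_right, ha, neg_zero] }
  set n := w.ws.length with hn
  let D : (Fin n → ZMod 3) →+ W8 := AddMonoidHom.mk' (fun c => combL ds (List.ofFn c)) (combL_add ds n)
  have Dinj : Function.Injective D := (injective_iff_map_eq_zero D).mpr fun c hc => by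
    rcases hinj _ (coefs_mem n c) with h | h
    · funext i; exact h (c i) (List.mem_ofFn.mpr ⟨i, rfl⟩)
    · exact absurd hc h
  have DG : ∀ c, D c ∈ G := fun c => combL_mem G _ _ fun y hy => ⟨(hd y hy).1, by
    obtain ⟨p, -, rfl⟩ := List.mem_map.mp hy; exact ⟨_, rfl⟩⟩
  have Diso : ∀ c c', Om (D c) (D c') = 0 := fun c c' => by
    have h1 : ∀ e ∈ ds, Om e (D c') = 0 := fun e he => combL_mem (O e) _ _ fun y hy => (hd e he).2 y hy
    have : D c ∈ O (D c') := combL_mem (O (D c')) _ _ fun y hy => by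
      show Om (D c') y = 0
      rw [Om_swap, h1 y hy, neg_zero]
    rw [Om_swap, show Om (D c') (D c) = 0 from this, neg_zero]
  let φ : (Fin n → ZMod 3) →+ ZMod 3 := (AddMonoidHom.mk' (Om u) fun a c => Om_add_right u a c).comp D
  have hcard : Nat.card (φ.ker.map D) = Nat.card φ.ker := AddSubgroup.card_map_of_injective Dinj
  refine ⟨φ.ker.map D, ?_, ?_, ?_⟩
  · rw [hcard]
    have hk := φ.ker.card_mul_index
    have hi : φ.ker.index ≤ 3 := by
      rw [AddSubgroup.index_ker]
      exact (Nat.card_le_card_of_injective (fun y : φ.range => (y : ZMod 3)) Subtype.val_injective).trans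
        (le_of_eq (Nat.card_zmod 3))
    have hN : Nat.card (Fin n → ZMod 3) = 3 ^ n := by simp [Nat.card_eq_fintype_card]
    rw [hN] at hk
    by_cases hs : singleB x = true
    · rw [if_pos hs]
      rw [if_pos hs] at hlen
      simp only [decide_eq_true_eq] at hlen
      have e81 : (3 : ℕ) ^ n = 81 := by rw [hlen]; norm_num
      nlinarith
    · rw [if_neg hs]
      rw [if_neg hs] at hlen
      simp only [Bool.or_eq_true, Bool.and_eq_true, decide_eq_true_eq, List.all_eq_true, List.mem_range] at hlen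
      rcases hlen with h | ⟨h, hadj⟩
      · have e27 : (3 : ℕ) ^ n = 27 := by rw [h]; norm_num
        nlinarith
      · have hz : φ.ker = ⊤ := eq_top_iff.mpr fun c _ => combL_mem (O u) _ _ fun y hy => by
          obtain ⟨p, hp, rfl⟩ := List.mem_map.mp hy
          have e := ext_units' (fun y => Om y (vn p.1 - T b (vn p.1))) (fun y => Om (tr3 b y) (vn p.2))
            (fun y z => Om_add_left _ _ _) (fun y z => by
              show Om (tr3 b (y + z)) _ = _
              rw [show tr3 b (y + z) = tr3 b y + tr3 b z by simp only [tr3, T_add]; abel, Om_add_left])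
            (fun k => hadj p hp k k.2) u
          show Om u (vn p.1 - T b (vn p.1)) = 0
          rw [e, hu, Om_zero_left]
        have e9 : (3 : ℕ) ^ n = 9 := by rw [h]; norm_num
        rw [hz, AddSubgroup.card_top, hN, e9]
  · rintro y ⟨c, hc, rfl⟩
    exact ⟨(DG c).1, hc, (DG c).2⟩
  · rintro y ⟨c, -, rfl⟩ z ⟨c', -, rfl⟩
    exact Diso c c'
where
  ext_units' (f g : W8 → ZMod 3) (hf : ∀ v w, f (v + w) = f v + f w) (hg : ∀ v w, g (v + w) = g v + g w)
      (h : ∀ k : Fin 8, f (vn (3 ^ (k : ℕ))) = g (vn (3 ^ (k : ℕ)))) (v : W8) : f v = g v := by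
    let F : W8 →+ ZMod 3 := AddMonoidHom.mk' f hf
    let H : W8 →+ ZMod 3 := AddMonoidHom.mk' g hg
    have e : ∀ a, F (ev a) = H (ev a) := fun a => by
      obtain ⟨k, hk⟩ := units_ev a
      rw [← hk]
      exact h k
    show F v = H v
    conv_lhs => rw [← psi_id v]
    conv_rhs => rw [← psi_id v]
    simp only [Rep.psi, vec_ev, map_add, Rep.map_sm, e]

end CfsgLib.Fi23Loc
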