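import Cfsg.Agent.Lib.Fi23Loc.Setting
import Cfsg.Agent.Lib.Fi23Loc.WitFacts

/-!
Some conjugate of the central element lies in the core outside the centre.
-/

set_option autoImplicit false
set_option linter.unusedSectionVars false
set_option synthInstance.maxSize 1024
set_option maxRecDepth 100000

namespace CfsgLib.Fi23Loc

open CfsgLib.Fi22Loc (Bk dg)

universe u

theorem tr_single : singleB (1, 0, 0, 0) = true ∧ eqB (pel (1, 0, 0, 0) * pel (1, 0, 0, 0) * pel (1, 0, 0, 0)) 1 = true := by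
  decide +kernel

namespace Setting

variable {G : Type u} [Group G] {D : Setting G}

variable (D) in
/-- No conjugate of the central element lies in the core outside the centre. -/
def WC : Prop := ∀ (g : G) (k : ZMod 3) (v : W8), g * D.z * g⁻¹ = D.zz k * D.q v → v = 0

theorem WC.pt_Q (W : D.WC) {g : G} (h : g * D.z * g⁻¹ ∈ D.Q) : ∃ k, g * D.z * g⁻¹ = D.zz k := by
  obtain ⟨k, v, e⟩ := h
  rw [W g k v e, D.q_zero, mul_one] at e
  exact ⟨k, e⟩

theorem conj_back {g x : G} (h : Commute x (g * D.z * g⁻¹)) : g⁻¹ * x * g ∈ D.CC := by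
  refine D.mem_CC.mpr ?_
  have := h.map (MulAut.conj g⁻¹).toMonoidHom
  simpa [mul_assoc] using this

/-- The image seen by the conjugate. -/
noncomputable def sig (D : Setting G) (g : G) :
    ↥(Subgroup.centralizer ({g * D.z * g⁻¹} : Set G)) →* NN :=
  D.ρ.comp
    (((MulAut.conj g⁻¹).toMonoidHom.comp (Subgroup.centralizer ({g * D.z * g⁻¹} : Set G)).subtype).codRestrict D.CC
      fun c => by
        simp only [MonoidHom.coe_comp, MulEquiv.coe_toMonoidHom, Subgroup.coe_subtype, Function.comp_apply,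
          MulAut.conj_apply, inv_inv]
        exact conj_back (Subgroup.mem_centralizer_singleton_iff.mp c.2))

theorem sig_ker {g : G} {c : ↥(Subgroup.centralizer ({g * D.z * g⁻¹} : Set G))} :
    D.sig g c = 1 ↔ g⁻¹ * (c : G) * g ∈ D.Q := by
  rw [sig, MonoidHom.comp_apply, ρ_ker]
  simp

/-- A conjugate of the central element outside the core, in coordinates. -/
structure Pt (D : Setting G) (g : G) (u : W8) (s : G) (x : Fin 3 × Fin 3 × Fin 3 × Fin 3) : Prop where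
  eq : g * D.z * g⁻¹ = D.q u * s
  acts : D.Acts s (TN (pel x))
  cube : eqB (pel x * pel x * pel x) 1 = true
  ne : x ≠ (0, 0, 0, 0)

theorem pt_cube (g : G) : (g * D.z * g⁻¹) ^ 3 = 1 := by rw [conj_pow, D.z_cube]; group

variable {g s : G} {u : W8} {x : Fin 3 × Fin 3 × Fin 3 × Fin 3}

theorem Pt.comm (P : D.Pt g u s x) : Commute (g * D.z * g⁻¹) D.z := P.eq ▸ (D.q_z u).mul_left P.acts.1

theorem Pt.notQ (P : D.Pt g u s x) : g * D.z * g⁻¹ ∉ D.Q := fun h => by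
  have h1 := D.img_Q h
  rw [P.eq] at h1
  have h2 := h1.unique ((D.img_Q (D.q_mem u)).mul (D.q_z u) P.acts.img)
  rw [one_mul] at h2
  refine P.ne (pel_inj ?_)
  exact TN_P81_ker (pel_mem x) h2.symm

/-- The translation is killed by the trace. -/
theorem Pt.tr (P : D.Pt g u s x) : tr3 (pel x) u = 0 := by
  obtain ⟨sz, -, hs⟩ := P.acts
  have hs' : ∀ v, s * D.q v * s⁻¹ = D.q (T (pel x) v) := hs
  have e : (D.q u * s) ^ 3 = D.q u * D.q (T (pel x) u) * D.q (T (pel x) (T (pel x) u)) * s ^ 3 := by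
    rw [← hs' (T (pel x) u), ← hs' u]
    simp only [pow_succ, pow_zero, one_mul]
    group
  rw [← P.eq, pt_cube, D.q_mul', mul_assoc (D.zz _), D.q_mul', ← mul_assoc (D.zz _), ← D.zz_add] at e
  have h3 : D.Acts (s ^ 3) (TN (pel x) * TN (pel x) * TN (pel x)) := by
    refine ⟨sz.pow_left 3, P.acts.2.1.pow_left 3, fun v => ?_⟩
    show _ = D.q (T (pel x) (T (pel x) (T (pel x) v)))
    rw [← hs', ← hs', ← hs']
    simp only [pow_succ, pow_zero, one_mul]
    group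
  rw [← map_mul, ← map_mul, eqB_iff.mp P.cube, map_one] at h3
  obtain ⟨m, hm⟩ := D.levi_trivial h3
  rw [hm, mul_assoc, ← (D.zz_q m _).eq, ← mul_assoc, ← D.zz_add] at e
  exact (D.el_inj (l := 0) (w := 0) (e.symm.trans (by rw [zz_zero, D.q_zero, one_mul]))).2

theorem pt_of_img {g : G} {x : Fin 3 × Fin 3 × Fin 3 × Fin 3} (h : g * D.z * g⁻¹ ∈ D.CC)
    (e : D.ρ ⟨_, h⟩ = TN (pel x)) (h3 : eqB (pel x * pel x * pel x) 1 = true) (h0 : x ≠ (0, 0, 0, 0)) :
    ∃ u s, D.Pt g u s x := by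
  obtain ⟨u, s, f, he, hs, hf⟩ := D.cases_H (D.mem_CC.mp h)
  obtain rfl : f = TN (pel x) := ((D.ρ_eq (h := ⟨_, h⟩) hf).symm.trans e)
  exact ⟨u, s, he, hs, h3, h0⟩

/-- A conjugate outside the core moves to a standard one by an element of the centraliser. -/
theorem pt_normal {g : G} (hc : g * D.z * g⁻¹ ∈ D.CC) (hn : g * D.z * g⁻¹ ∉ D.Q) :
    ∃ m u s x, D.Pt (m * g) u s x ∧ ∃ n : NN, n * D.ρ ⟨_, hc⟩ * n⁻¹ = TN (pel x) := by
  set f := D.ρ ⟨_, hc⟩ with hf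
  have f3 : f * f * f = 1 := by
    rw [hf, ← map_mul, ← map_mul, ← map_one D.ρ]
    congr 1
    refine Subtype.ext ?_
    have := pt_cube (D := D) g
    simpa [pow_succ] using this
  obtain ⟨n, x, h3, h0, e⟩ := three_conj D.card_N f3 fun e1 => hn ((D.ρ_ker (h := ⟨_, hc⟩)).mp e1)
  obtain ⟨m, hm⟩ := D.exists_lift n
  have hmC : m ∈ D.CC := D.mem_CC.mpr hm.1
  have he : m * g * D.z * (m * g)⁻¹ = m * (g * D.z * g⁻¹) * m⁻¹ := by group
  have hc' : m * g * D.z * (m * g)⁻¹ ∈ D.CC := he ▸ mul_mem (mul_mem hmC hc) (inv_mem hmC)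
  obtain ⟨u, s, P⟩ := pt_of_img hc' (x := x) (by
    rw [show (⟨_, hc'⟩ : D.CC) = ⟨m, hmC⟩ * ⟨_, hc⟩ * ⟨m, hmC⟩⁻¹ from Subtype.ext he, map_mul, map_mul, map_inv,
      D.ρ_eq (h := ⟨m, hmC⟩) hm.img, ← hf, e]) h3 h0
  exact ⟨m, u, s, x, P, n, e⟩

/-- The exponent of the orbit element. -/
def oexp (b : Bk) (u v : W8) : ZMod 3 := -Om v u + Om v (T b v) + Om u (T b v)

theorem oexp_add (b : Bk) (u v y : W8) (hy : T b y = y) : oexp b u (v + y) = oexp b u v - Om u y := by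
  have h1 : Om y (T b v) = Om y v := by
    conv_lhs => rw [← hy]
    exact Om_T b y v
  simp only [oexp, T_add, hy, Om_add_left, Om_add_right, h1, Om_self, Om_swap u y, Om_swap v y]
  linear_combination three_z (Om u y)

/-- The orbit of a conjugate under the core. -/
theorem Pt.orbit (P : D.Pt g u s x) (v : W8) (h0 : Om u (v - T (pel x) v) = 0) :
    D.q v * (g * D.z * g⁻¹) * (D.q v)⁻¹ =
      D.zz (oexp (pel x) u v) * D.q (v - T (pel x) v) * (g * D.z * g⁻¹) := by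
  have hs : s * D.q (-v) * s⁻¹ = D.q (T (pel x) (-v)) := P.acts.2.2 (-v)
  rw [P.eq, show D.q v * (D.q u * s) * (D.q v)⁻¹ = D.q v * D.q u * (s * D.q (-v) * s⁻¹) * s by rw [← D.q_inv]; group,
    hs, T_neg, D.q_mul', mul_assoc (D.zz _), D.q_mul', ← mul_assoc (D.zz _), ← D.zz_add,
    show D.zz (oexp (pel x) u v) * D.q (v - T (pel x) v) * (D.q u * s) =
      D.zz (oexp (pel x) u v) * (D.q (v - T (pel x) v) * D.q u) * s by group,
    D.q_mul', ← mul_assoc (D.zz _), ← D.zz_add, Om_swap u (v - T (pel x) v), h0, Om_neg_right, Om_add_left]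
  simp only [neg_neg, neg_zero, add_zero, oexp]
  congr 2
  · congr 1; ring
  · congr 1; abel

theorem Pt.orbit_comm (P : D.Pt g u s x) (k : ZMod 3) {d : W8} (hd : T (pel x) d = d) (h0 : Om u d = 0) :
    D.zz k * D.q d ∈ Subgroup.centralizer ({g * D.z * g⁻¹} : Set G) := by
  refine Subgroup.mem_centralizer_singleton_iff.mpr (Commute.eq ?_)
  rw [P.eq]
  have hs : Commute (D.q d) s := by
    have := P.acts.2.2 d
    rw [show ((TN (pel x) : NN) : Equiv.Perm W8) d = d from hd, mul_inv_eq_iff_eq_mul] at this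
    exact this.symm
  exact ((D.zz_q k u).mul_right ((D.zz_comm P.acts.1 k).symm)).mul_left
    ((D.q_comm.mpr (by rw [Om_swap, h0, neg_zero])).mul_right hs)

theorem sig_of_pt (P : D.Pt g u s x) (v : W8) (h0 : Om u (v - T (pel x) v) = 0)
    (hd : T (pel x) (v - T (pel x) v) = v - T (pel x) v) :
    ∃ hc : g⁻¹ * D.q v * g * D.z * (g⁻¹ * D.q v * g)⁻¹ ∈ D.CC,
      D.ρ ⟨_, hc⟩ = D.sig g ⟨_, P.orbit_comm (oexp (pel x) u v) hd h0⟩ := by
  set c := D.zz (oexp (pel x) u v) * D.q (v - T (pel x) v) with hc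
  have e : g⁻¹ * D.q v * g * D.z * (g⁻¹ * D.q v * g)⁻¹ = g⁻¹ * c * g * D.z := by
    rw [show g⁻¹ * D.q v * g * D.z * (g⁻¹ * D.q v * g)⁻¹ =
      g⁻¹ * (D.q v * (g * D.z * g⁻¹) * (D.q v)⁻¹) * g by group, P.orbit v h0, ← hc]
    group
  have hcc : g⁻¹ * c * g ∈ D.CC :=
    conj_back (Subgroup.mem_centralizer_singleton_iff.mp (P.orbit_comm (oexp (pel x) u v) hd h0))
  have hzC : D.z ∈ D.CC := D.mem_CC.mpr (Commute.refl _)
  refine ⟨e ▸ mul_mem hcc hzC, ?_⟩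
  rw [show (⟨_, e ▸ mul_mem hcc hzC⟩ : D.CC) = ⟨_, hcc⟩ * ⟨_, hzC⟩ from Subtype.ext e, map_mul,
    (D.ρ_ker (h := ⟨_, hzC⟩)).mpr D.z_mem, mul_one]
  simp only [sig, MonoidHom.comp_apply]
  congr 1
  exact Subtype.ext (by simp [hc])

/-- A nontrivial orbit element has a nontrivial image. -/
theorem WC.orbit_out (W : D.WC) (P : D.Pt g u s x) (v : W8) (h0 : Om u (v - T (pel x) v) = 0)
    (hd : T (pel x) (v - T (pel x) v) = v - T (pel x) v)
    (h1 : ¬(oexp (pel x) u v = 0 ∧ v - T (pel x) v = 0)) :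
    D.sig g ⟨_, P.orbit_comm (oexp (pel x) u v) hd h0⟩ ≠ 1 := fun h => by
  obtain ⟨hC, e⟩ := sig_of_pt P v h0 hd
  rw [h] at e
  obtain ⟨k, ek⟩ := W.pt_Q ((D.ρ_ker (h := ⟨_, hC⟩)).mp e)
  set c := D.zz (oexp (pel x) u v) * D.q (v - T (pel x) v) with hc
  have e2 : c = g * D.zz (k - 1) * g⁻¹ := by
    have e3 : c * (g * D.z * g⁻¹) = g * D.zz k * g⁻¹ := by
      rw [hc, ← P.orbit v h0, ← ek]; group
    rw [show c = c * (g * D.z * g⁻¹) * (g * D.z * g⁻¹)⁻¹ by group, e3, sub_eq_add_neg, D.zz_add, D.zz_neg, D.zz_one]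
    group
  have cQ : c ∈ D.Q := D.el_mem _ _
  rcases (by decide : ∀ k : ZMod 3, k = 0 ∨ k = 1 ∨ k = 2) (k - 1) with r | r | r <;> rw [r] at e2
  · rw [D.zz_zero, mul_one, mul_inv_cancel] at e2
    exact h1 (D.el_inj (l := 0) (w := 0) (by rw [← hc, e2, D.zz_zero, D.q_zero, one_mul]))
  · rw [D.zz_one] at e2; exact P.notQ (e2 ▸ cQ)
  · refine P.notQ ?_
    have : g * D.z * g⁻¹ = c ^ 2 := by
      rw [e2, conj_pow, pow_two (D.zz 2), ← D.zz_add, show (2 : ZMod 3) + 2 = 1 from by decide, D.zz_one]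
    rw [this]; exact pow_mem cQ 2

/-- No conjugate lies in the Levi part. -/
theorem WC.no_levi (W : D.WC) (P : D.Pt g 0 s x) : False := by
  obtain ⟨v1, v2, hiso, hv⟩ := wit_L P.cube P.ne
  set b := pel x
  have hj : D.j ∈ Subgroup.centralizer ({g * D.z * g⁻¹} : Set G) :=
    Subgroup.mem_centralizer_singleton_iff.mpr (Commute.eq (by
      rw [P.eq, D.q_zero, one_mul]; exact P.acts.2.1.symm))
  have key : ∀ s' t v, v = Rep.sm s' v1 + Rep.sm t v2 →
      ∃ hc : D.q (v - T b v) ∈ Subgroup.centralizer ({g * D.z * g⁻¹} : Set G),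
        ¬(s' = 0 ∧ t = 0) → D.sig g ⟨_, hc⟩ ≠ 1 := by
    intro s' t v e
    obtain ⟨hd, hom, hz⟩ := hv s' t v e
    have ho : oexp b 0 v = 0 := by simp [oexp, Om_zero_left, Om_zero_right, hom]
    have hm := P.orbit_comm (oexp b 0 v) hd (Om_zero_left _)
    have he : D.zz (oexp b 0 v) * D.q (v - T b v) = D.q (v - T b v) := by rw [ho, D.zz_zero, one_mul]
    refine ⟨he ▸ hm, fun hne => ?_⟩
    have := W.orbit_out P v (Om_zero_left _) hd fun h => hne (hz h.2)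
    rw [show (⟨_, hm⟩ : Subgroup.centralizer ({g * D.z * g⁻¹} : Set G)) = ⟨D.q (v - T b v), he ▸ hm⟩ from
      Subtype.ext he] at this
    exact this
  set d1 := v1 - T b v1
  set d2 := v2 - T b v2
  have e10 : v1 = Rep.sm 1 v1 + Rep.sm 0 v2 := by simp [Rep.sm_one, Rep.sm_zero]
  have e01 : v2 = Rep.sm 0 v1 + Rep.sm 1 v2 := by simp [Rep.sm_one, Rep.sm_zero]
  obtain ⟨h1, n1⟩ := key 1 0 v1 e10
  obtain ⟨h2, n2⟩ := key 0 1 v2 e01
  set a1 := D.sig g ⟨_, h1⟩ with ha1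
  set a2 := D.sig g ⟨_, h2⟩ with ha2
  have inv : ∀ d (h : D.q d ∈ Subgroup.centralizer ({g * D.z * g⁻¹} : Set G)),
      D.sig g ⟨_, hj⟩ * D.sig g ⟨_, h⟩ * D.sig g ⟨_, hj⟩ = (D.sig g ⟨_, h⟩)⁻¹ := fun d h => by
    rw [← map_mul, ← map_mul, ← map_inv]
    congr 1
    exact Subtype.ext (by
      show D.j * D.q d * D.j = (D.q d)⁻¹
      rw [D.j_q, D.q_inv])
  have cub : ∀ d (h : D.q d ∈ Subgroup.centralizer ({g * D.z * g⁻¹} : Set G)),
      D.sig g ⟨_, h⟩ * D.sig g ⟨_, h⟩ * D.sig g ⟨_, h⟩ = 1 := fun d h => by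
    rw [← map_mul, ← map_mul, ← map_one (D.sig g)]
    congr 1
    exact Subtype.ext (by simpa [pow_succ] using D.q_cube d)
  have f2 : D.sig g ⟨_, hj⟩ * D.sig g ⟨_, hj⟩ = 1 := by
    rw [← map_mul, ← map_one (D.sig g)]
    congr 1
    exact Subtype.ext D.j_sq
  have hab : a1 * a2 = a2 * a1 := by
    rw [ha1, ha2, ← map_mul, ← map_mul]
    congr 1
    exact Subtype.ext (D.q_comm.mpr hiso).eq
  have comb : ∀ t, t ≠ 0 → D.q d1 * D.q (Rep.sm t d2) ∈ Subgroup.centralizer ({g * D.z * g⁻¹} : Set G) →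
      ∀ hh, D.sig g ⟨D.q d1 * D.q (Rep.sm t d2), hh⟩ ≠ 1 := fun t ht _ hh => by
    obtain ⟨h, n⟩ := key 1 t _ rfl
    have hsm : T b (Rep.sm t v2) = Rep.sm t (T b v2) := Rep.map_sm (AddMonoidHom.mk' _ (T_add b)) t v2
    have e : D.q d1 * D.q (Rep.sm t d2) = D.q (Rep.sm 1 v1 + Rep.sm t v2 - T b (Rep.sm 1 v1 + Rep.sm t v2)) := by
      rw [D.q_mul', Om_sm_right, hiso, mul_zero, neg_zero, D.zz_zero, one_mul, Rep.sm_one, T_add, hsm]
      congr 1
      simp only [d1, d2, sub_eq_add_neg, Rep.sm_addx, Rep.sm_negx]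
      abel
    simpa only [e] using n fun h => ht h.2
  rcases no_pair f2 (cub _ h1) (cub _ h2) (inv _ h1) (inv _ h2) hab
    (n1 fun h => absurd h.1 (by decide)) (n2 fun h => absurd h.2 (by decide)) with e | e
  · have hh := mul_mem h1 (inv_mem h2)
    refine comb (-1) (by decide) (by simpa [Rep.sm_neg_one, ← D.q_inv] using hh)
      (by simpa [Rep.sm_neg_one, ← D.q_inv] using hh) ?_
    simp only [Rep.sm_neg_one, ← D.q_inv]
    rw [show (⟨D.q d1 * (D.q d2)⁻¹, hh⟩ : Subgroup.centralizer ({g * D.z * g⁻¹} : Set G)) = ⟨_, h1⟩ * ⟨_, h2⟩⁻¹ from rfl,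
      map_mul, map_inv, e, mul_inv_cancel]
  · have hh := mul_mem h1 h2
    refine comb 1 (by decide) (by simpa [Rep.sm_one] using hh) (by simpa [Rep.sm_one] using hh) ?_
    simp only [Rep.sm_one]
    rw [show (⟨D.q d1 * D.q d2, hh⟩ : Subgroup.centralizer ({g * D.z * g⁻¹} : Set G)) = ⟨_, h1⟩ * ⟨_, h2⟩ from rfl,
      map_mul, e, mul_inv_cancel]

/-- A translation orthogonal to the fixed vectors can be removed. -/
theorem Pt.to_levi (P : D.Pt g u s x) (hu : ∀ y, T (pel x) y = y → Om u y = 0) :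
    ∃ g' s', D.Pt g' 0 s' x := by
  obtain ⟨w, hw⟩ := wit_S P.cube P.ne hu
  refine ⟨(D.q w)⁻¹ * g, ?_⟩
  have hm : (D.q w)⁻¹ ∈ D.CC := inv_mem (D.mem_CC.mpr (D.q_z w))
  obtain ⟨sz, sj, hs⟩ := P.acts
  have hs1 : s * D.q w * s⁻¹ = D.q (T (pel x) w) := hs w
  set m : ZMod 3 := -Om (-w) u + -Om (-w + u) (T (pel x) w) with hm'
  refine ⟨D.zz m * s, ?_, ⟨(((Commute.refl D.z).pow_left _ : Commute (D.zz m) D.z)).mul_left sz,
    ((D.j_z.symm).pow_left _ : Commute (D.zz m) D.j).mul_left sj, fun v => ?_⟩, P.cube, P.ne⟩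
  · rw [D.q_zero, one_mul, show (D.q w)⁻¹ * g * D.z * ((D.q w)⁻¹ * g)⁻¹ = (D.q w)⁻¹ * (g * D.z * g⁻¹) * D.q w by group,
      P.eq, show (D.q w)⁻¹ * (D.q u * s) * D.q w = (D.q w)⁻¹ * D.q u * (s * D.q w * s⁻¹) * s by group, hs1, D.q_inv,
      D.q_mul', mul_assoc (D.zz _), D.q_mul', ← mul_assoc (D.zz _), ← D.zz_add,
      show -w + u + T (pel x) w = 0 by rw [hw]; abel, D.q_zero, mul_one]
  · show D.zz m * s * D.q v * (D.zz m * s)⁻¹ = _
    rw [show D.zz m * s * D.q v * (D.zz m * s)⁻¹ = D.zz m * (s * D.q v * s⁻¹) * (D.zz m)⁻¹ by group, hs v,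
      (D.zz_q m _).eq, mul_inv_cancel_right]

/-- The images of orbit elements at a translation not orthogonal to the fixed vectors. -/
theorem WC.family (W : D.WC) (P : D.Pt g u s x) {y0 : W8} (hy : T (pel x) y0 = y0) (hy0 : Om u y0 ≠ 0) :
    ∃ E : Subgroup NN, (if singleB x then 81 else 27) ≤ Nat.card E ∧ (∀ a ∈ E, ∀ b ∈ E, a * b = b * a) ∧
      (∀ a ∈ E, a * a * a = 1) ∧
      ∀ a ∈ E, a ≠ 1 → ∃ g', ∃ hc : g' * D.z * g'⁻¹ ∈ D.CC, D.ρ ⟨_, hc⟩ = a := by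
  obtain ⟨L, hcard, hL, hiso⟩ := wit_W P.cube P.ne P.tr
  set b := pel x
  let F : Multiplicative (ZMod 3 × L) →* NN :=
    (D.sig g).comp
      { toFun := fun p => ⟨D.zz p.toAdd.1 * D.q p.toAdd.2,
          P.orbit_comm _ (hL _ p.toAdd.2.2).1 (hL _ p.toAdd.2.2).2.1⟩
        map_one' := Subtype.ext (by simp [D.zz_zero, D.q_zero])
        map_mul' := fun p r => Subtype.ext (by
          show _ = D.zz _ * D.q _ * (D.zz _ * D.q _)
          rw [D.el_mul, hiso _ p.toAdd.2.2 _ r.toAdd.2.2, neg_zero, add_zero]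
          rfl) }
  have pre : ∀ p : Multiplicative (ZMod 3 × L), ∃ v, oexp b u v = p.toAdd.1 ∧ v - T b v = p.toAdd.2 := by
    intro p
    obtain ⟨v, hv⟩ := (hL _ p.toAdd.2.2).2.2
    have ht : ∀ a c t : ZMod 3, t ≠ 0 → a - (a - c) * t * t = c := by decide
    refine ⟨v + Rep.sm ((oexp b u v - p.toAdd.1) * Om u y0) y0, ?_, ?_⟩
    · rw [oexp_add _ _ _ _ ((Rep.map_sm (AddMonoidHom.mk' _ (T_add b)) _ y0).trans (by
        show Rep.sm _ (T b y0) = _; rw [hy])), Om_sm_right]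
      exact ht _ _ _ hy0
    · rw [T_add, show T b (Rep.sm ((oexp b u v - p.toAdd.1) * Om u y0) y0) = Rep.sm _ (T b y0) from
        Rep.map_sm (AddMonoidHom.mk' _ (T_add b)) _ y0, hy, hv]
      abel
  have img : ∀ p, p ≠ 1 → F p ≠ 1 ∧ ∃ g', ∃ hc : g' * D.z * g'⁻¹ ∈ D.CC, D.ρ ⟨_, hc⟩ = F p := by
    intro p hp
    obtain ⟨v, e1, e2⟩ := pre p
    have h0 : Om u (v - T b v) = 0 := by rw [e2]; exact (hL _ p.toAdd.2.2).2.1
    have hd : T b (v - T b v) = v - T b v := by rw [e2]; exact (hL _ p.toAdd.2.2).1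
    have eF : D.sig g ⟨_, P.orbit_comm (oexp b u v) hd h0⟩ = F p := by
      simp only [F, MonoidHom.comp_apply, MonoidHom.coe_mk, OneHom.coe_mk]
      congr 1
      refine Subtype.ext ?_
      show D.zz _ * D.q _ = D.zz _ * D.q _
      rw [e1, e2]
    obtain ⟨hC, e⟩ := sig_of_pt P v h0 hd
    refine ⟨fun h => W.orbit_out P v h0 hd ?_ (eF.trans h), _, hC, e.trans eF⟩
    rw [e1, e2]
    rintro ⟨r1, r2⟩
    exact hp (Multiplicative.toAdd.injective (Prod.ext r1 (Subtype.ext r2)))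
  have hinj : Function.Injective F := (injective_iff_map_eq_one F).mpr fun p hp => by
    by_contra h
    exact (img p h).1 hp
  refine ⟨F.range, ?_, ?_, ?_, ?_⟩
  · rw [← Nat.card_congr (MonoidHom.ofInjective hinj).toEquiv, Nat.card_congr (Multiplicative.toAdd), Nat.card_prod,
      Nat.card_zmod]
    split_ifs at hcard ⊢ <;> omega
  · rintro _ ⟨p, rfl⟩ _ ⟨r, rfl⟩
    rw [← map_mul, ← map_mul, mul_comm]
  · rintro _ ⟨p, rfl⟩
    rw [← map_mul, ← map_mul, show p * p * p = 1 from Multiplicative.toAdd.injective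
      (Prod.ext (three_z _) (Subtype.ext (W8_three _))), map_one]
  · rintro _ ⟨p, rfl⟩ hp
    exact (img p fun e => hp (by rw [e, map_one])).2

/-- No conjugate acts by moving one factor. -/
theorem WC.no_single (W : D.WC) (P : D.Pt g u s x) (hs : singleB x = true) : False := by
  by_cases hu : ∀ y, T (pel x) y = y → Om u y = 0
  · obtain ⟨g', s', P'⟩ := P.to_levi hu
    exact W.no_levi P'
  push Not at hu
  obtain ⟨y0, hy, hy0⟩ := hu
  obtain ⟨E, hE, hc, h3, -⟩ := W.family P hy hy0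
  have := (elementary D.card_N hc h3).1
  rw [hs, if_pos rfl] at hE
  omega

/-- Some conjugate lies in the core outside the centre. -/
theorem exists_pt (D : Setting G) : ∃ g k v, g * D.z * g⁻¹ = D.zz k * D.q v ∧ v ≠ 0 := by
  by_contra hno
  push Not at hno
  have W : D.WC := hno
  obtain ⟨g0, hc0, hk0⟩ := D.nwc
  have hQ0 : g0 * D.z * g0⁻¹ ∉ D.Q := fun h => by
    obtain ⟨k, e⟩ := W.pt_Q h
    exact hk0 k e
  obtain ⟨m, u, s, x, P, -⟩ := pt_normal (D.mem_CC.mpr hc0) hQ0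
  by_cases hu : ∀ y, T (pel x) y = y → Om u y = 0
  · obtain ⟨g', s', P'⟩ := P.to_levi hu
    exact W.no_levi P'
  push Not at hu
  obtain ⟨y0, hy, hy0⟩ := hu
  by_cases hs : singleB x = true
  · exact W.no_single P hs
  obtain ⟨E, hE, hc, h3, himg⟩ := W.family P hy hy0
  rw [if_neg hs] at hE
  obtain ⟨n, hn⟩ := (elementary D.card_N hc h3).2 hE
  set a := n⁻¹ * TN (pel (1, 0, 0, 0)) * n
  have ha : a ∈ E := (hn a).mpr ⟨1, 0, 0, by simp only [a]; group⟩
  have ha1 : a ≠ 1 := fun e => by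
    have h1 : TN (pel (1, 0, 0, 0)) = 1 := by
      calc TN (pel (1, 0, 0, 0)) = n * a * n⁻¹ := by simp only [a]; group
        _ = 1 := by rw [e]; group
    exact absurd (pel_inj (TN_P81_ker (pel_mem _) h1)) (by decide)
  obtain ⟨g', hcg, eg⟩ := himg a ha ha1
  obtain ⟨l, hl⟩ := D.exists_lift n
  have hlC : l ∈ D.CC := D.mem_CC.mpr hl.1
  have he : l * g' * D.z * (l * g')⁻¹ = l * (g' * D.z * g'⁻¹) * l⁻¹ := by group
  have hc' : l * g' * D.z * (l * g')⁻¹ ∈ D.CC := he ▸ mul_mem (mul_mem hlC hcg) (inv_mem hlC)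
  obtain ⟨u', s', P'⟩ := pt_of_img hc' (x := (1, 0, 0, 0)) (by
    rw [show (⟨_, hc'⟩ : D.CC) = ⟨l, hlC⟩ * ⟨_, hcg⟩ * ⟨l, hlC⟩⁻¹ from Subtype.ext he, map_mul, map_mul, map_inv,
      D.ρ_eq (h := ⟨l, hlC⟩) hl.img, eg]
    simp only [a]; group) tr_single.2 (by decide)
  exact W.no_single P' tr_single.1

end Setting

end CfsgLib.Fi23Loc
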