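import Cfsg.Agent.Lib.Fi23Loc.Cent
import Cfsg.Agent.Lib.Fi22Loc.Fin.Main
import Cfsg.Agent.S1714

/-!
The centraliser of the exchange is quasisimple over Fi22, so the group is Fi23.
-/

set_option autoImplicit false
set_option linter.unusedSectionVars false
set_option synthInstance.maxSize 1024
set_option maxRecDepth 100000

namespace CfsgLib.Fi23Loc

open CfsgLib.Fi22Loc (Bk dg V6 appB)

universe u

/-- A group with the setting of Fi22 has no map onto a group of exponent two, once the centraliser of the central element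
and one element inverting it are killed. -/
theorem kill_top {H : Type*} [Group H] [Finite H] (D : Fi22Loc.Setting H) {A : Type*} [CommGroup A]
    (hA : ∀ a : A, a * a = 1) (χ : H →* A) (hc : ∀ x, Commute x D.z → χ x = 1)
    (hi : ∃ m, χ m = 1 ∧ m * D.z * m⁻¹ = D.z⁻¹) : ∀ x, χ x = 1 := by
  haveI : Fact (Nat.Prime 3) := ⟨Nat.prime_three⟩
  have odd : ∀ (a : A) (n : ℕ), a ^ 3 ^ n = 1 → a = 1 := fun a n h => by
    obtain ⟨m, hm⟩ : Odd (3 ^ n) := (by decide : Odd 3).pow
    rwa [hm, pow_succ, pow_mul, pow_two, hA, one_pow, one_mul] at h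
  have hQ : IsPGroup 3 D.Q := fun x => ⟨1, Subtype.ext (by rw [pow_one]; exact D.Q_cube x.2)⟩
  obtain ⟨T, hT⟩ := hQ.exists_le_sylow
  have hTk : (T : Subgroup H) ≤ χ.ker := fun x hx => by
    obtain ⟨n, hn⟩ := T.isPGroup' ⟨x, hx⟩
    exact odd _ n (by rw [← map_pow, show x ^ 3 ^ n = 1 from congrArg Subtype.val hn, map_one])
  have hcen : ∀ c ∈ (T : Subgroup H), (∀ x ∈ (T : Subgroup H), Commute c x) → ∃ k : ZMod 3, c = D.zz k :=
    fun c _ hc' => D.self c fun v => hc' _ (hT (D.q_mem v))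
  haveI : Nontrivial ↥(T : Subgroup H) := ⟨⟨⟨D.z, hT (by rw [← D.zz_one]; exact D.zz_mem 1)⟩, 1,
    fun e => D.z_ne (congrArg Subtype.val e)⟩⟩
  haveI := T.isPGroup'.center_nontrivial
  obtain ⟨⟨c, hcZ⟩, hc1⟩ := exists_ne (1 : Subgroup.center ↥(T : Subgroup H))
  obtain ⟨k, hk⟩ := hcen c c.2 fun x hx => congrArg Subtype.val (Subgroup.mem_center_iff.mp hcZ ⟨x, hx⟩).symm
  have zC : ∀ x ∈ (T : Subgroup H), Commute D.z x := fun x hx => by
    have h : Commute (D.zz k) x := hk ▸ (congrArg Subtype.val (Subgroup.mem_center_iff.mp hcZ ⟨x, hx⟩)).symm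
    rcases z_cases k with r | r | r
    · exact absurd (Subtype.ext (Subtype.ext (hk.trans (r ▸ D.zz_zero)))) hc1
    · rwa [r, D.zz_one] at h
    · rw [r, D.zz_neg, D.zz_one] at h
      simpa using h.inv_left
  intro g
  have hTg : ((g • T : Sylow 3 H) : Subgroup H) ≤ χ.ker := fun x hx => by
    rw [Sylow.coe_subgroup_smul, Subgroup.mem_pointwise_smul_iff_inv_smul_mem] at hx
    have h := hTk hx
    simpa [MonoidHom.mem_ker, MulAut.smul_def] using h
  obtain ⟨n, hn⟩ := MulAction.exists_smul_eq χ.ker ((g • T).subtype hTg) (T.subtype hTk)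
  have mv : ∀ y ∈ (T : Subgroup H), (n : H) * g * y * ((n : H) * g)⁻¹ ∈ (T : Subgroup H) := fun y hy => by
    have h0 : g * y * g⁻¹ ∈ ((g • T : Sylow 3 H) : Subgroup H) := by
      rw [Sylow.coe_subgroup_smul, Subgroup.mem_pointwise_smul_iff_inv_smul_mem]
      simpa [MulAut.smul_def, mul_assoc] using hy
    have h2 : n * (⟨g * y * g⁻¹, hTg h0⟩ : χ.ker) * n⁻¹ ∈ ((n • (g • T).subtype hTg : Sylow 3 χ.ker) : Subgroup χ.ker) := by
      rw [Sylow.coe_subgroup_smul, Subgroup.mem_pointwise_smul_iff_inv_smul_mem]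
      simp only [MulAut.smul_def, MulAut.conj_inv_apply, mul_assoc, inv_mul_cancel_left, inv_mul_cancel, mul_one]
      refine Subgroup.mem_subgroupOf.mpr ?_
      simpa [mul_assoc] using h0
    rw [hn] at h2
    have h3 : (n : H) * (g * y * g⁻¹) * (n : H)⁻¹ ∈ (T : Subgroup H) := h2
    rwa [show (n : H) * g * y * ((n : H) * g)⁻¹ = (n : H) * (g * y * g⁻¹) * (n : H)⁻¹ by group]
  set a := (n : H) * g with ha
  have surj : ∀ x ∈ (T : Subgroup H), ∃ y ∈ (T : Subgroup H), a * y * a⁻¹ = x := by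
    intro x hx
    let F : ↥(T : Subgroup H) → ↥(T : Subgroup H) := fun y => ⟨_, mv y y.2⟩
    have hF : Function.Injective F := fun y y' e => Subtype.ext (mul_left_cancel (mul_right_cancel (congrArg Subtype.val e)))
    obtain ⟨y, hy⟩ := Finite.surjective_of_injective hF ⟨x, hx⟩
    exact ⟨y, y.2, congrArg Subtype.val hy⟩
  have hzT : D.z ∈ (T : Subgroup H) := hT (by rw [← D.zz_one]; exact D.zz_mem 1)
  obtain ⟨l, hl⟩ := hcen _ (mv _ hzT) fun x hx => by
    obtain ⟨y, hy, rfl⟩ := surj x hx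
    exact (zC y hy).map (MulAut.conj a).toMonoidHom
  have hg : χ g = χ a := by rw [ha, map_mul, MonoidHom.mem_ker.mp n.2, one_mul]
  rw [hg]
  rcases z_cases l with r | r | r <;> rw [r] at hl
  · rw [D.zz_zero, mul_inv_eq_one, mul_eq_left] at hl
    exact absurd hl D.z_ne
  · rw [D.zz_one, mul_inv_eq_iff_eq_mul] at hl
    exact hc a hl
  · rw [D.zz_neg, D.zz_one] at hl
    obtain ⟨m, hm1, hm⟩ := hi
    have h : χ (m⁻¹ * a) = 1 := hc _ (by
      show m⁻¹ * a * D.z = D.z * (m⁻¹ * a)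
      calc m⁻¹ * a * D.z = m⁻¹ * (a * D.z * a⁻¹) * a := by group
        _ = m⁻¹ * (m * D.z * m⁻¹) * a := by rw [hl, hm]
        _ = _ := by group)
    rwa [map_mul, map_inv, hm1, inv_one, one_mul] at h

/-- A second exchange commuting with the first. -/
def rSW : Bk := dg (rA 0) * swB * (dg (rA 0))⁻¹

theorem rSW_eq : eqOn (fun v => T rSW (T swB v)) (fun v => T swB (T rSW v)) = true := by decide +kernel

theorem rSW_comm : Commute (TN rSW) SW := Subtype.ext (Equiv.ext fun v =>
  eqOn_sound (f := fun v => T rSW (T swB v)) (g := fun v => T swB (T rSW v))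
    (fun v w => by simp only [T_add]) (fun v w => by simp only [T_add]) rSW_eq v)

theorem rSW_ne : eqOn (fun v => T rSW v) (fun v => T swB v) = false := by decide +kernel

namespace Setting

variable {G : Type u} [Group G] {D : Setting G} {t : G}

theorem Exch.comm_tK (x : ↥(KK t)) : Commute x (tK t) := Subtype.ext (mem_KK.mp x.2).eq

variable (X : D.Exch t)
include X

/-- A lift in the centraliser. -/
noncomputable def Exch.lift (f : CS) : ↥(KK t) :=
  ⟨(D.exists_lift f).choose, mem_KK.mpr (X.lift_comm (D.exists_lift f).choose_spec (mem_CS.mp f.2))⟩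

theorem Exch.lift_acts (f : CS) : D.Acts (X.lift f : G) f := (D.exists_lift f).choose_spec

variable {A : Type*} [CommGroup A]

/-- A map onto a group of exponent two kills the centraliser of the central element. -/
theorem Exch.kill_cent (hA : ∀ a : A, a * a = 1) (χ : ↥(KK t) →* A) {x : ↥(KK t)} (hx : Commute (x : G) D.z) :
    χ x = 1 := by
  have cube : ∀ y : ↥(KK t), (y : G) ^ 3 = 1 → χ y = 1 := fun y e => by
    have h : χ y ^ 3 = 1 := by rw [← map_pow, show y ^ 3 = 1 from Subtype.ext e, map_one]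
    rwa [pow_succ, pow_two, hA, one_mul] at h
  have same : ∀ (s : ↥(KK t)) (f : CS), D.Acts (s : G) f → χ s = χ (X.lift f) := fun s f hs => by
    have h1 : D.Acts ((X.lift f : G)⁻¹ * s) 1 := ⟨(X.lift_acts f).1.inv_left.mul_left hs.1,
      (X.lift_acts f).2.1.inv_left.mul_left hs.2.1, fun v => by
        have e := (X.lift_acts f).2.2 v
        rw [show (X.lift f : G)⁻¹ * s * D.q v * ((X.lift f : G)⁻¹ * s)⁻¹ =
          (X.lift f : G)⁻¹ * (s * D.q v * (s : G)⁻¹) * (X.lift f : G) by group, hs.2.2, ← e]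
        simp [mul_assoc]⟩
    obtain ⟨o, ho⟩ := D.levi_trivial h1
    have h2 := cube ((X.lift f)⁻¹ * s) (by
      rw [Subgroup.coe_mul, InvMemClass.coe_inv, ho, zz, ← pow_mul, mul_comm, pow_mul, D.z_cube, one_pow])
    rw [map_mul, map_inv, inv_mul_eq_one] at h2
    exact h2.symm
  let χ' : CS →* A :=
    { toFun := fun f => χ (X.lift f)
      map_one' := ((same 1 1) ⟨Commute.one_left _, Commute.one_left _, fun v => by simp⟩).symm.trans (map_one χ)
      map_mul' := fun f g => by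
        rw [← map_mul]
        refine ((same (X.lift f * X.lift g) (f * g)) ?_).symm
        have hf := X.lift_acts f
        have hg := X.lift_acts g
        exact ⟨hf.1.mul_left hg.1, hf.2.1.mul_left hg.2.1, fun v => by
          rw [Subgroup.coe_mul, show (X.lift f : G) * X.lift g * D.q v * ((X.lift f : G) * X.lift g)⁻¹ =
            (X.lift f : G) * ((X.lift g : G) * D.q v * (X.lift g : G)⁻¹) * (X.lift f : G)⁻¹ by group, hg.2.2, hf.2.2]
          rfl⟩ }
  obtain ⟨u, s, f, e, hs, hf, hst, -⟩ := X.cent_form hx (mem_KK.mp x.2)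
  have h1 : χ ⟨s, mem_KK.mpr hst⟩ = 1 := (same ⟨s, _⟩ (mkC f hf) hs).trans (kill hA χ' _)
  rw [show x = X.qK u * ⟨s, mem_KK.mpr hst⟩ from Subtype.ext e, map_mul, cube _ (D.q_cube _), h1, one_mul]

/-- An element of the centraliser inverting the central element and killed. -/
theorem Exch.inverter {h : G} {k : ZMod 3} {v : W8} (hh : Commute h t) (he : h * D.z * h⁻¹ = D.zz k * D.q v)
    (hv : v ≠ 0) (hsw : T swB v = v) (hA : ∀ a : A, a * a = 1) (χ : ↥(KK t) →* A) :
    ∃ m : ↥(KK t), χ m = 1 ∧ (m : G) * D.z * (m : G)⁻¹ = D.z⁻¹ := by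
  obtain ⟨u, rfl⟩ := fix_planes hsw
  obtain ⟨w0, hw0⟩ := Fi22Loc.om_nondeg (v := u) fun e => hv (e ▸ iota_zero)
  obtain ⟨w, hw⟩ : ∃ w, Om (iota w) (iota u) = -k := by
    rw [← iota_om] at hw0
    have hsm : ∀ c : ZMod 3, ∃ w, iota w = Rep.sm c (iota w0) := fun c => by
      rcases z_cases c with rfl | rfl | rfl
      exacts [⟨0, iota_zero⟩, ⟨w0, rfl⟩, ⟨-w0, iota_neg w0⟩]
    obtain ⟨w, hw⟩ := hsm (k * Om (iota u) (iota w0))
    refine ⟨w, ?_⟩
    rw [hw, Om_sm_left, Om_swap (iota u) (iota w0)]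
    exact (by decide : ∀ a b : ZMod 3, b ≠ 0 → a * b * -b = -a) _ _ hw0
  set y : ↥(KK t) := X.qK w * X.jK with hy
  have hyz : Commute (y : G) D.z := (D.q_z _).mul_left D.j_z
  have hyinv : (y : G) * (D.zz k * D.q (iota u)) * (y : G)⁻¹ = (D.zz k * D.q (iota u))⁻¹ := by
    show D.q (iota w) * D.j * (D.zz k * D.q (iota u)) * (D.q (iota w) * D.j)⁻¹ = _
    rw [show D.q (iota w) * D.j * (D.zz k * D.q (iota u)) * (D.q (iota w) * D.j)⁻¹ =
      D.q (iota w) * (D.j * D.zz k * D.j⁻¹) * (D.q (iota w))⁻¹ *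
        (D.q (iota w) * (D.j * D.q (iota u) * D.j⁻¹) * (D.q (iota w))⁻¹) by group, D.zz_conj D.j_z,
      D.zz_conj (D.q_z _), inv_eq_of_mul_eq_one_right D.j_sq, D.j_q, D.q_conj, ← mul_assoc, ← D.zz_add, D.el_inv,
      Om_neg_right, hw]
    congr 2
    exact (by decide : ∀ a : ZMod 3, a + - -a = -a) k
  set hK : ↥(KK t) := ⟨h, mem_KK.mpr hh⟩
  refine ⟨hK⁻¹ * y * hK, ?_, ?_⟩
  · rw [map_mul, map_mul, map_inv, X.kill_cent hA χ hyz, mul_one, inv_mul_cancel]
  · show h⁻¹ * (y : G) * h * D.z * (h⁻¹ * (y : G) * h)⁻¹ = _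
    rw [show h⁻¹ * (y : G) * h * D.z * (h⁻¹ * (y : G) * h)⁻¹ = h⁻¹ * ((y : G) * (h * D.z * h⁻¹) * (y : G)⁻¹) * h by group,
      he, hyinv, ← he]
    group

omit X in
/-- The group is Fi23. -/
theorem iso_Fi23 [Finite G] (D : Setting G) : Cfsg.Spor.IsoFi23 G := by
  classical
  obtain ⟨t, h, tt, t1, hact, hh, k, v, he, hv, hsw⟩ := exists_edge D
  have X : D.Exch t := ⟨tt, t1, hact⟩
  set D' := X.loc hh he hv hsw with hD'
  set π := QuotientGroup.mk' (N0 t)
  have hπ : Function.Surjective π := QuotientGroup.mk'_surjective _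
  have ker : ∀ x, π x = 1 ↔ (x : G) = 1 ∨ (x : G) = t := fun x => by
    rw [← map_one π, eq_comm, X.kq_eq, Subgroup.coe_one, one_mul]
  have killK : ∀ {A : Type u} [CommGroup A], (∀ a : A, a * a = 1) → ∀ χ : ↥(KK t) →* A, ∀ x, χ x = 1 := by
    intro A _ hA χ
    have ht : ∀ x ∈ N0 t, χ x = 1 := fun x hx => by
      obtain ⟨n, rfl⟩ := Subgroup.mem_zpowers_iff.mp hx
      rw [map_zpow, X.kill_cent hA χ (show Commute ((tK t : ↥(KK t)) : G) D.z from X.acts.1), one_zpow]
    let χq : Kq t →* A := QuotientGroup.lift (N0 t) χ fun x hx => MonoidHom.mem_ker.mpr (ht x hx)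
    have hq : ∀ y, χq (π y) = χ y := fun y => rfl
    obtain ⟨m, hm1, hm⟩ := X.inverter hh he hv hsw hA χ
    have key := kill_top D' hA χq (fun c hc => by
      obtain ⟨y, rfl⟩ := hπ c
      rw [hq]
      exact X.kill_cent hA χ (X.comm_z hc)) ⟨π m, (hq m).trans hm1, by
        show π m * π X.zK * (π m)⁻¹ = (π X.zK)⁻¹
        rw [← map_inv, ← map_inv, ← map_mul, ← map_mul]
        exact congrArg π (Subtype.ext hm)⟩
    intro x
    rw [← hq]
    exact key _
  have hiso : Cfsg.Spor.IsoFi22 (Kq t) := by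
    refine D'.main.resolve_right fun ⟨e⟩ => ?_
    have hidx : (Cfsg.Inn Cfsg.Spor.Fi22).index = 2 := Cfsg.Agent.S2079.result
    let sgn : MulAut Cfsg.Spor.Fi22 →* Multiplicative (ZMod 2) :=
      { toFun := fun a => if a ∈ Cfsg.Inn Cfsg.Spor.Fi22 then 1 else Multiplicative.ofAdd 1
        map_one' := if_pos (one_mem _)
        map_mul' := fun a b => by
          have := Subgroup.mul_mem_iff_of_index_two hidx (a := a) (b := b)
          have h11 : Multiplicative.ofAdd (1 : ZMod 2) * Multiplicative.ofAdd (1 : ZMod 2) = 1 := by decide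
          by_cases ha : a ∈ Cfsg.Inn Cfsg.Spor.Fi22 <;> by_cases hb : b ∈ Cfsg.Inn Cfsg.Spor.Fi22 <;>
            simp only [ha, hb, this, iff_true, iff_false, not_true_eq_false, not_false_eq_true, if_true, if_false, one_mul,
              mul_one, h11] }
    obtain ⟨o, ho⟩ : ∃ o, o ∉ Cfsg.Inn Cfsg.Spor.Fi22 := by
      by_contra hall
      push Not at hall
      rw [(Subgroup.eq_top_iff' _).mpr hall, Subgroup.index_top] at hidx
      omega
    obtain ⟨x, hx⟩ := hπ (e.symm o)
    let ι : Multiplicative (ZMod 2) ≃* ULift.{u} (Multiplicative (ZMod 2)) := MulEquiv.ulift.symm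
    have := killK (A := ULift.{u} (Multiplicative (ZMod 2))) (fun a => ι.symm.injective (by
        rw [map_mul, map_one]; exact (by decide : ∀ c : Multiplicative (ZMod 2), c * c = 1) _))
      ((ι.toMonoidHom.comp sgn).comp (e.toMonoidHom.comp π)) x
    simp only [MonoidHom.comp_apply, MulEquiv.coe_toMonoidHom, hx, MulEquiv.apply_symm_apply] at this
    have h2 : sgn o = 1 := ι.injective (this.trans (map_one ι).symm)
    exact absurd ((if_neg ho).symm.trans h2) (by decide)
  obtain ⟨e⟩ := hiso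
  haveI : IsSimpleGroup Cfsg.Spor.Fi22 := Cfsg.Agent.S1696.result.1
  haveI : IsSimpleGroup (Kq t) := e.isSimpleGroup
  have hY : commutator (Kq t) = ⊤ := by
    rcases (inferInstance : (commutator (Kq t)).Normal).eq_bot_or_eq_top with r | r
    · exfalso
      rw [commutator_def, Subgroup.commutator_eq_bot_iff_le_centralizer] at r
      obtain ⟨⟨x, hx⟩⟩ : Nonempty (Kq t) := ⟨1⟩
      have hz : D'.z ∈ Subgroup.center (Kq t) := Subgroup.mem_center_iff.mpr fun y =>
        Subgroup.mem_centralizer_iff.mp (r (Subgroup.mem_top D'.z)) y (Subgroup.mem_top y)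
      obtain ⟨g, -, hg⟩ := D'.nwc
      exact hg 1 (by
        rw [ZMod.val_one, pow_one, Subgroup.mem_center_iff.mp hz g, mul_inv_cancel_right])
    · exact r
  have hperf : commutator ↥(KK t) = ⊤ := by
    have hmap : (commutator ↥(KK t)).map π = ⊤ := by
      rw [commutator_def, Subgroup.map_commutator, Subgroup.map_top_of_surjective π hπ]
      exact hY
    have cov : ∀ x : ↥(KK t), ∃ c ∈ commutator ↥(KK t), x = c ∨ x = c * tK t := fun x => by
      obtain ⟨c, hc, he⟩ := Subgroup.mem_map.mp (hmap.symm ▸ Subgroup.mem_top (π x))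
      exact ⟨c, hc, (X.kq_eq.mp he).imp (fun r => Subtype.ext r) fun r => Subtype.ext r⟩
    have hA : ∀ a : Abelianization ↥(KK t), a * a = 1 := fun a => by
      obtain ⟨x, rfl⟩ := QuotientGroup.mk'_surjective _ a
      have t2 : tK t * tK t = 1 := Subtype.ext tt
      obtain ⟨c, hc, r | r⟩ := cov x
      · have : QuotientGroup.mk' (commutator ↥(KK t)) c = 1 := (QuotientGroup.eq_one_iff c).mpr hc
        rw [r]
        exact (congrArg₂ (· * ·) this this).trans (one_mul _)
      · have : QuotientGroup.mk' (commutator ↥(KK t)) c = 1 := (QuotientGroup.eq_one_iff c).mpr hc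
        rw [r, map_mul, this, one_mul]
        exact (map_mul _ _ _).symm.trans ((congrArg _ t2).trans (map_one _))
    rw [Subgroup.eq_top_iff']
    exact fun x => (QuotientGroup.eq_one_iff x).mp (killK hA Abelianization.of x)
  have hq : Cfsg.IsQuasisimple ↥(KK t) := Fi22Loc.Rec.quasisimple_of_cover π hπ hperf hY fun x hx =>
    Subgroup.mem_center_iff.mpr fun y => by
      refine Subtype.ext ?_
      rcases (ker x).mp (MonoidHom.mem_ker.mp hx) with r | r
      · rw [show x = 1 from Subtype.ext r]; simp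
      · rw [Subgroup.coe_mul, Subgroup.coe_mul, r]
        exact (mem_KK.mp y.2).eq
  have hN : (Subgroup.zpowers t).subgroupOf (KK t) = N0 t := Subgroup.ext fun x => by
    rw [Subgroup.mem_subgroupOf, N0, Subgroup.mem_zpowers_iff, Subgroup.mem_zpowers_iff]
    exact exists_congr fun n => ⟨fun r => Subtype.ext (by rw [SubgroupClass.coe_zpow]; exact r),
      fun r => by rw [← r, SubgroupClass.coe_zpow]; rfl⟩
  haveI : ((Subgroup.zpowers t).subgroupOf (KK t)).Normal := hN ▸ (inferInstance : (N0 t).Normal)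
  haveI : ((Subgroup.zpowers t).subgroupOf (Subgroup.centralizer ({t} : Set G))).Normal := this
  have hord : orderOf t = 2 := orderOf_eq_prime (by rw [pow_two, tt]) t1
  obtain ⟨m, hm⟩ := D.exists_lift (TN (dg (rA 0)))
  have hact' : D.Acts (m * t * m⁻¹) (TN rSW) := ⟨(hm.1.mul_left hact.1).mul_left hm.1.inv_left,
    (hm.2.1.mul_left hact.2.1).mul_left hm.2.1.inv_left, fun w => by
      have e1 := hm.2.2 (T ((dg (rA 0))⁻¹) w)
      rw [TN_coe, ← T_mul, mul_inv_cancel, T_one] at e1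
      have e2 : m⁻¹ * D.q w * m = D.q (T ((dg (rA 0))⁻¹) w) := by rw [← e1]; group
      rw [show m * t * m⁻¹ * D.q w * (m * t * m⁻¹)⁻¹ = m * (t * (m⁻¹ * D.q w * m) * t⁻¹) * m⁻¹ by group, e2, hact.2.2,
        hm.2.2, TN_coe, SW, TN_coe, TN_coe, rSW, T_mul, T_mul]⟩
  have hc : Commute (m * t * m⁻¹) t :=
    X.lift_comm hact' rSW_comm
  refine Cfsg.Agent.S1714.result t hord hq ⟨(QuotientGroup.quotientMulEquivOfEq hN).trans e⟩
    ⟨m, Subgroup.mem_centralizer_singleton_iff.mpr hc.eq, fun e' => ?_⟩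
  have h1 : TN rSW = SW := (e' ▸ hact').img.unique hact.img
  have h2 : ∀ w, T rSW w = T swB w := fun w => congrArg (fun f : NN => (f : Equiv.Perm W8) w) h1
  have h3 := rSW_ne
  simp only [eqOn, h2, decide_true, List.all_eq_false] at h3
  simp at h3

end Setting

end CfsgLib.Fi23Loc
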