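import Cfsg.Agent.Lib.Fi23Loc.Model
import Mathlib.Algebra.Module.ZMod

/-!
Modules for three commuting quaternion pairs with the central involution acting as minus one contain the tensor
cube; the commutant and the invariant forms of the tensor cube.
-/

set_option autoImplicit false
set_option linter.unusedSectionVars false

namespace CfsgLib.Fi23Loc

open CfsgLib.U6Three (SL23)
open CfsgLib.Fi22Loc (Bk dg)

theorem three_z : ∀ k : ZMod 3, k + k + k = 0 := by decide

theorem z_cases : ∀ k : ZMod 3, k = 0 ∨ k = 1 ∨ k = -1 := by decide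

theorem T_rA (i : Fin 3) (v : W8) (a : Idx) :
    T (dg (rA i)) v a = if a i = 0 then -v (Function.update a i 1) else v (Function.update a i 0) := by
  have e : T (dg (rA i)) v = act1 i qA v := by
    fin_cases i <;> simp [T, dW, rA, Pi.mulSingle, Fi22Loc.dg_π, Fi22Loc.dg_g, act1_one, permW_one]
  rw [e]
  rcases (by decide : ∀ x : Fin 2, x = 0 ∨ x = 1) (a i) with h | h <;> simp [act1, qA, h]

theorem T_rB (i : Fin 3) (v : W8) (a : Idx) :
    T (dg (rB i)) v a = if a i = 0 then v (Function.update a i 0) + v (Function.update a i 1)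
      else v (Function.update a i 0) - v (Function.update a i 1) := by
  have e : T (dg (rB i)) v = act1 i qB v := by
    fin_cases i <;> simp [T, dW, rB, Pi.mulSingle, Fi22Loc.dg_π, Fi22Loc.dg_g, act1_one, permW_one]
  rw [e]
  rcases (by decide : ∀ x : Fin 2, x = 0 ∨ x = 1) (a i) with h | h <;>
    simp [act1, qB, h, sub_eq_add_neg]

/-- Three commuting quaternion pairs. -/
structure Rep (U : Type*) [AddCommGroup U] where
  /-- the first generators -/
  A : Fin 3 → U →+ U
  /-- the second generators -/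
  B : Fin 3 → U →+ U
  three : ∀ x : U, x + x + x = 0
  AA : ∀ i x, A i (A i x) = -x
  BB : ∀ i x, B i (B i x) = -x
  BA : ∀ i x, B i (A i x) = -A i (B i x)
  cAA : ∀ i k, i ≠ k → ∀ x, A i (A k x) = A k (A i x)
  cAB : ∀ i k, i ≠ k → ∀ x, A i (B k x) = B k (A i x)
  cBB : ∀ i k, i ≠ k → ∀ x, B i (B k x) = B k (B i x)

namespace Rep

variable {U : Type*} [AddCommGroup U] (R : Rep U)

/-- The idempotent of one pair. -/
def E (i : Fin 3) (x : U) : U := -x + R.B i x - R.A i (R.B i x)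

include R in
theorem two (x : U) : x + x = -x := eq_neg_of_add_eq_zero_left (R.three x)

include R in
theorem two' (x : U) : -(x + x) = x := by rw [R.two, neg_neg]

theorem BE (i : Fin 3) (x : U) : R.B i (R.E i x) = R.E i x + R.A i (R.E i x) := by
  simp only [E, map_add, map_sub, map_neg, R.BA, R.BB, R.AA, neg_neg]
  have h := R.three (R.B i x)
  rw [← sub_eq_zero]
  calc _ = -(R.B i x + R.B i x + R.B i x) := by abel
    _ = 0 := by rw [h, neg_zero]

theorem EA (i : Fin 3) (x : U) : R.E i (R.A i (R.E i x)) = 0 := by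
  have h := R.BA i (R.E i x)
  rw [R.BE, map_add, R.AA] at h
  have e1 : R.E i (R.A i (R.E i x)) = -R.A i (R.E i x) + R.B i (R.A i (R.E i x)) - R.A i (R.B i (R.A i (R.E i x))) :=
    rfl
  rw [e1, h]
  simp only [map_add, map_neg, R.AA, neg_neg]
  have h3 := R.three (R.A i (R.E i x))
  calc _ = -(R.A i (R.E i x) + R.A i (R.E i x) + R.A i (R.E i x)) := by abel
    _ = 0 := by rw [h3, neg_zero]

theorem EE (i : Fin 3) (x : U) : R.E i (R.E i x) = R.E i x := by
  show -R.E i x + R.B i (R.E i x) - R.A i (R.B i (R.E i x)) = _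
  rw [R.BE, map_add, R.AA]
  abel

theorem split (i : Fin 3) (x : U) : x = R.E i x + R.A i (R.E i (-R.A i x)) := by
  simp only [E, map_add, map_sub, map_neg, R.BA, R.AA, neg_neg]
  rw [← sub_eq_zero]
  have h := R.three x
  calc _ = x + x + x := by abel
    _ = 0 := h

theorem E_add (i : Fin 3) (x y : U) : R.E i (x + y) = R.E i x + R.E i y := by
  simp only [E, map_add]; abel

theorem E_zero (i : Fin 3) : R.E i 0 = 0 := by simp [E]

theorem E_comm {i k : Fin 3} (h : i ≠ k) (x : U) : R.E i (R.A k x) = R.A k (R.E i x) := by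
  simp only [E, map_add, map_sub, map_neg, ← R.cAB k i h.symm, R.cAA i k h]

theorem EE_comm {i k : Fin 3} (h : i ≠ k) (x : U) : R.E i (R.E k x) = R.E k (R.E i x) := by
  simp only [E, map_add, map_sub, map_neg, ← R.cAB k i h.symm, R.cAB i k h, R.cAA i k h, R.cBB i k h]
  abel

/-- A common fixed vector of the idempotents. -/
theorem exists_fix {x : U} (hx : x ≠ 0) : ∃ w, w ≠ 0 ∧ ∀ i, R.E i w = w := by
  have step : ∀ i, ∀ y : U, y ≠ 0 → ∃ y', y' ≠ 0 ∧ R.E i y' = y' ∧ ∀ k, k ≠ i → R.E k y = y → R.E k y' = y' := by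
    intro i y hy
    by_cases h : R.E i y = 0
    · refine ⟨R.E i (-R.A i y), fun e => hy ?_, R.EE i _, fun k hk e => ?_⟩
      · rw [R.split i y, h, e, map_zero, add_zero]
      · rw [R.EE_comm hk]
        congr 1
        rw [show -R.A i y = R.A i (-y) by rw [map_neg], R.E_comm hk]
        congr 1
        have := R.E_add k y (-y)
        rw [add_neg_cancel, R.E_zero, e] at this
        exact (neg_eq_of_add_eq_zero_right this.symm).symm
    · exact ⟨R.E i y, h, R.EE i y, fun k hk e => by rw [R.EE_comm hk, e]⟩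
  obtain ⟨a, ha, ea, -⟩ := step 0 x hx
  obtain ⟨b, hb, eb, fb⟩ := step 1 a ha
  obtain ⟨c, hc, ec, fc⟩ := step 2 b hb
  refine ⟨c, hc, fun i => ?_⟩
  fin_cases i
  exacts [fc 0 (by decide) (fb 0 (by decide) ea), fc 1 (by decide) eb, ec]

/-- A power of a generator. -/
def pw (i : Fin 3) (x : Fin 2) (y : U) : U := if x = 0 then y else R.A i y

/-- The basis vectors. -/
def vec (w : U) (a : Idx) : U := R.pw 0 (a 0) (R.pw 1 (a 1) (R.pw 2 (a 2) w))

/-- A scalar multiple. -/
def sm (k : ZMod 3) (x : U) : U := if k = 0 then 0 else if k = 1 then x else -x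

theorem sm_zero (x : U) : (sm 0 x : U) = 0 := rfl

theorem sm_one (x : U) : (sm 1 x : U) = x := rfl

theorem sm_neg_one (x : U) : (sm (-1) x : U) = -x := rfl

include R in
theorem sm_add (k l : ZMod 3) (x : U) : sm (k + l) x = sm k x + sm l x := by
  rcases z_cases k with rfl | rfl | rfl <;> rcases z_cases l with rfl | rfl | rfl <;>
    simp only [add_zero, zero_add, show (1 : ZMod 3) + 1 = -1 by decide, show (-1 : ZMod 3) + -1 = 1 by decide,
      show (1 : ZMod 3) + -1 = 0 by decide, show (-1 : ZMod 3) + 1 = 0 by decide, sm_zero, sm_one, sm_neg_one,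
      add_neg_cancel, neg_add_cancel, R.two, neg_zero, neg_neg]

theorem sm_neg (k : ZMod 3) (x : U) : sm (-k) x = -sm k x := by
  rcases z_cases k with rfl | rfl | rfl <;> simp [sm_zero, sm_one, sm_neg_one]

theorem sm_negx (k : ZMod 3) (x : U) : sm k (-x) = -sm k x := by
  rcases z_cases k with rfl | rfl | rfl <;> simp [sm_zero, sm_one, sm_neg_one]

theorem sm_addx (k : ZMod 3) (x y : U) : sm k (x + y) = sm k x + sm k y := by
  rcases z_cases k with rfl | rfl | rfl <;> simp [sm_zero, sm_one, sm_neg_one, neg_add, add_comm]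

theorem sm_zerox (k : ZMod 3) : sm k (0 : U) = 0 := by
  rcases z_cases k with rfl | rfl | rfl <;> simp [sm_zero, sm_one, sm_neg_one]

theorem map_sm {V : Type*} [AddCommGroup V] (f : U →+ V) (k : ZMod 3) (x : U) : f (sm k x) = sm k (f x) := by
  rcases z_cases k with rfl | rfl | rfl <;> simp [sm_zero, sm_one, sm_neg_one]

theorem E_sm (i : Fin 3) (k : ZMod 3) (x : U) : R.E i (sm k x) = sm k (R.E i x) :=
  map_sm (AddMonoidHom.mk' (R.E i) (R.E_add i)) k x

theorem sm_eq_zero {k : ZMod 3} {x : U} (h : sm k x = 0) (hx : x ≠ 0) : k = 0 := by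
  rcases z_cases k with rfl | rfl | rfl
  · rfl
  · exact absurd h hx
  · exact absurd (neg_eq_zero.mp h) hx

/-- The map from the tensor cube. -/
def psi (w : U) (v : W8) : U :=
  sm (v (ix 0 0 0)) (R.vec w (ix 0 0 0)) + sm (v (ix 0 0 1)) (R.vec w (ix 0 0 1)) +
    sm (v (ix 0 1 0)) (R.vec w (ix 0 1 0)) + sm (v (ix 0 1 1)) (R.vec w (ix 0 1 1)) +
    sm (v (ix 1 0 0)) (R.vec w (ix 1 0 0)) + sm (v (ix 1 0 1)) (R.vec w (ix 1 0 1)) +
    sm (v (ix 1 1 0)) (R.vec w (ix 1 1 0)) + sm (v (ix 1 1 1)) (R.vec w (ix 1 1 1))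

theorem psi_add (w : U) (u v : W8) : R.psi w (u + v) = R.psi w u + R.psi w v := by
  simp only [psi, Pi.add_apply, R.sm_add]; abel

theorem psi_zero (w : U) : R.psi w 0 = 0 := by simp [psi, sm_zero]

theorem psi_neg (w : U) (v : W8) : R.psi w (-v) = -R.psi w v := by
  simp only [psi, Pi.neg_apply, sm_neg]; abel

variable {w : U} (hw : ∀ i, R.E i w = w)
include hw

theorem B_fix (i : Fin 3) : R.B i w = w + R.A i w := by
  have := R.BE i w
  rwa [hw] at this

theorem psi_A (i : Fin 3) (v : W8) : R.psi w (T (dg (rA i)) v) = R.A i (R.psi w v) := by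
  fin_cases i <;>
    simp [psi, T_rA, upd_ix0, upd_ix1, upd_ix2, ix0, ix1, ix2, vec, pw, map_sm, R.AA, sm_neg, sm_negx,
      R.cAA 1 0 (by decide), R.cAA 2 0 (by decide), R.cAA 2 1 (by decide)] <;> abel

theorem psi_inj (h0 : w ≠ 0) {v : W8} (h : R.psi w v = 0) : v = 0 := by
  have eA : ∀ i, R.E i (R.A i w) = 0 := fun i => by
    have := R.EA i w
    rwa [hw] at this
  have e10 : (1 : Fin 3) ≠ 0 := by decide
  have e20 : (2 : Fin 3) ≠ 0 := by decide
  have e21 : (2 : Fin 3) ≠ 1 := by decide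
  have key : ∀ u : W8, R.psi w u = 0 → u (ix 0 0 0) = 0 := fun u hu => by
    refine sm_eq_zero (x := w) ?_ h0
    have hh := congrArg (fun x => R.E 0 (R.E 1 (R.E 2 x))) hu
    simpa [psi, vec, pw, ix0, ix1, ix2, R.E_add, R.E_sm, hw, eA, R.E_comm e21, R.E_comm e20, R.E_comm e10,
      R.E_comm e21.symm, R.E_comm e20.symm, R.E_comm e10.symm, R.E_zero, sm_zerox] using hh
  have up : ∀ (i : Fin 3) (u : W8), R.psi w u = 0 → R.psi w (T (dg (rA i)) u) = 0 := fun i u hu => by
    rw [R.psi_A hw, hu, map_zero]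
  funext a
  have ea : a = ix (a 0) (a 1) (a 2) := funext fun i => by fin_cases i <;> rfl
  rw [ea]
  rcases (by decide : ∀ x : Fin 2, x = 0 ∨ x = 1) (a 0) with r0 | r0 <;>
    rcases (by decide : ∀ x : Fin 2, x = 0 ∨ x = 1) (a 1) with r1 | r1 <;>
      rcases (by decide : ∀ x : Fin 2, x = 0 ∨ x = 1) (a 2) with r2 | r2 <;> rw [r0, r1, r2] <;>
    first
      | exact key v h
      | simpa [T_rA, ix0, ix1, ix2, upd_ix0, upd_ix1, upd_ix2] using key _ (up 0 v h)
      | simpa [T_rA, ix0, ix1, ix2, upd_ix0, upd_ix1, upd_ix2] using key _ (up 1 v h)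
      | simpa [T_rA, ix0, ix1, ix2, upd_ix0, upd_ix1, upd_ix2] using key _ (up 2 v h)
      | simpa [T_rA, ix0, ix1, ix2, upd_ix0, upd_ix1, upd_ix2] using key _ (up 0 _ (up 1 v h))
      | simpa [T_rA, ix0, ix1, ix2, upd_ix0, upd_ix1, upd_ix2] using key _ (up 0 _ (up 2 v h))
      | simpa [T_rA, ix0, ix1, ix2, upd_ix0, upd_ix1, upd_ix2] using key _ (up 1 _ (up 2 v h))
      | simpa [T_rA, ix0, ix1, ix2, upd_ix0, upd_ix1, upd_ix2] using key _ (up 0 _ (up 1 _ (up 2 v h)))

theorem psi_B (i : Fin 3) (v : W8) : R.psi w (T (dg (rB i)) v) = R.B i (R.psi w v) := by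
  fin_cases i <;>
    simp [psi, T_rB, upd_ix0, upd_ix1, upd_ix2, ix0, ix1, ix2, vec, pw, map_sm, R.AA, sm_neg, R.sm_add, R.BA,
      sm_addx, sm_negx, sub_eq_add_neg, R.B_fix hw, R.cAA 1 0 (by decide), R.cAA 2 0 (by decide),
      R.cAA 2 1 (by decide), ← R.cAB 0 1 (by decide), ← R.cAB 0 2 (by decide), ← R.cAB 1 0 (by decide),
      ← R.cAB 1 2 (by decide), ← R.cAB 2 0 (by decide), ← R.cAB 2 1 (by decide)] <;> abel

end Rep

theorem T_single_neg (i : Fin 3) (v : W8) : T (dg (Pi.mulSingle i (-1))) v = -v := by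
  have e : T (dg (Pi.mulSingle i (-1))) v = act1 i (-1) v := by
    fin_cases i <;> simp [T, dW, Pi.mulSingle, Fi22Loc.dg_π, Fi22Loc.dg_g, act1_one, permW_one]
  rw [e]
  funext a
  have hu : ∀ x, a i = x → Function.update a i x = a := fun x h => h ▸ Function.update_eq_self i a
  rcases (by decide : ∀ x : Fin 2, x = 0 ∨ x = 1) (a i) with h | h <;> simp [act1, h, hu _ h]

theorem rA_sq : ∀ i, rA i * rA i = Pi.mulSingle i (-1) ∧ rB i * rB i = Pi.mulSingle i (-1) ∧
    rB i * rA i = Pi.mulSingle i (-1) * (rA i * rB i) := by decide +kernel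

theorem r_cross : ∀ i k, i ≠ k →
    rA i * rA k = rA k * rA i ∧ rA i * rB k = rB k * rA i ∧ rB i * rB k = rB k * rB i := by decide +kernel

/-- The tensor cube itself. -/
def rep8 : Rep W8 where
  A i := AddMonoidHom.mk' (T (dg (rA i))) (T_add _)
  B i := AddMonoidHom.mk' (T (dg (rB i))) (T_add _)
  three x := funext fun _ => three_z _
  AA i x := by simp only [AddMonoidHom.mk'_apply, ← T_mul, Fi22Loc.dg_mul, (rA_sq i).1, T_single_neg]
  BB i x := by simp only [AddMonoidHom.mk'_apply, ← T_mul, Fi22Loc.dg_mul, (rA_sq i).2.1, T_single_neg]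
  BA i x := by
    simp only [AddMonoidHom.mk'_apply]
    rw [← T_mul, Fi22Loc.dg_mul, (rA_sq i).2.2, ← Fi22Loc.dg_mul, T_mul, T_single_neg, ← Fi22Loc.dg_mul, T_mul]
  cAA i k h x := by simp only [AddMonoidHom.mk'_apply, ← T_mul, Fi22Loc.dg_mul, (r_cross i k h).1]
  cAB i k h x := by simp only [AddMonoidHom.mk'_apply, ← T_mul, Fi22Loc.dg_mul, (r_cross i k h).2.1]
  cBB i k h x := by simp only [AddMonoidHom.mk'_apply, ← T_mul, Fi22Loc.dg_mul, (r_cross i k h).2.2]

theorem rep8_A (i : Fin 3) (v : W8) : rep8.A i v = T (dg (rA i)) v := rfl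

theorem rep8_B (i : Fin 3) (v : W8) : rep8.B i v = T (dg (rB i)) v := rfl

/-- A unit vector. -/
def ev (a : Idx) : W8 := fun b => if b = a then 1 else 0

theorem idx_eta (a : Idx) : a = ix (a 0) (a 1) (a 2) := funext fun i => by fin_cases i <;> rfl

theorem rep8_E (i : Fin 3) (v : W8) (a : Idx) : rep8.E i v a = if a i = 0 then v a else 0 := by
  have hu : ∀ x, a i = x → Function.update a i x = a := fun x h => h ▸ Function.update_eq_self i a
  show -v a + T (dg (rB i)) v a - T (dg (rA i)) (T (dg (rB i)) v) a = _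
  rcases (by decide : ∀ x : Fin 2, x = 0 ∨ x = 1) (a i) with h | h <;>
    simp [T_rA, T_rB, h, hu _ h] <;> ring_nf <;> simp [show (3 : ZMod 3) = 0 from rfl]

theorem ev_fix (i : Fin 3) : rep8.E i (ev (ix 0 0 0)) = ev (ix 0 0 0) := funext fun a => by
  rw [rep8_E]
  split_ifs with h
  · rfl
  · refine (if_neg fun e => h ?_).symm
    subst e
    fin_cases i <;> rfl

theorem vec_ev : ∀ x y z : Fin 2, rep8.vec (ev (ix 0 0 0)) (ix x y z) = ev (ix x y z) := by decide +kernel

theorem psi_id (v : W8) : rep8.psi (ev (ix 0 0 0)) v = v := funext fun a => by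
  have hs : ∀ (k : ZMod 3) (b : Idx), Rep.sm k (ev b) a = if a = b then k else 0 := fun k b => by
    rcases z_cases k with rfl | rfl | rfl <;> simp [Rep.sm_zero, Rep.sm_one, Rep.sm_neg_one, ev] <;>
      split_ifs <;> simp
  simp only [Rep.psi, vec_ev, Pi.add_apply, hs]
  rw [idx_eta a]
  generalize a 0 = x
  generalize a 1 = y
  generalize a 2 = z
  fin_cases x <;> fin_cases y <;> fin_cases z <;>
    simp [show ∀ p q r p' q' r' : Fin 2, (ix p q r = ix p' q' r') ↔ (p = p' ∧ q = q' ∧ r = r') by decide +kernel]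

/-- An additive map commuting with the quaternion groups is a scalar. -/
theorem commutant (f : W8 →+ W8) (hA : ∀ i v, f (T (dg (rA i)) v) = T (dg (rA i)) (f v))
    (hB : ∀ i v, f (T (dg (rB i)) v) = T (dg (rB i)) (f v)) : ∃ k : ZMod 3, ∀ v, f v = Rep.sm k v := by
  set e0 := ev (ix 0 0 0)
  refine ⟨f e0 (ix 0 0 0), fun v => ?_⟩
  have hE : ∀ i x, f (rep8.E i x) = rep8.E i (f x) := fun i x => by
    simp only [Rep.E, map_add, map_sub, map_neg, rep8_A, rep8_B, hA, hB]
  have he : f e0 = Rep.sm (f e0 (ix 0 0 0)) e0 := funext fun a => by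
    by_cases ha : a = ix 0 0 0
    · subst ha
      rcases z_cases (f e0 (ix 0 0 0)) with h | h | h <;> rw [h] <;>
        simp [Rep.sm_zero, Rep.sm_one, Rep.sm_neg_one, e0, ev]
    · obtain ⟨i, hi⟩ : ∃ i, a i ≠ 0 := by
        by_contra hh
        push Not at hh
        exact ha (by rw [idx_eta a, hh, hh, hh])
      have h := congrFun (hE i e0) a
      rw [ev_fix, rep8_E, if_neg hi] at h
      rw [h]
      rcases z_cases (f e0 (ix 0 0 0)) with r | r | r <;> simp [r, Rep.sm_zero, Rep.sm_one, Rep.sm_neg_one, e0, ev, ha]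
  have hp : ∀ x, f (rep8.psi e0 x) = rep8.psi (f e0) x := fun x => by
    simp only [Rep.psi, map_add, Rep.map_sm, Rep.vec, Rep.pw, apply_ite f, rep8_A, hA]
  have hq : ∀ k x, rep8.psi (Rep.sm k e0) x = Rep.sm k (rep8.psi e0 x) := fun k x => by
    rcases z_cases k with rfl | rfl | rfl
    · simp [Rep.sm_zero, Rep.psi, Rep.vec, Rep.pw, Rep.sm_zerox]
    · rfl
    · have hv : ∀ b, rep8.vec (-e0) b = -rep8.vec e0 b := fun b => by
        simp only [Rep.vec, Rep.pw]; split_ifs <;> simp only [map_neg]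
      simp only [Rep.sm_neg_one, Rep.psi, hv, Rep.sm_negx]
      abel
  conv_lhs => rw [← psi_id v]
  rw [hp, he, hq, psi_id]
  rw [← he]

theorem Om_ev : ∀ (v : W8) (a : Idx), Om v (ev (fun i => 1 - a i)) = (-1) ^ ((a 0 : ℕ) + a 1 + a 2) * v a := by
  intro v a
  rw [idx_eta a]
  generalize a 0 = x
  generalize a 1 = y
  generalize a 2 = z
  fin_cases x <;> fin_cases y <;> fin_cases z <;>
    simp [Om, ev, ix0, ix1, ix2, show ∀ p q r : Fin 2, (fun i => 1 - ix p q r i) = ix (1 - p) (1 - q) (1 - r) by decide +kernel,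
      show ∀ p q r p' q' r' : Fin 2, (ix p q r = ix p' q' r') ↔ (p = p' ∧ q = q' ∧ r = r') by decide +kernel]

theorem Om_nondeg {v : W8} (h : ∀ w, Om v w = 0) : v = 0 := funext fun a => by
  have e := Om_ev v a
  rw [h] at e
  rcases (mul_eq_zero.mp e.symm) with r | r
  · exact absurd r (pow_ne_zero _ (by decide))
  · exact r

/-- Every functional is given by the form. -/
theorem Om_rep (φ : W8 →+ ZMod 3) : ∃ w, ∀ y, Om w y = φ y := by
  refine ⟨fun a => (-1) ^ ((a 0 : ℕ) + a 1 + a 2) * φ (ev fun i => 1 - a i), fun y => ?_⟩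
  have hs : ∀ (k : ZMod 3) (x : W8), φ (Rep.sm k x) = k * φ x := fun k x => by
    rcases z_cases k with rfl | rfl | rfl <;> simp [Rep.sm_zero, Rep.sm_one, Rep.sm_neg_one]
  conv_rhs => rw [← psi_id y]
  simp only [Rep.psi, vec_ev, map_add, hs]
  simp only [Om, ix0, ix1, ix2,
    show ∀ p q r : Fin 2, (fun i => 1 - ix p q r i) = ix (1 - p) (1 - q) (1 - r) by decide +kernel]
  norm_num
  ring

/-- An invariant biadditive form is a multiple of the form. -/
theorem invariant_form (β : W8 → W8 → ZMod 3) (hl : ∀ u v w, β (u + v) w = β u w + β v w)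
    (hr : ∀ u v w, β u (v + w) = β u v + β u w) (hA : ∀ i v w, β (T (dg (rA i)) v) (T (dg (rA i)) w) = β v w)
    (hB : ∀ i v w, β (T (dg (rB i)) v) (T (dg (rB i)) w) = β v w) : ∃ κ, ∀ v w, β v w = κ * Om v w := by
  choose f hf using fun v => Om_rep (AddMonoidHom.mk' (β v) (hr v))
  simp only [AddMonoidHom.mk'_apply] at hf
  have ext' : ∀ {x y : W8}, (∀ w, Om x w = Om y w) → x = y := fun {x y} h => by
    refine sub_eq_zero.mp (Om_nondeg fun w => ?_)
    rw [sub_eq_add_neg, Om_add_left, Om_neg_left, h, add_neg_cancel]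
  let F : W8 →+ W8 := AddMonoidHom.mk' f fun u v => ext' fun w => by rw [Om_add_left, hf, hf, hf, hl]
  have hinv : ∀ (b : Bk), (∀ v w, β (T b v) (T b w) = β v w) → ∀ v, f (T b v) = T b (f v) := fun b hb v => ext' fun w => by
    rw [← T_one w, ← mul_inv_cancel b, T_mul, Om_T, hf, hf, hb]
  obtain ⟨k, hk⟩ := commutant F (fun i => hinv _ (hA i)) (fun i => hinv _ (hB i))
  refine ⟨k, fun v w => ?_⟩
  have hsm : ∀ (x y : W8), Om (Rep.sm k x) y = k * Om x y := fun x y => by
    rcases z_cases k with rfl | rfl | rfl <;> simp [Rep.sm_zero, Rep.sm_one, Rep.sm_neg_one, Om_zero_left, Om_neg_left]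
  rw [← hf, show f v = _ from hk v, hsm]

end CfsgLib.Fi23Loc
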