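import Cfsg.Agent.Lib.Fi23Loc.Facts

/-!
The setting: an element of order three whose centraliser has an extraspecial core of order 3^9 in coordinates, the
centraliser of the inverting involution acting as the whole model group.
-/

set_option autoImplicit false
set_option linter.unusedSectionVars false
set_option synthInstance.maxSize 1024

namespace CfsgLib.Fi23Loc

open CfsgLib.Fi22Loc (Bk dg)

universe u

/-- The data. -/
structure Setting (G : Type u) [Group G] where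
  /-- the central element -/
  z : G
  /-- the inverting involution -/
  j : G
  /-- the coordinates of the core -/
  q : W8 → G
  z_cube : z ^ 3 = 1
  z_ne : z ≠ 1
  j_sq : j * j = 1
  j_z : Commute j z
  q_z : ∀ v, Commute (q v) z
  q_mul : ∀ v w, q v * q w = z ^ (-Om v w).val * q (v + w)
  q_inj : ∀ (k : ZMod 3) (v : W8), z ^ k.val * q v = 1 → k = 0 ∧ v = 0
  j_q : ∀ v, j * q v * j = q (-v)
  decomp : ∀ h, Commute h z → ∃ u s, Commute s z ∧ Commute s j ∧ h = q u * s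
  act : ∀ s, Commute s z → Commute s j → ∃ f : NN, ∀ v, s * q v * s⁻¹ = q ((f : Equiv.Perm W8) v)
  surj : ∀ f : NN, ∃ s, Commute s z ∧ Commute s j ∧ ∀ v, s * q v * s⁻¹ = q ((f : Equiv.Perm W8) v)
  card_N : Nat.card NN = 82944
  self : ∀ x, (∀ v, Commute x (q v)) → ∃ k : ZMod 3, x = z ^ k.val
  nwc : ∃ g, Commute (g * z * g⁻¹) z ∧ ∀ k : ZMod 3, g * z * g⁻¹ ≠ z ^ k.val

namespace Setting

variable {G : Type u} [Group G] (D : Setting G)

/-- A power of the central element. -/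
def zz (k : ZMod 3) : G := D.z ^ k.val

theorem zz_zero : D.zz 0 = 1 := by simp [zz]

theorem zz_one : D.zz 1 = D.z := by rw [zz, show (1 : ZMod 3).val = 1 from rfl, pow_one]

theorem zz_add (a b : ZMod 3) : D.zz (a + b) = D.zz a * D.zz b := by
  rw [zz, zz, zz, ← pow_add, ZMod.val_add, ← pow_eq_pow_mod _ D.z_cube]

theorem zz_neg (a : ZMod 3) : D.zz (-a) = (D.zz a)⁻¹ :=
  eq_inv_of_mul_eq_one_left (by rw [← zz_add, neg_add_cancel, zz_zero])

theorem zz_nat (n : ℕ) : D.z ^ n = D.zz n := by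
  rw [zz, ZMod.val_natCast, ← pow_eq_pow_mod _ D.z_cube]

theorem zz_q (k : ZMod 3) (v : W8) : Commute (D.zz k) (D.q v) := ((D.q_z v).symm).pow_left _

theorem zz_comm {h : G} (hh : Commute h D.z) (k : ZMod 3) : Commute h (D.zz k) := hh.pow_right _

theorem zz_conj {h : G} (hh : Commute h D.z) (k : ZMod 3) : h * D.zz k * h⁻¹ = D.zz k := by
  rw [(D.zz_comm hh k).eq, mul_inv_cancel_right]

theorem q_mul' (v w : W8) : D.q v * D.q w = D.zz (-Om v w) * D.q (v + w) := D.q_mul v w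

theorem q_zero : D.q 0 = 1 := by
  have h := D.q_mul' 0 0
  rw [Om_zero_left, neg_zero, zz_zero, one_mul, add_zero] at h
  exact mul_left_cancel (h.trans (mul_one _).symm)

theorem q_inv (v : W8) : (D.q v)⁻¹ = D.q (-v) :=
  inv_eq_of_mul_eq_one_right (by
    rw [q_mul', Om_neg_right, Om_self, neg_zero, neg_zero, zz_zero, one_mul, add_neg_cancel, q_zero])

theorem el_mul (k l : ZMod 3) (v w : W8) :
    D.zz k * D.q v * (D.zz l * D.q w) = D.zz (k + l + -Om v w) * D.q (v + w) := by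
  calc D.zz k * D.q v * (D.zz l * D.q w) = D.zz k * (D.q v * D.zz l) * D.q w := by group
    _ = D.zz k * D.zz l * (D.q v * D.q w) := by rw [← (D.zz_q l v).eq]; group
    _ = _ := by rw [q_mul', ← zz_add, ← mul_assoc, ← zz_add]

theorem el_inv (k : ZMod 3) (v : W8) : (D.zz k * D.q v)⁻¹ = D.zz (-k) * D.q (-v) := by
  rw [mul_inv_rev, q_inv, ← zz_neg, (D.zz_q (-k) (-v)).eq]

theorem el_inj {k l : ZMod 3} {v w : W8} (h : D.zz k * D.q v = D.zz l * D.q w) : k = l ∧ v = w := by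
  have e : D.zz (-l + k + -Om (-w) v) * D.q (-w + v) = 1 := by
    rw [← el_mul, ← el_inv, h, inv_mul_cancel]
  obtain ⟨h1, h2⟩ := D.q_inj _ _ e
  obtain rfl : v = w := (neg_add_eq_zero.mp h2).symm
  rw [Om_neg_left, Om_self, neg_zero, neg_zero, add_zero] at h1
  exact ⟨(neg_add_eq_zero.mp h1).symm, rfl⟩

theorem q_injective {v w : W8} (h : D.q v = D.q w) : v = w :=
  (D.el_inj (k := 0) (l := 0) (by rw [h])).2

theorem zz_inj {k l : ZMod 3} (h : D.zz k = D.zz l) : k = l :=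
  (D.el_inj (v := 0) (w := 0) (by rw [h])).1

theorem q_conj (w v : W8) : D.q w * D.q v * (D.q w)⁻¹ = D.zz (Om w v) * D.q v := by
  rw [q_mul', q_inv, mul_assoc, q_mul', ← mul_assoc, ← zz_add, add_neg_cancel_comm]
  congr 2
  rw [Om_add_left, Om_neg_right, Om_neg_right, Om_self, Om_swap v w]
  simp only [neg_neg, neg_zero, zero_add, add_zero, neg_add_rev]
  exact (by decide : ∀ x : ZMod 3, x + x = -x) _

theorem q_comm {v w : W8} : Commute (D.q w) (D.q v) ↔ Om w v = 0 := by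
  constructor
  · intro h
    have e := D.q_conj w v
    rw [h.eq, mul_inv_cancel_right] at e
    exact ((D.el_inj (k := 0) (by rw [zz_zero, one_mul]; exact e)).1).symm
  · intro h
    have e := D.q_conj w v
    rw [h, zz_zero, one_mul, mul_inv_eq_iff_eq_mul] at e
    exact e

theorem el_cube (k : ZMod 3) (v : W8) : (D.zz k * D.q v) ^ 3 = 1 := by
  rw [pow_succ, pow_two, el_mul, el_mul, Om_self, Om_add_left, Om_self, add_zero, neg_zero, add_zero, add_zero,
    W8_three, q_zero, mul_one, three_z, zz_zero]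

theorem q_cube (v : W8) : D.q v ^ 3 = 1 := by
  have := D.el_cube 0 v
  rwa [zz_zero, one_mul] at this

/-- The core. -/
def Q : Subgroup G where
  carrier := {x | ∃ k v, x = D.zz k * D.q v}
  one_mem' := ⟨0, 0, by rw [zz_zero, q_zero, one_mul]⟩
  mul_mem' := by
    rintro _ _ ⟨k, v, rfl⟩ ⟨l, w, rfl⟩
    exact ⟨_, _, D.el_mul k l v w⟩
  inv_mem' := by
    rintro _ ⟨k, v, rfl⟩
    exact ⟨_, _, D.el_inv k v⟩

theorem mem_Q {x : G} : x ∈ D.Q ↔ ∃ k v, x = D.zz k * D.q v := Iff.rfl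

theorem el_mem (k : ZMod 3) (v : W8) : D.zz k * D.q v ∈ D.Q := ⟨k, v, rfl⟩

theorem q_mem (v : W8) : D.q v ∈ D.Q := ⟨0, v, by rw [zz_zero, one_mul]⟩

theorem zz_mem (k : ZMod 3) : D.zz k ∈ D.Q := ⟨k, 0, by rw [q_zero, mul_one]⟩

theorem z_mem : D.z ∈ D.Q := by rw [← D.zz_one]; exact D.zz_mem 1

theorem Q_z {x : G} (h : x ∈ D.Q) : Commute x D.z := by
  obtain ⟨k, v, rfl⟩ := h
  exact ((Commute.refl D.z).pow_left _).mul_left (D.q_z v)

theorem Q_cube {x : G} (h : x ∈ D.Q) : x ^ 3 = 1 := by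
  obtain ⟨k, v, rfl⟩ := h
  exact D.el_cube k v

theorem Q_comm {x y : G} (hx : x ∈ D.Q) (hy : y ∈ D.Q) : ∃ k, x * y * x⁻¹ * y⁻¹ = D.zz k := by
  obtain ⟨k, v, rfl⟩ := hx
  obtain ⟨l, w, rfl⟩ := hy
  refine ⟨Om v w, mul_inv_eq_iff_eq_mul.mpr ?_⟩
  have hk : Commute (D.zz k) (D.zz (Om v w) * D.zz l * D.q w) :=
    (((D.zz_comm ((Commute.refl D.z).pow_left _) _ : Commute (D.zz k) (D.zz (Om v w)))).mul_right
      (D.zz_comm ((Commute.refl D.z).pow_left _) _)).mul_right (D.zz_q k w)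
  calc D.zz k * D.q v * (D.zz l * D.q w) * (D.zz k * D.q v)⁻¹
      = D.zz k * (D.q v * D.zz l * (D.q v)⁻¹) * (D.q v * D.q w * (D.q v)⁻¹) * (D.zz k)⁻¹ := by group
    _ = D.zz k * (D.zz l * D.zz (Om v w) * D.q w) * (D.zz k)⁻¹ := by
        rw [D.zz_conj (D.q_z v), D.q_conj]; group
    _ = _ := by
        rw [← D.zz_add l, add_comm l, D.zz_add, hk.eq, mul_inv_cancel_right, mul_assoc]

/-- The centraliser of the central element. -/
def CC : Subgroup G := Subgroup.centralizer ({D.z} : Set G)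

theorem mem_CC {h : G} : h ∈ D.CC ↔ Commute h D.z := Subgroup.mem_centralizer_singleton_iff

/-- An element acting exactly. -/
def Acts (s : G) (f : NN) : Prop :=
  Commute s D.z ∧ Commute s D.j ∧ ∀ v, s * D.q v * s⁻¹ = D.q ((f : Equiv.Perm W8) v)

/-- An element acting modulo the centre. -/
def Img (h : G) (f : NN) : Prop := ∀ v, ∃ k, h * D.q v * h⁻¹ = D.zz k * D.q ((f : Equiv.Perm W8) v)

variable {D}

theorem Img.unique {h : G} {f f' : NN} (e : D.Img h f) (e' : D.Img h f') : f = f' :=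
  Subtype.ext (Equiv.ext fun v => by
    obtain ⟨k, hk⟩ := e v
    obtain ⟨l, hl⟩ := e' v
    exact (D.el_inj (hk.symm.trans hl)).2)

theorem Acts.img {s : G} {f : NN} (h : D.Acts s f) : D.Img s f :=
  fun v => ⟨0, by rw [h.2.2, zz_zero, one_mul]⟩

theorem Img.mul {h h' : G} {f f' : NN} (hz : Commute h D.z) (e : D.Img h f) (e' : D.Img h' f') :
    D.Img (h * h') (f * f') := fun v => by
  obtain ⟨k, hk⟩ := e' v
  obtain ⟨l, hl⟩ := e ((f' : Equiv.Perm W8) v)
  refine ⟨k + l, ?_⟩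
  calc h * h' * D.q v * (h * h')⁻¹ = h * (h' * D.q v * h'⁻¹) * h⁻¹ := by group
    _ = (h * D.zz k * h⁻¹) * (h * D.q ((f' : Equiv.Perm W8) v) * h⁻¹) := by rw [hk]; group
    _ = _ := by rw [D.zz_conj hz, hl, ← mul_assoc, ← D.zz_add]; rfl

variable (D)

theorem img_one : D.Img 1 1 := fun v => ⟨0, by rw [zz_zero, one_mul, one_mul, inv_one, mul_one]; rfl⟩

theorem img_Q {x : G} (h : x ∈ D.Q) : D.Img x 1 := by
  obtain ⟨k, u, rfl⟩ := h
  intro v
  refine ⟨Om u v, ?_⟩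
  calc D.zz k * D.q u * D.q v * (D.zz k * D.q u)⁻¹ = D.zz k * (D.q u * D.q v * (D.q u)⁻¹) * (D.zz k)⁻¹ := by group
    _ = _ := by
        have hk : Commute (D.zz k) (D.zz (Om u v) * D.q v) :=
          ((D.zz_comm ((Commute.refl D.z).pow_left _) _ : Commute (D.zz k) (D.zz (Om u v)))).mul_right (D.zz_q k v)
        rw [D.q_conj, hk.eq, mul_inv_cancel_right]
        rfl

theorem img_exists {h : G} (hh : Commute h D.z) : ∃ f, D.Img h f := by
  obtain ⟨u, s, sz, sj, rfl⟩ := D.decomp h hh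
  obtain ⟨f, hf⟩ := D.act s sz sj
  exact ⟨1 * f, (D.img_Q (D.q_mem u)).mul (D.q_z u) (Acts.img ⟨sz, sj, hf⟩)⟩

theorem exImg (h : ↥D.CC) : ∃ f, D.Img (h : G) f := D.img_exists (D.mem_CC.mp h.2)

/-- The image. -/
noncomputable def ρ : ↥D.CC →* NN where
  toFun h := (D.exImg h).choose
  map_one' := (D.exImg 1).choose_spec.unique D.img_one
  map_mul' a b := (D.exImg (a * b)).choose_spec.unique
    ((D.exImg a).choose_spec.mul (D.mem_CC.mp a.2) (D.exImg b).choose_spec)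

theorem ρ_eq {h : ↥D.CC} {f : NN} (e : D.Img (h : G) f) : D.ρ h = f :=
  (D.exImg h).choose_spec.unique e

theorem ρ_spec (h : ↥D.CC) : D.Img (h : G) (D.ρ h) := (D.exImg h).choose_spec

theorem levi_trivial {s : G} (h : D.Acts s 1) : ∃ k, s = D.zz k := D.self s fun v => by
  have e := h.2.2 v
  rw [Subgroup.coe_one, Equiv.Perm.one_apply, mul_inv_eq_iff_eq_mul] at e
  exact e

theorem ρ_ker {h : ↥D.CC} : D.ρ h = 1 ↔ (h : G) ∈ D.Q := by
  refine ⟨fun e => ?_, fun e => D.ρ_eq (D.img_Q e)⟩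
  obtain ⟨u, s, sz, sj, he⟩ := D.decomp h (D.mem_CC.mp h.2)
  obtain ⟨f, hf⟩ := D.act s sz sj
  have h1 : D.ρ h = 1 * f := D.ρ_eq (he ▸ (D.img_Q (D.q_mem u)).mul (D.q_z u) (Acts.img ⟨sz, sj, hf⟩))
  rw [e, one_mul] at h1
  subst h1
  obtain ⟨k, rfl⟩ := D.levi_trivial ⟨sz, sj, hf⟩
  rw [he]
  exact mul_mem (D.q_mem u) (D.zz_mem k)

theorem exists_lift (f : NN) : ∃ s, D.Acts s f := D.surj f

/-- A general element of the centraliser. -/
theorem cases_H {h : G} (hh : Commute h D.z) : ∃ u s f, h = D.q u * s ∧ D.Acts s f ∧ D.Img h f := by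
  obtain ⟨u, s, sz, sj, rfl⟩ := D.decomp h hh
  obtain ⟨f, hf⟩ := D.act s sz sj
  refine ⟨u, s, f, rfl, ⟨sz, sj, hf⟩, ?_⟩
  have := (D.img_Q (D.q_mem u)).mul (D.q_z u) (Acts.img ⟨sz, sj, hf⟩)
  rwa [one_mul] at this

end Setting

end CfsgLib.Fi23Loc
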