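import Cfsg.Agent.Lib.Fi23Loc.Rep

/-!
Witness data for the elements of order three in the monomial Sylow subgroup of the model.
-/

set_option autoImplicit false
set_option maxRecDepth 100000
set_option Elab.async false

namespace CfsgLib.Fi23Loc

open CfsgLib.U6Three (SL23 mU)
open CfsgLib.Fi22Loc (Bk dg)

/-- A vector by its code. -/
def vn (n : ℕ) : W8 := fun a => ((n / 3 ^ (4 * (a 0 : ℕ) + 2 * (a 1 : ℕ) + (a 2 : ℕ)) % 3 : ℕ) : ZMod 3)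

/-- The cycle of the factors. -/
def cyc : Equiv.Perm (Fin 3) := Equiv.swap 0 1 * Equiv.swap 1 2

/-- An element of the monomial Sylow subgroup. -/
def pel (x : Fin 3 × Fin 3 × Fin 3 × Fin 3) : Bk :=
  ⟨cyc ^ (x.2.2.2 : ℕ), ![mU ^ (x.1 : ℕ), mU ^ (x.2.1 : ℕ), mU ^ (x.2.2.1 : ℕ)]⟩

/-- The witnesses of one element. -/
structure Wit where
  /-- the element -/
  p : Fin 3 × Fin 3 × Fin 3 × Fin 3
  /-- the first vector -/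
  v1 : ℕ
  /-- the second vector -/
  v2 : ℕ
  /-- a section of the difference map on the units -/
  S : List ℕ
  /-- fixed vectors and their duals -/
  fs : List (ℕ × ℕ)
  /-- preimages of fixed differences and their adjoints -/
  ws : List (ℕ × ℕ)

/-- The witnesses. -/
def witList : List Wit :=
  [
    ⟨(0, 0, 0, 1), 15, 297, [0, 0, 9, 0, 6, 54, 540, 0], [(1, 4374), (93, 27), (999, 6), (2187, 1)], [(15, 3), (513, 27)]⟩,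
    ⟨(0, 0, 0, 2), 15, 297, [0, 0, 6, 0, 24, 243, 54, 0], [(1, 4374), (93, 27), (999, 6), (2187, 1)], [(21, 3), (297, 27)]⟩,
    ⟨(0, 0, 1, 0), 3, 27, [6, 0, 54, 0, 486, 0, 4374, 0], [(1, 4374), (9, 243), (81, 27), (729, 6)], [(6, 0), (54, 0), (486, 0), (4374, 0)]⟩,
    ⟨(0, 0, 2, 0), 3, 27, [3, 0, 27, 0, 243, 0, 2187, 0], [(1, 4374), (9, 243), (81, 27), (729, 6)], [(3, 0), (27, 0), (243, 0), (2187, 0)]⟩,
    ⟨(0, 1, 0, 0), 9, 27, [18, 54, 0, 0, 1458, 4374, 0, 0], [(1, 4374), (3, 729), (81, 27), (243, 18)], [(18, 0), (54, 0), (1458, 0), (4374, 0)]⟩,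
    ⟨(0, 1, 1, 0), 3, 243, [6, 0, 57, 0, 486, 0, 4617, 0], [(1, 4374), (15, 243), (81, 27), (1215, 6)], [(6, 54), (486, 4374)]⟩,
    ⟨(0, 1, 2, 0), 3, 243, [3, 0, 33, 0, 243, 0, 2673, 0], [(1, 4374), (12, 243), (81, 27), (972, 6)], [(3, 27), (243, 2187)]⟩,
    ⟨(0, 1, 2, 1), 15, 303, [0, 0, 9, 0, 6, 60, 540, 0], [(1, 4374), (93, 27), (1017, 6), (2430, 1)], [(15, 3), (537, 27)]⟩,
    ⟨(0, 1, 2, 2), 15, 297, [0, 0, 6, 0, 24, 246, 66, 0], [(1, 4374), (93, 27), (1002, 6), (2460, 1)], [(21, 3), (312, 27)]⟩,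
    ⟨(0, 2, 0, 0), 9, 27, [9, 27, 0, 0, 729, 2187, 0, 0], [(1, 4374), (3, 729), (81, 27), (243, 18)], [(9, 0), (27, 0), (729, 0), (2187, 0)]⟩,
    ⟨(0, 2, 1, 0), 3, 243, [6, 0, 60, 0, 486, 0, 4860, 0], [(1, 4374), (12, 243), (81, 27), (972, 6)], [(6, 27), (486, 2187)]⟩,
    ⟨(0, 2, 1, 1), 15, 300, [0, 0, 9, 0, 6, 57, 540, 0], [(1, 4374), (93, 27), (1008, 6), (2673, 1)], [(15, 3), (525, 27)]⟩,
    ⟨(0, 2, 1, 2), 15, 297, [0, 0, 6, 0, 24, 249, 78, 0], [(1, 4374), (93, 27), (1005, 6), (2730, 1)], [(21, 3), (318, 27)]⟩,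
    ⟨(0, 2, 2, 0), 3, 243, [3, 0, 30, 0, 243, 0, 2430, 0], [(1, 4374), (15, 243), (81, 27), (1215, 6)], [(3, 54), (243, 4374)]⟩,
    ⟨(1, 0, 0, 0), 81, 243, [162, 486, 1458, 4374, 0, 0, 0, 0], [(1, 4374), (3, 729), (9, 243), (27, 162)], [(162, 0), (486, 0), (1458, 0), (4374, 0)]⟩,
    ⟨(1, 0, 1, 0), 3, 27, [6, 0, 54, 0, 489, 0, 4401, 0], [(1, 4374), (9, 243), (87, 27), (783, 6)], [(6, 486), (54, 4374)]⟩,
    ⟨(1, 0, 2, 0), 3, 27, [3, 0, 27, 0, 249, 0, 2241, 0], [(1, 4374), (9, 243), (84, 27), (756, 6)], [(3, 243), (27, 2187)]⟩,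
    ⟨(1, 0, 2, 1), 15, 297, [0, 0, 9, 0, 6, 60, 564, 0], [(1, 4374), (93, 27), (1002, 6), (2460, 1)], [(15, 3), (534, 27)]⟩,
    ⟨(1, 0, 2, 2), 15, 300, [0, 0, 6, 0, 24, 246, 57, 0], [(1, 4374), (93, 27), (1011, 6), (2214, 1)], [(21, 3), (300, 27)]⟩,
    ⟨(1, 1, 0, 0), 9, 27, [18, 54, 0, 0, 1467, 4401, 0, 0], [(1, 4374), (3, 729), (99, 27), (297, 18)], [(18, 1458), (54, 4374)]⟩,
    ⟨(1, 1, 1, 0), 3, 999, [6, 1734, 1248, 0, 1032, 0, 6375, 0], [(1, 4374), (15, 243), (87, 27)], [(6, 0), (1701, 0), (1485, 0)]⟩,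
    ⟨(1, 1, 1, 1), 15, 303, [0, 0, 9, 0, 6, 57, 564, 0], [(1, 4374), (93, 27), (1020, 6), (2706, 1)], [(15, 3), (522, 27)]⟩,
    ⟨(1, 1, 1, 2), 15, 300, [0, 0, 6, 0, 24, 249, 69, 0], [(1, 4374), (93, 27), (1014, 6), (2490, 1)], [(21, 3), (306, 27)]⟩,
    ⟨(1, 1, 2, 0), 3, 1269, [3, 1005, 1029, 0, 1245, 0, 3921, 0], [(1, 4374), (12, 243), (84, 27)], [(3, 0), (1944, 0), (1512, 0)]⟩,
    ⟨(1, 2, 0, 0), 9, 27, [9, 27, 0, 0, 747, 2241, 0, 0], [(1, 4374), (3, 729), (90, 27), (270, 18)], [(9, 729), (27, 2187)]⟩,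
    ⟨(1, 2, 0, 1), 15, 300, [0, 0, 9, 0, 6, 54, 564, 0], [(1, 4374), (93, 27), (1011, 6), (2214, 1)], [(15, 3), (519, 27)]⟩,
    ⟨(1, 2, 0, 2), 15, 300, [0, 0, 6, 0, 24, 243, 72, 0], [(1, 4374), (93, 27), (1008, 6), (2673, 1)], [(21, 3), (321, 27)]⟩,
    ⟨(1, 2, 1, 0), 3, 1242, [6, 1032, 1002, 0, 1734, 0, 6135, 0], [(1, 4374), (12, 243), (87, 27)], [(6, 0), (1944, 0), (783, 0)]⟩,
    ⟨(1, 2, 2, 0), 3, 1026, [3, 1761, 1275, 0, 2001, 0, 4161, 0], [(1, 4374), (15, 243), (84, 27)], [(3, 0), (1701, 0), (756, 0)]⟩,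
    ⟨(2, 0, 0, 0), 81, 243, [81, 243, 729, 2187, 0, 0, 0, 0], [(1, 4374), (3, 729), (9, 243), (27, 162)], [(81, 0), (243, 0), (729, 0), (2187, 0)]⟩,
    ⟨(2, 0, 1, 0), 3, 27, [6, 0, 54, 0, 492, 0, 4428, 0], [(1, 4374), (9, 243), (84, 27), (756, 6)], [(6, 243), (54, 2187)]⟩,
    ⟨(2, 0, 1, 1), 15, 297, [0, 0, 9, 0, 6, 57, 552, 0], [(1, 4374), (93, 27), (1005, 6), (2730, 1)], [(15, 3), (528, 27)]⟩,
    ⟨(2, 0, 1, 2), 15, 303, [0, 0, 6, 0, 24, 249, 60, 0], [(1, 4374), (93, 27), (1023, 6), (2241, 1)], [(21, 3), (303, 27)]⟩,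
    ⟨(2, 0, 2, 0), 3, 27, [3, 0, 27, 0, 246, 0, 2214, 0], [(1, 4374), (9, 243), (87, 27), (783, 6)], [(3, 486), (27, 4374)]⟩,
    ⟨(2, 1, 0, 0), 9, 27, [18, 54, 0, 0, 1476, 4428, 0, 0], [(1, 4374), (3, 729), (90, 27), (270, 18)], [(18, 729), (54, 2187)]⟩,
    ⟨(2, 1, 0, 1), 15, 303, [0, 0, 9, 0, 6, 54, 552, 0], [(1, 4374), (93, 27), (1023, 6), (2241, 1)], [(15, 3), (516, 27)]⟩,
    ⟨(2, 1, 0, 2), 15, 303, [0, 0, 6, 0, 24, 243, 63, 0], [(1, 4374), (93, 27), (1017, 6), (2430, 1)], [(21, 3), (309, 27)]⟩,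
    ⟨(2, 1, 1, 0), 3, 1026, [6, 1248, 1734, 0, 1002, 0, 6351, 0], [(1, 4374), (15, 243), (84, 27)], [(6, 0), (1215, 0), (1512, 0)]⟩,
    ⟨(2, 1, 2, 0), 3, 1242, [3, 1977, 2001, 0, 1275, 0, 3945, 0], [(1, 4374), (12, 243), (87, 27)], [(3, 0), (972, 0), (1485, 0)]⟩,
    ⟨(2, 2, 0, 0), 9, 27, [9, 27, 0, 0, 738, 2214, 0, 0], [(1, 4374), (3, 729), (99, 27), (297, 18)], [(9, 1458), (27, 4374)]⟩,
    ⟨(2, 2, 1, 0), 3, 1269, [6, 2004, 1974, 0, 1758, 0, 6105, 0], [(1, 4374), (12, 243), (84, 27)], [(6, 0), (972, 0), (756, 0)]⟩,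
    ⟨(2, 2, 2, 0), 3, 999, [3, 1275, 1761, 0, 1977, 0, 4191, 0], [(1, 4374), (15, 243), (87, 27)], [(3, 0), (1215, 0), (783, 0)]⟩,
    ⟨(2, 2, 2, 1), 15, 300, [0, 0, 9, 0, 6, 60, 552, 0], [(1, 4374), (93, 27), (1014, 6), (2490, 1)], [(15, 3), (531, 27)]⟩,
    ⟨(2, 2, 2, 2), 15, 303, [0, 0, 6, 0, 24, 246, 75, 0], [(1, 4374), (93, 27), (1020, 6), (2706, 1)], [(21, 3), (315, 27)]⟩]

end CfsgLib.Fi23Loc
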