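import Cfsg.Agent.Lib.Fi23Loc.Top
import Cfsg.Agent.Lib.Fi23Loc.Wit

/-!
The monomial Sylow subgroup, the involutions and the witnesses of the model: checks.
-/

set_option autoImplicit false
set_option maxRecDepth 100000
set_option Elab.async false

namespace CfsgLib.Fi23Loc

open CfsgLib.G24 (K)
open CfsgLib.U6Three (SL23 mU)
open CfsgLib.Fi22Loc (Bk dg ψ)

/-- The monomial Sylow subgroup. -/
def P81 : Subgroup Bk where
  carrier := {b | b.π ∈ Subgroup.zpowers cyc ∧ ∀ i, b.g i ∈ Subgroup.zpowers mU}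
  one_mem' := ⟨one_mem _, fun _ => one_mem _⟩
  mul_mem' := fun ha hb => ⟨mul_mem ha.1 hb.1, fun i => mul_mem (ha.2 i) (hb.2 _)⟩
  inv_mem' := fun ha => ⟨inv_mem ha.1, fun i => inv_mem (ha.2 _)⟩

theorem pel_mem (x : Fin 3 × Fin 3 × Fin 3 × Fin 3) : pel x ∈ P81 :=
  ⟨Subgroup.npow_mem_zpowers _ _, fun i => by
    fin_cases i <;> exact Subgroup.npow_mem_zpowers _ _⟩

theorem P81_pel {b : Bk} (h : b ∈ P81) : ∃ x, b = pel x := by
  have key : ∀ {α : Type} [Group α] (u : α), u ^ 3 = 1 → ∀ y ∈ Subgroup.zpowers u, ∃ n : Fin 3, y = u ^ (n : ℕ) := by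
    rintro α _ u h3 _ ⟨k, rfl⟩
    refine ⟨⟨(k % 3).toNat, by omega⟩, ?_⟩
    show u ^ k = _
    rw [zpow_eq_zpow_emod' k h3, ← zpow_natCast, Int.toNat_of_nonneg (Int.emod_nonneg _ (by norm_num))]
    norm_num
  obtain ⟨n, hn⟩ := key cyc (by decide +kernel) _ h.1
  choose m hm using fun i => key mU (by decide +kernel) _ (h.2 i)
  exact ⟨(m 0, m 1, m 2, n), Fi22Loc.Bk.ext' hn fun i => by fin_cases i <;> exact hm _⟩

/-- Equality of monomial maps, as a boolean. -/
def eqB (a b : Bk) : Bool :=
  decide (a.π = b.π) && decide (a.g 0 = b.g 0) && decide (a.g 1 = b.g 1) && decide (a.g 2 = b.g 2)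

theorem eqB_iff {a b : Bk} : eqB a b = true ↔ a = b := by
  refine ⟨fun h => ?_, fun h => by subst h; simp [eqB]⟩
  simp only [eqB, Bool.and_eq_true, decide_eq_true_eq, and_assoc] at h
  exact Fi22Loc.Bk.ext' h.1 fun i => by fin_cases i <;> simp [h]

theorem pel_top : ∀ x, topB (pel x) = oneF → x = (0, 0, 0, 0) := by decide +kernel

theorem pel_zero : pel (0, 0, 0, 0) = 1 := eqB_iff.mp (by decide +kernel)

theorem pel_inj {x : Fin 3 × Fin 3 × Fin 3 × Fin 3} (h : pel x = 1) : x = (0, 0, 0, 0) :=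
  (by decide +kernel : ∀ x, eqB (pel x) 1 = true → x = (0, 0, 0, 0)) x (eqB_iff.mpr h)

theorem card_P81 : Nat.card P81 = 81 := by
  have hb : Function.Bijective fun x => (⟨pel x, pel_mem x⟩ : P81) := by
    refine ⟨fun x y h => ?_, fun b => ?_⟩
    · have h' : pel x = pel y := congrArg Subtype.val h
      exact (by decide +kernel : ∀ x y : Fin 3 × Fin 3 × Fin 3 × Fin 3,
        (pel x).π = (pel y).π → (pel x).g 0 = (pel y).g 0 → (pel x).g 1 = (pel y).g 1 →
        (pel x).g 2 = (pel y).g 2 → x = y) x y (by rw [h']) (by rw [h']) (by rw [h']) (by rw [h'])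
    · obtain ⟨x, hx⟩ := P81_pel b.2
      exact ⟨x, Subtype.ext hx.symm⟩
  rw [← Nat.card_congr (Equiv.ofBijective _ hb), Nat.card_eq_fintype_card]
  rfl

theorem TN_P81_ker {b : Bk} (hb : b ∈ P81) (h : TN b = 1) : b = 1 := by
  obtain ⟨x, rfl⟩ := P81_pel hb
  rw [pel_top x (by rw [← top_TN, h, top_one]), pel_zero]

/-- Whether two parameters commute. -/
def commB (x y : Fin 3 × Fin 3 × Fin 3 × Fin 3) : Bool := eqB (pel x * pel y) (pel y * pel x)

theorem small_cent : ∀ x, x.2.2.2 ≠ 0 → (Finset.univ.filter fun y => commB x y = true).card ≤ 9 := by decide +kernel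

theorem diag_abelian : ∀ x y, x.2.2.2 = 0 → y.2.2.2 = 0 → commB x y = true := by decide +kernel

/-- A coordinate element. -/
def uE (i : Fin 3) : Bk := dg (Pi.mulSingle i mU)

theorem uE_pel : uE 0 = pel (1, 0, 0, 0) ∧ uE 1 = pel (0, 1, 0, 0) ∧ uE 2 = pel (0, 0, 1, 0) :=
  ⟨eqB_iff.mp (by decide +kernel), eqB_iff.mp (by decide +kernel), eqB_iff.mp (by decide +kernel)⟩

/-- The exchange of the first two factors. -/
def swB : Bk := ⟨Equiv.swap 0 1, fun _ => 1⟩

/-- All parameters. -/
def allP : List (Fin 3 × Fin 3 × Fin 3 × Fin 3) :=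
  (List.finRange 3).flatMap fun a => (List.finRange 3).flatMap fun b => (List.finRange 3).flatMap fun c =>
    (List.finRange 3).map fun d => (a, b, c, d)

/-- Whether a frame is an involution conjugate to the exchange by the monomial subgroup. -/
def invOK (F : F3) : Bool :=
  !decide (compF F F = oneF) || decide (F = oneF) ||
    (allP.any fun x => decide (F = topB (pel x * swB * (pel x)⁻¹)))

theorem frames_inv : (frames.all invOK) = true := by decide +kernel

/-- Whether an involution inverts two commuting independent elements of order three. -/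
def badPair (f : F3) : Bool :=
  let l := frames.filter fun a => decide (compF a (compF a a) = oneF) && !decide (a = oneF) &&
    decide (compF (compF a f) a = f)
  l.any fun a => l.any fun b => decide (compF a b = compF b a) && !decide (b = a) && !decide (b = compF a a)

theorem no_bad : (frames.all fun f => !decide (compF f f = oneF) || decide (f = oneF) || !badPair f) = true := by
  decide +kernel

end CfsgLib.Fi23Loc
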