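import Cfsg.Agent.Lib.Fi23Loc.Rep
import Cfsg.Agent.Lib.G24.Field
import Mathlib.GroupTheory.Coset.Card

/-!
The model group modulo the quaternion groups acts on three coordinates over four elements by unitary frames.
-/

set_option autoImplicit false
set_option maxRecDepth 100000
set_option Elab.async false

namespace CfsgLib.Fi23Loc

open CfsgLib.G24 (K)
open CfsgLib.U6Three (SL23)
open CfsgLib.Fi22Loc (Bk dg ψ)

/-- Three coordinates. -/
abbrev V3 := K × K × K

/-- The coordinate of a quaternion. -/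
def cls (g : SL23) : K :=
  if g = 1 ∨ g = -1 then .o else if g = qA ∨ g = -qA then .i else if g = qB ∨ g = -qB then .w else .v

/-- The coordinates of a product of quaternions. -/
def par (q : Fin 3 → SL23) : V3 := (cls (q 0), cls (q 1), cls (q 2))

/-- The quadratic form. -/
def hq (x : V3) : K := x.1 * x.1 * x.1 + x.2.1 * x.2.1 * x.2.1 + x.2.2 * x.2.2 * x.2.2

/-- The hermitian form. -/
def hh (x y : V3) : K := x.1 * (y.1 * y.1) + x.2.1 * (y.2.1 * y.2.1) + x.2.2 * (y.2.2 * y.2.2)

/-- The multiple. -/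
def smK (k : K) (x : V3) : V3 := (k * x.1, k * x.2.1, k * x.2.2)

/-- A triple of images of the units. -/
abbrev F3 := V3 × V3 × V3

/-- The linear map of a triple. -/
def appF (F : F3) (x : V3) : V3 := smK x.1 F.1 + smK x.2.1 F.2.1 + smK x.2.2 F.2.2

/-- Composition. -/
def compF (F G : F3) : F3 := (appF F G.1, appF F G.2.1, appF F G.2.2)

/-- The identity triple. -/
def oneF : F3 := ((1, 0, 0), (0, 1, 0), (0, 0, 1))

/-- All elements. -/
def allK : List K := [.o, .i, .w, .v]

/-- All vectors. -/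
def allV : List V3 := allK.flatMap fun a => allK.flatMap fun b => allK.map fun c => (a, b, c)

/-- The unit vectors for the form. -/
def unitV : List V3 := allV.filter fun x => decide (hq x = 1)

/-- The unit vectors orthogonal to a given one. -/
def perpV (a : V3) : List V3 := unitV.filter fun x => decide (hh x a = 0)

/-- The frames. -/
def frames : List F3 :=
  unitV.flatMap fun a => (perpV a).flatMap fun b => ((perpV a).filter fun c => decide (hh c b = 0)).map fun c => (a, b, c)

theorem frames_length : frames.length = 648 := by decide +kernel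

theorem allV_mem : ∀ x : V3, x ∈ allV := by decide +kernel

theorem frames_mem {F : F3} (h : ∀ x, hq (appF F x) = hq x) : F ∈ frames := by
  have key : ∀ a b : V3, hq a = 1 → hq b = 1 → hq (a + b) = 0 → hq (smK .w a + b) = 0 → hh b a = 0 := by decide +kernel
  have lin : ∀ k : K, ∀ y : V3, smK k y = smK k y + (0, 0, 0) ∧ smK 0 y = (0, 0, 0) ∧ smK 1 y = y := by decide +kernel
  have z : ∀ y : V3, y + (0, 0, 0) = y ∧ (0, 0, 0) + y = y := by decide +kernel
  obtain ⟨a, b, c⟩ := F
  have e : ∀ x : V3, appF (a, b, c) x = smK x.1 a + smK x.2.1 b + smK x.2.2 c := fun _ => rfl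
  have ha : hq a = 1 := by
    have := h (1, 0, 0); rw [e] at this; simp only [(lin 1 _).2.1, (lin 1 _).2.2, (z _).1] at this
    exact this.trans (by decide)
  have hb : hq b = 1 := by
    have := h (0, 1, 0); rw [e] at this; simp only [(lin 1 _).2.1, (lin 1 _).2.2, (z _).1, (z _).2] at this
    exact this.trans (by decide)
  have hc : hq c = 1 := by
    have := h (0, 0, 1); rw [e] at this; simp only [(lin 1 _).2.1, (lin 1 _).2.2, (z _).1, (z _).2] at this
    exact this.trans (by decide)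
  have hba : hh b a = 0 := key a b ha hb (by
    have := h (1, 1, 0); rw [e] at this; simp only [(lin 1 _).2.1, (lin 1 _).2.2, (z _).1] at this
    exact this.trans (by decide)) (by
    have := h (.w, 1, 0); rw [e] at this; simp only [(lin 1 _).2.1, (lin 1 _).2.2, (z _).1] at this
    exact this.trans (by decide))
  have hca : hh c a = 0 := key a c ha hc (by
    have := h (1, 0, 1); rw [e] at this; simp only [(lin 1 _).2.1, (lin 1 _).2.2, (z _).1] at this
    exact this.trans (by decide)) (by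
    have := h (.w, 0, 1); rw [e] at this; simp only [(lin 1 _).2.1, (lin 1 _).2.2, (z _).1] at this
    exact this.trans (by decide))
  have hcb : hh c b = 0 := key b c hb hc (by
    have := h (0, 1, 1); rw [e] at this; simp only [(lin 1 _).2.1, (lin 1 _).2.2, (z _).2] at this
    exact this.trans (by decide)) (by
    have := h (0, .w, 1); rw [e] at this; simp only [(lin 1 _).2.1, (lin 1 _).2.2, (z _).2] at this
    exact this.trans (by decide))
  simp only [frames, List.mem_flatMap, List.mem_map, List.mem_filter, decide_eq_true_eq, perpV, unitV]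
  exact ⟨a, ⟨allV_mem a, ha⟩, b, ⟨⟨allV_mem b, hb⟩, hba⟩, c, ⟨⟨⟨allV_mem c, hc⟩, hca⟩, hcb⟩, rfl⟩

theorem cls_mul : ∀ g h : SL23, ψ g = 0 → ψ h = 0 → cls (g * h) = cls g + cls h := by decide +kernel

theorem cls_u : ∀ g : SL23, ψ g = 0 →
    cls (CfsgLib.U6Three.mU * g * CfsgLib.U6Three.mU⁻¹) = K.w * cls g := by decide +kernel

theorem cls_zero : ∀ g : SL23, ψ g = 0 → cls g = 0 → g = 1 ∨ g = -1 := by decide +kernel

theorem cls_sq : ∀ g : SL23, ψ g = 0 → g * g = if cls g = 0 then 1 else -1 := by decide +kernel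

theorem par_mul {q r : Fin 3 → SL23} (hq : Qt q) (hr : Qt r) : par (q * r) = par q + par r := by
  simp only [par, Pi.mul_apply, cls_mul _ _ (hq _) (hr _)]; rfl

theorem par_u {q : Fin 3 → SL23} (hq : Qt q) : par (uU * q * uU⁻¹) = smK .w (par q) := by
  simp only [par, Pi.mul_apply, Pi.inv_apply, uU, cls_u _ (hq _)]; rfl

theorem par_conj {q r : Fin 3 → SL23} (hq : Qt q) (hr : Qt r) : par (r * q * r⁻¹) = par q := by
  have h1 : par (r * q * r⁻¹) + par r = par r + par q := by
    rw [← par_mul ((hr.mul hq).mul hr.inv) hr, inv_mul_cancel_right, par_mul hr hq]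
  have key : ∀ a b c : V3, a + b = b + c → a = c := by
    have k1 : ∀ a b c : K, a + b = b + c → a = c := by decide +kernel
    intro a b c h
    simp only [Prod.ext_iff, Prod.fst_add, Prod.snd_add] at h
    exact Prod.ext (k1 _ _ _ h.1) (Prod.ext (k1 _ _ _ h.2.1) (k1 _ _ _ h.2.2))
  exact key _ _ _ h1

theorem T_ext {f g : Bk} (h : ∀ a, T f (ev a) = T g (ev a)) (v : W8) : T f v = T g v := by
  have hz : ∀ b : Bk, T b 0 = 0 := fun b => by
    have := T_add b 0 0
    simpa using this
  have hsm : ∀ (b : Bk) k x, T b (Rep.sm k x) = Rep.sm k (T b x) := fun b k x =>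
    Rep.map_sm (AddMonoidHom.mk' (T b) (T_add b)) k x
  conv => lhs; rw [← psi_id v]
  conv => rhs; rw [← psi_id v]
  simp only [Rep.psi, T_add, hsm, vec_ev, h]

/-- A sign product acts as a scalar. -/
theorem T_signs {d : Fin 3 → SL23} (h : ∀ i, d i = 1 ∨ d i = -1) :
    (∀ v, T (dg d) v = v) ∨ ∀ v, T (dg d) v = -v := by
  have hn : ∀ (b : Bk) v, T b (-v) = -T b v := fun b v => map_neg (AddMonoidHom.mk' (T b) (T_add b)) v
  have hs : ∀ i, (∀ v, T (dg (Pi.mulSingle i (d i))) v = v) ∨ ∀ v, T (dg (Pi.mulSingle i (d i))) v = -v := fun i => by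
    rcases h i with e | e <;> rw [e]
    · exact Or.inl fun v => by rw [Pi.mulSingle_one, Fi22Loc.dg_one, T_one]
    · exact Or.inr (T_single_neg i)
  rw [qt_split d, ← Fi22Loc.dg_mul, ← Fi22Loc.dg_mul]
  simp only [T_mul]
  rcases hs 0 with a | a <;> rcases hs 1 with b | b <;> rcases hs 2 with c | c <;> simp [a, b, c, hn]

theorem par_eq {q r : Fin 3 → SL23} (hq : Qt q) (hr : Qt r) (h : par q = par r) :
    (∀ v, T (dg q) v = T (dg r) v) ∨ ∀ v, T (dg q) v = -T (dg r) v := by
  have hd : ∀ i, (q * r⁻¹) i = 1 ∨ (q * r⁻¹) i = -1 := fun i => by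
    have k : ∀ a b : SL23, ψ a = 0 → ψ b = 0 → cls a = cls b → a * b⁻¹ = 1 ∨ a * b⁻¹ = -1 := by decide +kernel
    refine k _ _ (hq i) (hr i) ?_
    simp only [par, Prod.ext_iff] at h
    fin_cases i
    exacts [h.1, h.2.1, h.2.2]
  rcases T_signs hd with e | e
  · exact Or.inl fun v => by rw [← e (T (dg r) v), ← T_mul, Fi22Loc.dg_mul, inv_mul_cancel_right]
  · exact Or.inr fun v => by rw [← e (T (dg r) v), ← T_mul, Fi22Loc.dg_mul, inv_mul_cancel_right]

theorem T_dg_ev (d : Fin 3 → SL23) (x y z : Fin 2) :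
    T (dg d) (ev (ix 0 0 0)) (ix x y z) = (d 0).1 x 0 * (d 1).1 y 0 * (d 2).1 z 0 := by
  simp [T, dW, Fi22Loc.dg_π, Fi22Loc.dg_g, permW_one, act1, ev, upd_ix0, upd_ix1, upd_ix2, ix0, ix1, ix2,
    show ∀ p q r : Fin 2, (ix p q r = ix 0 0 0) ↔ (p = 0 ∧ q = 0 ∧ r = 0) by decide +kernel]
  ring

theorem cls_upper : ∀ g : SL23, ψ g = 0 → g.1 1 0 = 0 → cls g = 0 := by decide +kernel

theorem T_scalar_par (d : Fin 3 → SL23) (hd : Qt d) (h : ∀ a, T (dg d) (ev a) = ev a) : par d = (0, 0, 0) := by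
  have e : ∀ x y z, (d 0).1 x 0 * (d 1).1 y 0 * (d 2).1 z 0 = ev (ix 0 0 0) (ix x y z) := fun x y z => by
    rw [← T_dg_ev, h]
  have h1 : (d 0).1 0 0 * (d 1).1 0 0 * (d 2).1 0 0 = 1 := (e 0 0 0).trans (by decide)
  have n0 : (d 0).1 0 0 ≠ 0 := fun r => by rw [r, zero_mul, zero_mul] at h1; exact absurd h1 (by decide)
  have n1 : (d 1).1 0 0 ≠ 0 := fun r => by rw [r, mul_zero, zero_mul] at h1; exact absurd h1 (by decide)
  have n2 : (d 2).1 0 0 ≠ 0 := fun r => by rw [r, mul_zero] at h1; exact absurd h1 (by decide)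
  have a0 : (d 0).1 1 0 = 0 := by
    have := (e 1 0 0).trans (show ev (ix 0 0 0) (ix 1 0 0) = 0 by decide)
    simpa [n1, n2] using this
  have a1 : (d 1).1 1 0 = 0 := by
    have := (e 0 1 0).trans (show ev (ix 0 0 0) (ix 0 1 0) = 0 by decide)
    simpa [n0, n2] using this
  have a2 : (d 2).1 1 0 = 0 := by
    have := (e 0 0 1).trans (show ev (ix 0 0 0) (ix 0 0 1) = 0 by decide)
    simpa [n0, n1] using this
  simp only [par, cls_upper _ (hd 0) a0, cls_upper _ (hd 1) a1, cls_upper _ (hd 2) a2]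

theorem par_unique {q r : Fin 3 → SL23} (hq : Qt q) (hr : Qt r) (h : ∀ v, T (dg q) v = T (dg r) v) :
    par q = par r := by
  have e := T_scalar_par (q * r⁻¹) (hq.mul hr.inv) fun a => by
    rw [← Fi22Loc.dg_mul, T_mul, h, ← T_mul, Fi22Loc.dg_mul, mul_inv_cancel, Fi22Loc.dg_one, T_one]
  rw [← inv_mul_cancel_right q r, par_mul (hq.mul hr.inv) hr, e]
  exact zero_add _

/-- The carried element. -/
noncomputable def carry (f : NN) (q : Fin 3 → SL23) : Fin 3 → SL23 :=
  open Classical in if h : Qt q then (f.2.carries h).choose else 1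

theorem carry_spec (f : NN) {q : Fin 3 → SL23} (h : Qt q) :
    Qt (carry f q) ∧ ∀ v, (f : Equiv.Perm W8) (T (dg q) v) = T (dg (carry f q)) ((f : Equiv.Perm W8) v) := by
  rw [carry, dif_pos h]
  exact (f.2.carries h).choose_spec

theorem carry_eq (f : NN) {q q' : Fin 3 → SL23} (h : Qt q) (h' : Qt q')
    (e : ∀ v, (f : Equiv.Perm W8) (T (dg q) v) = T (dg q') ((f : Equiv.Perm W8) v)) : par (carry f q) = par q' :=
  par_unique (carry_spec f h).1 h' fun v => by
    obtain ⟨w, rfl⟩ := (f : Equiv.Perm W8).surjective v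
    rw [← (carry_spec f h).2, e]

theorem carry_mul (f : NN) {q r : Fin 3 → SL23} (hq : Qt q) (hr : Qt r) :
    par (carry f (q * r)) = par (carry f q) + par (carry f r) := by
  rw [← par_mul (carry_spec f hq).1 (carry_spec f hr).1]
  exact carry_eq f (hq.mul hr) ((carry_spec f hq).1.mul (carry_spec f hr).1) fun v => by
    rw [← Fi22Loc.dg_mul, T_mul, (carry_spec f hq).2, (carry_spec f hr).2, ← T_mul, Fi22Loc.dg_mul]

theorem ψ_mU : ψ CfsgLib.U6Three.mU = 1 := by decide +kernel

theorem qt_uconj {q : Fin 3 → SL23} (hq : Qt q) : Qt (uU * q * uU⁻¹) := fun i => by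
  simp only [Pi.mul_apply, Pi.inv_apply, Fi22Loc.ψ_mul, hq i, ψ_inv', uU]; ring

theorem carry_u (f : NN) {q : Fin 3 → SL23} (hq : Qt q) :
    par (carry f (uU * q * uU⁻¹)) = smK .w (par (carry f q)) := by
  obtain ⟨r, hr, e⟩ := f.2.cU
  set q' := carry f q with hq'
  have hq'1 := (carry_spec f hq).1
  rw [← par_u hq'1, ← par_conj (qt_uconj hq'1) hr]
  refine carry_eq f (qt_uconj hq) ((hr.mul (qt_uconj hq'1)).mul hr.inv) fun v => ?_
  have e2 : ∀ w, (f : Equiv.Perm W8) (T (dg uU⁻¹) w) = T (dg (uU⁻¹ * r⁻¹)) ((f : Equiv.Perm W8) w) := fun w => by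
    have := e (T (dg uU⁻¹) w)
    rw [← T_mul (dg uU), Fi22Loc.dg_mul, mul_inv_cancel, Fi22Loc.dg_one, T_one, ← T_mul, Fi22Loc.dg_mul] at this
    rw [this, ← T_mul, Fi22Loc.dg_mul, show uU⁻¹ * r⁻¹ * (r * uU) = 1 by group, Fi22Loc.dg_one, T_one]
  rw [← Fi22Loc.dg_mul, ← Fi22Loc.dg_mul, T_mul, T_mul, e, (carry_spec f hq).2, e2, ← T_mul, ← T_mul, ← T_mul,
    Fi22Loc.dg_mul, Fi22Loc.dg_mul, Fi22Loc.dg_mul]
  refine congrArg (fun x => T (dg x) _) ?_
  group

/-- The frame of an element. -/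
noncomputable def top (f : NN) : F3 :=
  (par (carry f (rA 0)), par (carry f (rA 1)), par (carry f (rA 2)))

theorem cls_word : ∀ g : SL23, ψ g = 0 →
    ∃ a b : Bool, cls g = cls ((if a then qA else 1) * (if b then qB else 1)) := by
  decide +kernel

theorem rB_u : ∀ i, ∀ k, (uU * rA i * uU⁻¹) k = rB i k := by decide +kernel

theorem carry_rB (f : NN) (i : Fin 3) : par (carry f (rB i)) = smK .w (par (carry f (rA i))) := by
  rw [← funext (rB_u i), carry_u f (qt_rA i)]

theorem carry_par (f : NN) {q : Fin 3 → SL23} (hq : Qt q) : par (carry f q) = appF (top f) (par q) := by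
  have h0 : par (carry f 1) = (0, 0, 0) := by
    rw [carry_eq f qt_one qt_one fun v => by rw [Fi22Loc.dg_one, T_one, T_one]]
    decide
  have hneg : ∀ {r r' : Fin 3 → SL23}, Qt r → Qt r' → par r = par r' → par (carry f r) = par (carry f r') :=
    fun {r r'} hr hr' e => by
      obtain ⟨hs, es⟩ := carry_spec f hr'
      rcases par_eq hr hr' e with h | h
      · exact carry_eq f hr hs fun v => by rw [h, es]
      · set z : Fin 3 → SL23 := Pi.mulSingle 0 (-1) with hz
        have qz : Qt z := fun i => by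
          fin_cases i <;> simp [z, Pi.mulSingle] <;> decide +kernel
        rw [carry_eq f hr (hs.mul qz) fun v => by
          rw [h, ← Fi22Loc.dg_mul, T_mul, T_single_neg]
          refine (map_neg (AddMonoidHom.mk' _ f.2.add) _).trans ?_
          refine Eq.trans ?_ (map_neg (AddMonoidHom.mk' (T (dg (carry f r'))) (T_add _)) _).symm
          exact congrArg Neg.neg (es v), par_mul hs qz, show par z = 0 by decide +kernel, add_zero]
  have single : ∀ i, par (carry f (Pi.mulSingle i (q i))) = smK (cls (q i)) (par (carry f (rA i))) := by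
    intro i
    have qs : Qt (Pi.mulSingle i (q i)) := fun k => by
      by_cases hk : k = i
      · subst hk; simp [hq k]
      · simp [hk, Fi22Loc.ψ_one]
    obtain ⟨a, b, hab⟩ := cls_word (q i) (hq i)
    set r : Fin 3 → SL23 := (if a then rA i else 1) * (if b then rB i else 1) with hr
    have ha : Qt (if a then rA i else 1) := by cases a; exacts [qt_one, qt_rA i]
    have hb : Qt (if b then rB i else 1) := by cases b; exacts [qt_one, qt_rB i]
    have qr : Qt r := ha.mul hb
    have hp : ∀ k, cls ((Pi.mulSingle i (q i) : Fin 3 → SL23) k) = cls (r k) := fun k => by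
      by_cases hk : k = i
      · subst hk
        rw [Pi.mulSingle_eq_same, hab]
        cases a <;> cases b <;> simp [hr, rA, rB]
      · cases a <;> cases b <;> simp [hr, rA, rB, hk]
    rw [hneg qs qr (by simp only [par, hp]), hr, carry_mul f ha hb,
      show cls (q i) = cls (r i) by rw [← hp i, Pi.mulSingle_eq_same]]
    have fin : ∀ y : V3, (0, 0, 0) + (0, 0, 0) = smK 0 y ∧ y + (0, 0, 0) = smK 1 y ∧
        (0, 0, 0) + smK .w y = smK .w y ∧ y + smK .w y = smK .v y := by decide +kernel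
    have cl : cls (1 * 1) = 0 ∧ cls (qA * 1) = 1 ∧ cls (1 * qB) = K.w ∧ cls (qA * qB) = K.v := by decide +kernel
    obtain ⟨f0, f1, f2, f3⟩ := fin (par (carry f (rA i)))
    cases a <;> cases b <;>
      simp only [hr, Bool.false_eq_true, if_false, if_true, Pi.mul_apply, Pi.one_apply, h0, carry_rB] <;>
      simp only [show rA i i = qA by simp [rA], show rB i i = qB by simp [rB],
        cl] <;> assumption
  conv_lhs => rw [qt_split q]
  have qs : ∀ i, Qt (Pi.mulSingle i (q i)) := fun i k => by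
    by_cases hk : k = i
    · subst hk; simp [hq k]
    · simp [hk, Fi22Loc.ψ_one]
  rw [carry_mul f ((qs 0).mul (qs 1)) (qs 2), carry_mul f (qs 0) (qs 1), single, single, single]
  rfl

theorem hq_sq : ∀ x : V3, (hq x = 1 ↔ (if x.1 = 0 then (1 : ZMod 3) else -1) * (if x.2.1 = 0 then 1 else -1) *
    (if x.2.2 = 0 then 1 else -1) = -1) ∧ (hq x = 0 ∨ hq x = 1) := by decide +kernel

theorem T_sq {q : Fin 3 → SL23} (h : Qt q) :
    (hq (par q) = 1 → ∀ v, T (dg q) (T (dg q) v) = -v) ∧ (hq (par q) = 0 → ∀ v, T (dg q) (T (dg q) v) = v) := by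
  have hn : ∀ (b : Bk) v, T b (-v) = -T b v := fun b v => map_neg (AddMonoidHom.mk' (T b) (T_add b)) v
  have e : ∀ v, T (dg q) (T (dg q) v) = T (dg (Pi.mulSingle 0 (q 0 * q 0)))
      (T (dg (Pi.mulSingle 1 (q 1 * q 1))) (T (dg (Pi.mulSingle 2 (q 2 * q 2))) v)) := fun v => by
    rw [← T_mul, ← T_mul, ← T_mul, Fi22Loc.dg_mul, Fi22Loc.dg_mul, Fi22Loc.dg_mul]
    exact congrArg (fun r => T (dg r) v) (qt_split (q * q))
  simp only [e, cls_sq _ (h _)]
  constructor <;> intro hh v <;> simp only [hq, par] at hh <;>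
    by_cases a : cls (q 0) = 0 <;> by_cases b : cls (q 1) = 0 <;> by_cases c : cls (q 2) = 0 <;>
    simp only [a, b, c, if_true, if_false, Pi.mulSingle_one, Fi22Loc.dg_one, T_one, T_single_neg, hn, neg_neg] <;>
    (exfalso; revert hh a b c; generalize cls (q 0) = x; generalize cls (q 1) = y; generalize cls (q 2) = z;
     revert x y z; decide +kernel)

theorem exists_par : ∀ x : V3, ∃ a b c : SL23, ψ a = 0 ∧ ψ b = 0 ∧ ψ c = 0 ∧ (cls a, cls b, cls c) = x := by
  have k : ∀ x : K, ∃ a : SL23, ψ a = 0 ∧ cls a = x := by decide +kernel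
  intro x
  obtain ⟨a, ha, ea⟩ := k x.1
  obtain ⟨b, hb, eb⟩ := k x.2.1
  obtain ⟨c, hc, ec⟩ := k x.2.2
  exact ⟨a, b, c, ha, hb, hc, by rw [ea, eb, ec]⟩

theorem exists_qt (x : V3) : ∃ q, Qt q ∧ par q = x := by
  obtain ⟨a, b, c, ha, hb, hc, e⟩ := exists_par x
  exact ⟨![a, b, c], fun i => by fin_cases i <;> simp [ha, hb, hc], by rw [← e]; simp [par]⟩

theorem top_hq (f : NN) (x : V3) : hq (appF (top f) x) = hq x := by
  obtain ⟨q, hq', rfl⟩ := exists_qt x
  rw [← carry_par f hq']
  obtain ⟨hc, ec⟩ := carry_spec f hq'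
  have e2 : ∀ v, T (dg (carry f q)) (T (dg (carry f q)) ((f : Equiv.Perm W8) v)) =
      (f : Equiv.Perm W8) (T (dg q) (T (dg q) v)) := fun v => by rw [ec, ec]
  have ne : ev (ix 0 0 0) ≠ -ev (ix 0 0 0) := by decide +kernel
  rcases (hq_sq (par q)).2 with h | h <;> rcases (hq_sq (par (carry f q))).2 with h' | h' <;> rw [h, h'] <;>
    · exfalso
      obtain ⟨w, hw⟩ := (f : Equiv.Perm W8).surjective (ev (ix 0 0 0))
      have := e2 w
      first
        | (rw [(T_sq hc).2 h', (T_sq hq').1 h] at this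
           rw [hw, show (f : Equiv.Perm W8) (-w) = -(f : Equiv.Perm W8) w from
             map_neg (AddMonoidHom.mk' _ f.2.add) w, hw] at this
           exact ne this)
        | (rw [(T_sq hc).1 h', (T_sq hq').2 h, hw] at this
           exact ne this.symm)

theorem top_frame (f : NN) : top f ∈ frames := frames_mem (top_hq f)

theorem appF_top (f g : NN) (x : V3) : appF (top (f * g)) x = appF (top f) (appF (top g) x) := by
  obtain ⟨q, hq', rfl⟩ := exists_qt x
  rw [← carry_par _ hq', ← carry_par g hq', ← carry_par f (carry_spec g hq').1]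
  refine carry_eq _ hq' (carry_spec f (carry_spec g hq').1).1 fun v => ?_
  simp only [Subgroup.coe_mul, Equiv.Perm.mul_apply]
  rw [(carry_spec g hq').2, (carry_spec f (carry_spec g hq').1).2]

theorem appF_ext : ∀ a b c : V3, appF (a, b, c) (1, 0, 0) = a ∧ appF (a, b, c) (0, 1, 0) = b ∧
    appF (a, b, c) (0, 0, 1) = c := by
  intro a b c
  have k : ∀ y : V3, smK 0 y = (0, 0, 0) ∧ smK 1 y = y := by decide +kernel
  have z : ∀ y : V3, y + (0, 0, 0) = y ∧ (0, 0, 0) + y = y := by decide +kernel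
  simp only [appF, k, z, and_self]

theorem top_mul (f g : NN) : top (f * g) = compF (top f) (top g) := by
  obtain ⟨a1, a2, a3⟩ := appF_ext (top g).1 (top g).2.1 (top g).2.2
  obtain ⟨b1, b2, b3⟩ := appF_ext (top (f * g)).1 (top (f * g)).2.1 (top (f * g)).2.2
  refine Prod.ext ?_ (Prod.ext ?_ ?_)
  · rw [← b1]; show appF (top (f * g)) _ = _; rw [appF_top]; exact congrArg _ a1
  · rw [← b2]; show appF (top (f * g)) _ = _; rw [appF_top]; exact congrArg _ a2
  · rw [← b3]; show appF (top (f * g)) _ = _; rw [appF_top]; exact congrArg _ a3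

theorem top_one : top 1 = oneF := by
  have h : ∀ i, par (carry 1 (rA i)) = par (rA i) := fun i => carry_eq 1 (qt_rA i) (qt_rA i) fun _ => rfl
  rw [top, h, h, h]
  decide +kernel

/-- The monomial elements in the group. -/
def TN : Bk →* NN := Te.codRestrict NN inN_T

theorem TN_coe (b : Bk) (v : W8) : ((TN b : NN) : Equiv.Perm W8) v = T b v := rfl

/-- The frame of a monomial element. -/
def topB (b : Bk) : F3 :=
  (par (b * dg (rA 0) * b⁻¹).g, par (b * dg (rA 1) * b⁻¹).g, par (b * dg (rA 2) * b⁻¹).g)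

theorem top_TN (b : Bk) : top (TN b) = topB b := by
  have h : ∀ i, par (carry (TN b) (rA i)) = par (b * dg (rA i) * b⁻¹).g := fun i => by
    obtain ⟨q, hq', e⟩ := dg_conj b (qt_rA i)
    rw [e, Fi22Loc.dg_g]
    exact carry_eq _ (qt_rA i) hq' fun v => by rw [TN_coe, TN_coe, ← T_mul, ← T_mul, ← e, inv_mul_cancel_right]
  rw [top, h, h, h]
  rfl

theorem sign_fix : ∀ i, ∀ s t : Bool, ∃ g : SL23, ψ g = 0 ∧
    g * qA * g⁻¹ = (if s then -qA else qA) ∧ g * qB * g⁻¹ = (if t then -qB else qB) ∧ i = (i : Fin 3) := by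
  decide +kernel

/-- The kernel of the frame is the product of the quaternion groups. -/
theorem top_ker {f : NN} (h : top f = oneF) : ∃ q, Qt q ∧ f = TN (dg q) := by
  classical
  have hpar : ∀ {q : Fin 3 → SL23}, Qt q → par (carry f q) = par q := fun {q} hq' => by
    rw [carry_par f hq', h]
    exact (by decide +kernel : ∀ x : V3, appF oneF x = x) _
  have sgn : ∀ {q : Fin 3 → SL23}, Qt q → ∃ s : Bool, ∀ v, (f : Equiv.Perm W8) (T (dg q) v) =
      if s then -T (dg q) ((f : Equiv.Perm W8) v) else T (dg q) ((f : Equiv.Perm W8) v) := fun {q} hq' => by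
    obtain ⟨hc, ec⟩ := carry_spec f hq'
    rcases par_eq hc hq' (hpar hq') with e | e
    · exact ⟨false, fun v => by rw [ec, e]; rfl⟩
    · exact ⟨true, fun v => by rw [ec, e]; rfl⟩
  choose sA hA using fun i => sgn (qt_rA i)
  choose sB hB using fun i => sgn (qt_rB i)
  choose g g0 gA gB _ using fun i => sign_fix i (sA i) (sB i)
  have hfix : ∀ i, ∀ (x : SL23) (s : Bool), g i * x * (g i)⁻¹ = (if s then -x else x) → ∀ v,
      T (dg g) (T (dg (Pi.mulSingle i x)) v) =
        if s then -T (dg (Pi.mulSingle i x)) (T (dg g) v) else T (dg (Pi.mulSingle i x)) (T (dg g) v) := by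
    intro i x s e v
    have eq : g * Pi.mulSingle i x = (if s then Pi.mulSingle i (-1) else 1) * (Pi.mulSingle i x * g) := by
      funext k
      by_cases hk : k = i
      · subst hk
        have e' := mul_inv_eq_iff_eq_mul.mp e
        cases s <;> simp_all
      · cases s <;> simp [hk]
    rw [← T_mul, Fi22Loc.dg_mul, eq]
    cases s
    · simp only [Bool.false_eq_true, if_false, one_mul, ← Fi22Loc.dg_mul, T_mul]
    · simp only [if_true]
      rw [← Fi22Loc.dg_mul, T_mul, T_single_neg, ← Fi22Loc.dg_mul, T_mul]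
  set f1 : NN := (TN (dg g))⁻¹ * f with hf1
  have comm : ∀ i x (s : Bool), (∀ v, (f : Equiv.Perm W8) (T (dg (Pi.mulSingle i x)) v) =
      if s then -T (dg (Pi.mulSingle i x)) ((f : Equiv.Perm W8) v) else T (dg (Pi.mulSingle i x)) ((f : Equiv.Perm W8) v)) →
      g i * x * (g i)⁻¹ = (if s then -x else x) →
      ∀ v, (f1 : Equiv.Perm W8) (T (dg (Pi.mulSingle i x)) v) = T (dg (Pi.mulSingle i x)) ((f1 : Equiv.Perm W8) v) := by
    intro i x s hs e v
    apply ((TN (dg g) : NN) : Equiv.Perm W8).injective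
    have u : ∀ w, ((TN (dg g) : NN) : Equiv.Perm W8) ((f1 : Equiv.Perm W8) w) = (f : Equiv.Perm W8) w := fun w => by
      show ((TN (dg g) * f1 : NN) : Equiv.Perm W8) w = _
      rw [hf1, mul_inv_cancel_left]
    rw [u, TN_coe, hfix i x s e, hs, ← TN_coe (dg g), u]
  obtain ⟨k, hk⟩ := commutant (AddMonoidHom.mk' _ f1.2.add) (fun i => comm i qA (sA i) (hA i) (gA i))
    (fun i => comm i qB (sB i) (hB i) (gB i))
  simp only [AddMonoidHom.mk'_apply] at hk
  have he : f = TN (dg g) * f1 := by rw [hf1, mul_inv_cancel_left]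
  rcases z_cases k with rfl | rfl | rfl
  · exfalso
    exact (by decide +kernel : ev (ix 0 0 0) ≠ 0) ((f1 : Equiv.Perm W8).injective
      ((hk _).trans (hk 0).symm))
  · refine ⟨g, g0, ?_⟩
    rw [he, show f1 = 1 from Subtype.ext (Equiv.ext fun v => hk v), mul_one]
  · refine ⟨g * Pi.mulSingle 0 (-1), fun i => ?_, ?_⟩
    · rw [Pi.mul_apply, Fi22Loc.ψ_mul, g0 i]
      fin_cases i <;> simp [Pi.mulSingle] <;> decide +kernel
    · rw [he, ← Fi22Loc.dg_mul, map_mul]
      congr 1
      exact Subtype.ext (Equiv.ext fun v => by rw [TN_coe, T_single_neg]; exact hk v)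

/-- A transversal of the signs. -/
def repQ : List SL23 := [1, qA, qB, qA * qB]

/-- Representatives of the product of the quaternion groups. -/
def qList : List (Fin 3 → SL23) :=
  repQ.flatMap fun a => repQ.flatMap fun b => ((repQ ++ repQ.map fun c => -c).map fun c => ![a, b, c])

theorem qList_length : qList.length = 128 := by decide +kernel

theorem qList_cover {q : Fin 3 → SL23} (h : Qt q) : ∃ r ∈ qList, ∀ v, T (dg q) v = T (dg r) v := by
  have k1 : ∀ a : SL23, ψ a = 0 → ∃ x ∈ repQ, a = x ∨ a = -x := by decide +kernel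
  have k2 : ∀ a : SL23, ψ a = 0 → a ∈ repQ ++ repQ.map fun c => -c := by decide +kernel
  have k3 : ∀ a : SL23, ψ a = 0 → ψ (-a) = 0 := by decide +kernel
  obtain ⟨a, ha, ea⟩ := k1 _ (h 0)
  obtain ⟨b, hb, eb⟩ := k1 _ (h 1)
  have hn : ∀ (x : Bk) v, T x (-v) = -T x v := fun x v => map_neg (AddMonoidHom.mk' (T x) (T_add x)) v
  have mem : ∀ c, ψ c = 0 → ![a, b, c] ∈ qList := fun c hc => by
    simp only [qList, List.mem_flatMap, List.mem_map]
    exact ⟨a, ha, b, hb, c, k2 c hc, rfl⟩
  have sp : ∀ r : Fin 3 → SL23, ∀ v, T (dg r) v = T (dg (Pi.mulSingle 0 (r 0)))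
      (T (dg (Pi.mulSingle 1 (r 1))) (T (dg (Pi.mulSingle 2 (r 2))) v)) := fun r v => by
    rw [← T_mul, ← T_mul, Fi22Loc.dg_mul, Fi22Loc.dg_mul, ← qt_split]
  have ng : ∀ i (x : SL23) v, T (dg (Pi.mulSingle i (-x))) v = -T (dg (Pi.mulSingle i x)) v := fun i x v => by
    rw [show -x = -1 * x by simp, Pi.mulSingle_mul, ← Fi22Loc.dg_mul, T_mul, T_single_neg]
  rcases ea with ea | ea <;> rcases eb with eb | eb
  · exact ⟨_, mem _ (h 2), fun v => by rw [sp q, sp ![a, b, q 2]]; simp [ea, eb]⟩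
  · exact ⟨_, mem _ (k3 _ (h 2)), fun v => by rw [sp q, sp ![a, b, -q 2]]; simp [ea, eb, ng, hn]⟩
  · exact ⟨_, mem _ (k3 _ (h 2)), fun v => by rw [sp q, sp ![a, b, -q 2]]; simp [ea, eb, ng, hn]⟩
  · exact ⟨_, mem _ (h 2), fun v => by rw [sp q, sp ![a, b, q 2]]; simp [ea, eb, ng, hn]⟩

instance : Finite NN := Subtype.finite

/-- The order of the group. -/
theorem card_NN_le : Nat.card NN ≤ 648 * 128 := by
  classical
  haveI : Fintype NN := Fintype.ofFinite _
  have key : ∀ f : NN, ∃ r ∈ qList, ∀ f0 : NN, top f0 = top f → ∃ r ∈ qList, f = f0 * TN (dg r) := by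
    intro f
    refine ⟨qList.head!, by decide +kernel, fun f0 e => ?_⟩
    obtain ⟨q, hq', eq⟩ := top_ker (f := f0⁻¹ * f) (by
      rw [top_mul, ← e, ← top_mul, inv_mul_cancel, top_one])
    obtain ⟨r, hr, er⟩ := qList_cover hq'
    refine ⟨r, hr, ?_⟩
    rw [show TN (dg r) = TN (dg q) from Subtype.ext (Equiv.ext fun v => (er v).symm), ← eq, mul_inv_cancel_left]
  let sel : F3 → NN := fun F => if h : ∃ f : NN, top f = F then h.choose else 1
  let φ : {F // F ∈ frames} × {r // r ∈ qList} → NN := fun p => sel p.1.1 * TN (dg p.2.1)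
  have hs : Function.Surjective φ := fun f => by
    have hF : ∃ f' : NN, top f' = top f := ⟨f, rfl⟩
    obtain ⟨-, -, hf⟩ := key f
    obtain ⟨r, hr, e⟩ := hf (sel (top f)) (by simp only [sel, dif_pos hF]; exact hF.choose_spec)
    exact ⟨(⟨_, top_frame f⟩, ⟨r, hr⟩), e.symm⟩
  refine (Nat.card_le_card_of_surjective φ hs).trans ?_
  rw [Nat.card_prod]
  have hl : ∀ {α : Type} [DecidableEq α] (l : List α), Nat.card {x // x ∈ l} ≤ l.length := fun {α} _ l => by
    rw [Nat.card_eq_fintype_card, Fintype.card_of_subtype l.toFinset fun x => List.mem_toFinset]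
    exact l.toFinset_card_le
  exact Nat.mul_le_mul ((hl frames).trans frames_length.le) ((hl qList).trans qList_length.le)

end CfsgLib.Fi23Loc
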