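import Cfsg.Agent.Lib.Fi23Loc.Sylow

/-!
The witnesses of the elements of order three are valid: checks.
-/

set_option autoImplicit false
set_option maxRecDepth 100000
set_option Elab.async false

namespace CfsgLib.Fi23Loc

open CfsgLib.Fi22Loc (Bk dg)

/-- The unit vectors in code order. -/
def units : List W8 := (List.range 8).map fun k => vn (3 ^ k)

/-- Equality of vectors, as a boolean. -/
def eqW (v w : W8) : Bool := units.all fun e => decide (Om v e = Om w e)

theorem units_ev : ∀ a : Idx, ∃ k : Fin 8, vn (3 ^ (k : ℕ)) = ev a := by decide +kernel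

theorem eqW_iff {v w : W8} : eqW v w = true ↔ v = w := by
  refine ⟨fun h => ?_, fun h => by subst h; simp [eqW]⟩
  simp only [eqW, units, List.all_eq_true, List.mem_map, List.mem_range, decide_eq_true_eq] at h
  funext a
  obtain ⟨k, hk⟩ := units_ev fun i => 1 - a i
  have e := h _ ⟨(k : ℕ), k.2, rfl⟩
  rw [hk, Om_ev, Om_ev] at e
  exact mul_left_cancel₀ (pow_ne_zero _ (by decide)) e

/-- The combination of a list with coefficients. -/
def combL : List W8 → List (ZMod 3) → W8
  | [], _ => 0
  | _, [] => 0
  | v :: vs, c :: cs => Rep.sm c v + combL vs cs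

/-- The three applications of a map added up. -/
def tr3 (b : Bk) (u : W8) : W8 := u + T b u + T b (T b u)

/-- The first part of the check: two vectors. -/
def chkL (b : Bk) (v1 v2 : W8) : Bool :=
  let d1 := v1 - T b v1
  let d2 := v2 - T b v2
  eqW (T b d1) d1 && eqW (T b d2) d2 && decide (Om d1 d2 = 0) && decide (Om v1 (T b v1) = 0) &&
    decide (Om v2 (T b v2) = 0) && decide (Om v1 (T b v2) + Om v2 (T b v1) = 0) &&
    (!eqW d1 0) && (!eqW d2 0) && (!eqW d1 d2) && (!eqW d1 (-d2))

/-- The second part: the section of the difference map modulo the duals of the fixed vectors. -/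
def chkS (b : Bk) (S : List ℕ) (fs : List (ℕ × ℕ)) : Bool :=
  (fs.all fun f => eqW (T b (vn f.1)) (vn f.1)) &&
    (List.range 8).all fun e =>
      let u := vn (3 ^ e)
      let s := vn (S.getD e 0)
      eqW u (s - T b s + combL (fs.map fun f => vn f.2) (fs.map fun f => Om u (vn f.1)))

/-- Whether the parameters give a diagonal element moving one factor. -/
def singleB (p : Fin 3 × Fin 3 × Fin 3 × Fin 3) : Bool :=
  decide (p.2.2.2 = 0) && ((decide (p.1 ≠ 0) && decide (p.2.1 = 0) && decide (p.2.2.1 = 0)) ||
    (decide (p.1 = 0) && decide (p.2.1 ≠ 0) && decide (p.2.2.1 = 0)) ||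
    (decide (p.1 = 0) && decide (p.2.1 = 0) && decide (p.2.2.1 ≠ 0)))

/-- All coefficient lists. -/
def coefs : ℕ → List (List (ZMod 3))
  | 0 => [[]]
  | n + 1 => (coefs n).flatMap fun l => [0 :: l, 1 :: l, 2 :: l]

/-- The third part: fixed differences. -/
def chkW (p : Fin 3 × Fin 3 × Fin 3 × Fin 3) (b : Bk) (ws : List (ℕ × ℕ)) : Bool :=
  let ds := ws.map fun w => vn w.1 - T b (vn w.1)
  (ds.all fun d => eqW (T b d) d && ds.all fun e => decide (Om d e = 0)) &&
    ((coefs ws.length).all fun c => c.all (fun x => decide (x = 0)) || !eqW (combL ds c) 0) &&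
    (if singleB p then decide (ws.length = 4)
     else decide (ws.length = 3) || (decide (ws.length = 2) && ws.all fun w =>
       (List.range 8).all fun e =>
         let u := vn (3 ^ e)
         decide (Om u (vn w.1 - T b (vn w.1)) = Om (tr3 b u) (vn w.2))))

/-- The whole check. -/
def chkWit (w : Wit) : Bool :=
  chkL (pel w.p) (vn w.v1) (vn w.v2) && chkS (pel w.p) w.S w.fs && chkW w.p (pel w.p) w.ws

theorem wit_ok : (witList.all chkWit) = true := by decide +kernel

theorem wit_cover : ∀ x, eqB (pel x * pel x * pel x) 1 = true → x ≠ (0, 0, 0, 0) →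
    (witList.any fun w => decide (w.p = x)) = true := by decide +kernel

end CfsgLib.Fi23Loc
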